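import Cfsg.Agent.H56.Inv.OrthProd
import Cfsg.Agent.Chevalley.Relations

/-!
Certificates for the rank of `u - 1` on the adjoint module in characteristic two, `u` a product of
root elements with parameter one.
-/
set_option autoImplicit false
set_option maxRecDepth 100000

namespace Cfsg.Agent.H56.Inv

open Cfsg.Lie Cfsg.Agent.H37 Cfsg.Agent.H37.RootSys Cfsg.Agent.Chevalley
open scoped Matrix

/-- The parity mask of a sparse vector. -/
def maskOf : SVec → ℕ
  | [] => 0
  | p :: v => (if p.2 % 2 = 0 then 0 else 2 ^ p.1) ^^^ maskOf v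

/-- The sum of the entries selected by a mask. -/
def xorSel : List ℕ → ℕ → ℕ
  | [], _ => 0
  | a :: L, m => (if m.testBit 0 then a else 0) ^^^ xorSel L (m / 2)

variable {F : Type*} [Field F] [CharP F 2]

/-- A bit as a field element. -/
def bitF (F : Type*) [Field F] (b : Bool) : F := if b then 1 else 0

theorem bitF_xor (a b : Bool) : bitF F (a ^^ b) = bitF F a + bitF F b := by
  cases a <;> cases b <;> simp [bitF, CharTwo.add_self_eq_zero]

omit [CharP F 2] in
theorem bitF_zero (i : ℕ) : bitF F ((0 : ℕ).testBit i) = 0 := by simp [bitF]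

theorem bit_maskOf (v : SVec) (i : ℕ) : bitF F ((maskOf v).testBit i) = ((get v i : ℤ) : F) := by
  induction v with
  | nil => simp [maskOf, bitF]
  | cons p v ih =>
    rw [maskOf, Nat.testBit_xor, bitF_xor, ih, get_cons, Int.cast_add]
    congr 1
    rcases Int.emod_two_eq_zero_or_one p.2 with h | h
    · rw [if_pos h, bitF_zero]
      split
      · obtain ⟨k, hk⟩ := Int.dvd_of_emod_eq_zero h
        rw [hk]; push_cast; rw [CharTwo.two_eq_zero]; ring
      · simp
    · rw [if_neg (by omega), Nat.testBit_two_pow]
      by_cases hp : p.1 = i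
      · rw [if_pos hp]
        have e : p.2 = 2 * (p.2 / 2) + 1 := by omega
        rw [e]; push_cast
        simp [bitF, hp, CharTwo.two_eq_zero]
      · simp [bitF, hp]

theorem bit_xorSel : ∀ (L : List ℕ) (m i : ℕ), bitF F ((xorSel L m).testBit i) =
    ∑ k : Fin L.length, bitF F (m.testBit k.val) * bitF F ((L[k.val]).testBit i)
  | [], m, i => by simp [xorSel, bitF]
  | a :: L, m, i => by
    rw [xorSel, Nat.testBit_xor, bitF_xor, bit_xorSel L (m / 2) i]
    show _ = ∑ k : Fin (L.length + 1), _
    rw [Fin.sum_univ_succ]
    congr 1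
    · by_cases h : m.testBit 0 = true
      · cases hb : a.testBit i <;> simp [h, hb, bitF]
      · simp [h, bitF]
    · refine Finset.sum_congr rfl fun k _ => ?_
      simp [Nat.testBit_succ]

variable {D : ChevalleyDatum}

/-- The columns of `u - 1`, as masks, for a product of root elements with parameter one. -/
def colMask (D : ChevalleyDatum) (L : List ℕ) (j : ℕ) : ℕ :=
  maskOf (wordCol D (L.map fun r => (r, (1 : ℤ))) j) ^^^ 2 ^ j

/-- A rank certificate: the columns, a triangular basis of their span with the selections and the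
pivots, and the coefficients of the columns. -/
structure RankCert where
  cols : List ℕ
  basis : List ℕ
  sel : List ℕ
  piv : List ℕ
  coef : List ℕ

/-- The check of a rank certificate. -/
def RankCert.check (c : RankCert) (D : ChevalleyDatum) (L : List ℕ) : Bool :=
  (L.all fun r => decide (r < D.nroots)) &&
  decide ((List.range (D.rank + D.nroots)).map (colMask D L) = c.cols) &&
  decide (c.sel.map (xorSel c.cols) = c.basis) &&
  decide (c.coef.map (xorSel c.basis) = c.cols) &&
  decide (c.piv.length = c.basis.length) &&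
  ((c.basis.zip c.piv).all fun p => p.1.testBit p.2 && decide (p.2 < D.rank + D.nroots)) &&
  (List.range c.basis.length).all fun k =>
    (c.piv.drop (k + 1)).all fun p => !((c.basis.getD k 0).testBit p)

theorem cast_xR (K : Cert D) {r : ℕ} (hr : r < D.nroots) :
    D.x F r 1 = (xR D ℤ r 1).map (Int.castRingHom F) := by
  rw [xR_map, K.x_eq hr, map_one]

theorem wordMat_cast (K : Cert D) (L : List ℕ) (hL : ∀ r ∈ L, r < D.nroots) :
    (L.map fun r => D.x F r 1).prod =
      (wordR D ℤ (L.map fun r => (r, (1 : ℤ)))).map (Int.castRingHom F) := by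
  rw [wordR_map, K.wordR_eq F _ (by simpa using hL), ChevalleyDatum.wordMat, List.map_map,
    List.map_map]
  refine congrArg List.prod (List.map_congr_left fun r _ => ?_)
  simp

theorem RankCert.rank_eq (K : Cert D) (hT : TargetsOK D) {c : RankCert} {L : List ℕ}
    (h : c.check D L = true) :
    ((L.map fun r => D.x F r 1).prod - 1).rank = c.basis.length := by
  classical
  simp only [RankCert.check, Bool.and_eq_true, List.all_eq_true, decide_eq_true_eq,
    List.mem_range, Bool.not_eq_true'] at h
  obtain ⟨⟨⟨⟨⟨⟨hL, hcols⟩, hsel⟩, hcoef⟩, hlen⟩, hpiv⟩, htri⟩ := h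
  have hclen : c.cols.length = D.rank + D.nroots := by rw [← hcols]; simp
  have hM : ∀ row col : D.Idx, ((L.map fun r => D.x F r 1).prod - 1) row col =
      bitF F ((c.cols[idxNat col]'((idxNat_lt col).trans_eq hclen.symm)).testBit (idxNat row)) := by
    intro row col
    rw [wordMat_cast K L hL, Matrix.sub_apply, Matrix.map_apply,
      wordR_eq_get hT _ (by simpa using hL), Int.coe_castRingHom]
    simp only [← hcols, List.getElem_map, List.getElem_range, colMask]
    rw [Nat.testBit_xor, bitF_xor, bit_maskOf, CharTwo.sub_eq_add, Nat.testBit_two_pow]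
    congr 1
    by_cases e : row = col
    · subst e; simp [bitF]
    · have : idxNat col ≠ idxNat row := fun h => e (idxNat_inj h).symm
      simp [e, bitF, this]
  set n := c.basis.length
  let B : Matrix D.Idx (Fin n) F := Matrix.of fun row k =>
    bitF F ((c.basis[k.val]'k.isLt).testBit (idxNat row))
  have hlenc : c.coef.length = c.cols.length := by rw [← hcoef]; simp
  have hlens : c.sel.length = n := by
    show c.sel.length = c.basis.length
    rw [← hsel]; simp
  let C : Matrix (Fin n) D.Idx F := Matrix.of fun k col =>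
    bitF F ((c.coef[idxNat col]'(by rw [hlenc, hclen]; exact idxNat_lt col)).testBit k.val)
  let A : Matrix D.Idx (Fin n) F := Matrix.of fun col k =>
    bitF F ((c.sel[k.val]'(hlens.symm ▸ k.isLt)).testBit (idxNat col))
  set M := (L.map fun r => D.x F r 1).prod - 1
  refine le_antisymm ?_ ?_
  · have e : M = B * C := by
      ext row col
      rw [hM, Matrix.mul_apply]
      conv_lhs => simp only [← hcoef, List.getElem_map]
      rw [bit_xorSel]
      refine Finset.sum_congr rfl fun k _ => ?_
      simp [B, C, mul_comm]
    rw [e]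
    exact (Matrix.rank_mul_le_left B C).trans ((Matrix.rank_le_card_width B).trans (by simp))
  · have e : B = M * A := by
      ext row k
      rw [Matrix.mul_apply]
      show bitF F ((c.basis[k.val]'k.isLt).testBit (idxNat row)) = _
      conv_lhs => simp only [← hsel, List.getElem_map]
      rw [bit_xorSel]
      symm
      refine Finset.sum_bij
        (fun col _ => (⟨idxNat col, (idxNat_lt col).trans_eq hclen.symm⟩ : Fin c.cols.length))
        (fun _ _ => Finset.mem_univ _) (fun a _ b _ e => idxNat_inj (congrArg Fin.val e))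
        (fun k _ => ?_) (fun col _ => ?_)
      · obtain ⟨x, hx⟩ := exists_idxNat (D := D) (k.isLt.trans_eq hclen)
        exact ⟨x, Finset.mem_univ _, Fin.ext hx⟩
      · rw [hM]; simp [A, mul_comm]
    have hp : ∀ k : Fin n, ∃ x : D.Idx, idxNat x = c.piv[k.val]'(hlen.symm ▸ k.isLt) := fun k =>
      exists_idxNat (hpiv (c.basis[k.val], c.piv[k.val]'(hlen.symm ▸ k.isLt)) (by
        rw [List.mem_iff_getElem]
        exact ⟨k.val, by simp [hlen, n], by simp⟩)).2
    choose ρ hρ using hp
    set T := B.submatrix ρ id
    have hdiag : ∀ k, T k k = 1 := by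
      intro k
      show bitF F ((c.basis[k.val]'k.isLt).testBit (idxNat (ρ k))) = 1
      rw [hρ, (hpiv (c.basis[k.val], c.piv[k.val]'(hlen.symm ▸ k.isLt)) (by
        rw [List.mem_iff_getElem]
        exact ⟨k.val, by simp [hlen, n], by simp⟩)).1]
      rfl
    have hT' : T.BlockTriangular id := by
      intro i j hij
      show bitF F ((c.basis[j.val]'j.isLt).testBit (idxNat (ρ i))) = 0
      rw [hρ]
      have hji : j.val + 1 ≤ i.val := hij
      have := htri j.val j.isLt (c.piv[i.val]'(hlen.symm ▸ i.isLt)) (by
        rw [List.mem_iff_getElem]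
        refine ⟨i.val - (j.val + 1), by rw [List.length_drop, hlen]; omega, ?_⟩
        simp only [List.getElem_drop]
        congr 1
        omega)
      rw [List.getD_eq_getElem _ _ j.isLt] at this
      simp [bitF, this]
    have hdet : IsUnit T := by
      rw [Matrix.isUnit_iff_isUnit_det, Matrix.det_of_isUpperTriangular hT']
      simp [hdiag]
    calc n = T.rank := by rw [Matrix.rank_of_isUnit T hdet, Fintype.card_fin]
      _ ≤ B.rank := Matrix.rank_submatrix_le B ρ id
      _ ≤ M.rank := by rw [e]; exact Matrix.rank_mul_le_left M A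

variable (Q : Chev.Data D F)

omit [CharP F 2] in
theorem val_prodX (L : List ℕ) :
    ((prodX Q L : ↥(D.group F)) : GL D.Idx F).val = (L.map fun r => D.x F r 1).prod := by
  induction L with
  | nil => rfl
  | cons a L ih =>
    rw [prodX_cons, List.map_cons, List.prod_cons, ← ih]
    rfl

omit [CharP F 2] in
/-- The rank of `u - 1` is invariant under conjugation. -/
theorem rank_conj {L L' : List ℕ} (c : ↥(D.group F)) (e : c * prodX Q L * c⁻¹ = prodX Q L') :
    ((L'.map fun r => D.x F r 1).prod - 1).rank =
      ((L.map fun r => D.x F r 1).prod - 1).rank := by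
  have e' : ((c : GL D.Idx F) : Matrix D.Idx D.Idx F) * (L.map fun r => D.x F r 1).prod *
      ((c : GL D.Idx F)⁻¹ : GL D.Idx F).val = (L'.map fun r => D.x F r 1).prod := by
    rw [← val_prodX Q L, ← val_prodX Q L', ← e]
    rfl
  have hval : ((c : GL D.Idx F) : Matrix D.Idx D.Idx F) * ((L.map fun r => D.x F r 1).prod - 1) *
      ((c : GL D.Idx F)⁻¹ : GL D.Idx F).val = (L'.map fun r => D.x F r 1).prod - 1 := by
    rw [mul_sub, sub_mul, e', mul_one]
    simp
  rw [← hval, Matrix.rank_mul_eq_left_of_isUnit_det _ _
    ((Matrix.isUnit_iff_isUnit_det _).1 (Units.isUnit _)),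
    Matrix.rank_mul_eq_right_of_isUnit_det _ _
    ((Matrix.isUnit_iff_isUnit_det _).1 (Units.isUnit _))]

end Cfsg.Agent.H56.Inv
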