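import Cfsg.Agent.H56.Inv.Walk
import Cfsg.Agent.H56.Inv.Rank

/-!
The classes of involutions from the certificates.
-/
set_option autoImplicit false

namespace Cfsg.Agent.H56.Inv

open Cfsg.Lie Cfsg.Agent.H37 Cfsg.Agent.H37.RootSys

variable {D : ChevalleyDatum} {F : Type*} [Field F] [CharP F 2]

/-- The orthogonality check of a list of roots. -/
def orthOk (D : ChevalleyDatum) : List ℕ → Bool
  | [] => true
  | a :: L => decide (a < D.nroots) && (L.all fun b => pb D a b == 0 && pb D b a == 0) &&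
      orthOk D L

omit [CharP F 2] in
theorem sorth_of_orthOk : ∀ {L : List ℕ}, orthOk D L = true → SOrth D L
  | [], _ => ⟨List.Pairwise.nil, by simp⟩
  | a :: L, h => by
    simp only [orthOk, Bool.and_eq_true, decide_eq_true_eq, List.all_eq_true, beq_iff_eq] at h
    obtain ⟨hp, hl⟩ := sorth_of_orthOk h.2
    exact ⟨List.pairwise_cons.2 ⟨h.1.2, hp⟩, List.forall_mem_cons.2 ⟨h.1.1, hl⟩⟩

variable {Q : Chev.Data D F} (h : SL Q)

theorem prodX_sq : ∀ {L : List ℕ}, SL Q → SOrth D L → prodX Q L * prodX Q L = 1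
  | [], _, _ => by simp [prodX]
  | a :: L, h, hL => by
    have hL' : SOrth D L := ⟨(List.pairwise_cons.1 hL.1).2, fun r hr => hL.2 r (by simp [hr])⟩
    have e : prodX Q (a :: L) = prodX Q L * Q.sys.x a 1 := by
      rw [prodX_perm h (show (a :: L).Perm (L ++ [a]) from (List.perm_append_singleton a L).symm) hL]
      simp [prodX]
    have ha : Q.sys.x a 1 * Q.sys.x a 1 = 1 := by
      rw [← Q.sys.x_add' a (hL.2 a (by simp)), CharTwo.add_self_eq_zero,
        x_zero (hL.2 a (by simp))]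
    conv_lhs => rw [e]; enter [2]; rw [← e, prodX_cons]
    rw [mul_assoc, ← mul_assoc (Q.sys.x a 1), ha, one_mul, prodX_sq h hL']

/-- The data deciding the classes: representatives with certified ranks. -/
structure ClassCert (Q : Chev.Data D F) where
  /-- the representatives, the empty one first -/
  Rs : List (List ℕ)
  /-- the ranks of the nontrivial representatives -/
  ranks : List ℕ
  len_ok : Rs.length = ranks.length + 1
  first : Rs.getD 0 [1] = []
  sl : SL Q
  hT : Chevalley.TargetsOK D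
  cover : ∀ g : ↥(D.group F), g * g = 1 →
    ∃ c : ↥(D.group F), ∃ j < Rs.length, c * g * c⁻¹ = prodX Q (Rs.getD j [])
  orth : ∀ j < ranks.length, orthOk D (Rs.getD (j + 1) []) = true
  rank_ok : ∀ j < ranks.length,
    (((Rs.getD (j + 1) []).map fun r => D.x F r 1).prod - 1).rank = ranks.getD j 0
  distinct : (0 :: ranks).Nodup

namespace ClassCert

variable (C : ClassCert Q)
include C

/-- The representative. -/
def rep (j : ℕ) : ↥(D.group F) := prodX Q (C.Rs.getD (j + 1) [])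

theorem rep_sq {j : ℕ} (hj : j < C.ranks.length) : C.rep j * C.rep j = 1 :=
  prodX_sq C.sl (sorth_of_orthOk (C.orth j hj))

theorem conj_eq {i j : ℕ} (hi : i < C.ranks.length) (hj : j < C.ranks.length)
    (c : ↥(D.group F)) (e : c * C.rep i * c⁻¹ = C.rep j) : i = j := by
  have h := rank_conj Q c e
  rw [C.rank_ok i hi, C.rank_ok j hj, List.getD_eq_getElem _ _ hi,
    List.getD_eq_getElem _ _ hj] at h
  exact (List.Nodup.getElem_inj_iff (List.nodup_cons.1 C.distinct).2).1 h.symm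

theorem rep_ne {j : ℕ} (hj : j < C.ranks.length) : C.rep j ≠ 1 := by
  intro e
  have h := C.rank_ok j hj
  rw [← val_prodX Q, show prodX Q (C.Rs.getD (j + 1) []) = 1 from e, List.getD_eq_getElem _ _ hj]
    at h
  simp only [OneMemClass.coe_one, Units.val_one, sub_self, Matrix.rank_zero] at h
  exact (List.nodup_cons.1 C.distinct).1 (h ▸ List.getElem_mem hj)

theorem orderOf_rep {j : ℕ} (hj : j < C.ranks.length) : orderOf (C.rep j) = 2 := by
  have : Fact (Nat.Prime 2) := ⟨Nat.prime_two⟩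
  exact orderOf_eq_prime (by rw [pow_two, C.rep_sq hj]) (C.rep_ne hj)

theorem exists_rep {g : ↥(D.group F)} (hg : orderOf g = 2) :
    ∃ j < C.ranks.length, ∃ c : ↥(D.group F), c * g * c⁻¹ = C.rep j := by
  have hg2 : g * g = 1 := by
    have h := pow_orderOf_eq_one g
    rw [hg, pow_two] at h
    exact h
  obtain ⟨c, j, hj, e⟩ := C.cover g hg2
  rcases j with _ | j
  · exfalso
    have h0 : C.Rs.getD 0 [] = [] := by
      rw [List.getD_eq_getElem _ _ hj]
      have := C.first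
      rwa [List.getD_eq_getElem _ _ hj] at this
    rw [h0, prodX, List.map_nil, List.prod_nil, conj_eq_one_iff] at e
    rw [e, orderOf_one] at hg
    omega
  · exact ⟨j, by rw [C.len_ok] at hj; omega, c, e⟩

/-- The number of classes. -/
theorem ncard_classes :
    (ConjClasses.mk '' {g : ↥(D.group F) | orderOf g = 2}).ncard = C.ranks.length := by
  have hset : ConjClasses.mk '' {g : ↥(D.group F) | orderOf g = 2} =
      Set.range fun j : Fin C.ranks.length => ConjClasses.mk (C.rep j) := by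
    ext x
    constructor
    · rintro ⟨g, hg, rfl⟩
      obtain ⟨j, hj, c, e⟩ := C.exists_rep hg
      exact ⟨⟨j, hj⟩, (ConjClasses.mk_eq_mk_iff_isConj.2 (isConj_iff.2 ⟨c, e⟩)).symm⟩
    · rintro ⟨j, rfl⟩
      exact ⟨C.rep j, C.orderOf_rep j.isLt, rfl⟩
  rw [hset, Set.ncard_range_of_injective, Nat.card_fin]
  intro i j e
  obtain ⟨c, hc⟩ := isConj_iff.1 (ConjClasses.mk_eq_mk_iff_isConj.1 e)
  exact Fin.ext (C.conj_eq i.isLt j.isLt c hc)

/-- The matrix form of the three clauses. -/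
theorem matrix_form {L : List (Matrix D.Idx D.Idx F)}
    (hL : L = (List.range C.ranks.length).map fun j =>
      ((C.Rs.getD (j + 1) []).map fun r => D.x F r 1).prod) :
    (∀ y : GL D.Idx F, (y : Matrix D.Idx D.Idx F) ∈ L → y ∈ D.group F ∧ orderOf y = 2) ∧
    (∀ g ∈ D.group F, orderOf g = 2 → ∃ y ∈ D.group F, (y : Matrix D.Idx D.Idx F) ∈ L ∧
      ∃ h ∈ D.group F, h * g * h⁻¹ = y) ∧
    (∀ y₁ ∈ D.group F, ∀ y₂ ∈ D.group F, (y₁ : Matrix D.Idx D.Idx F) ∈ L →
      (y₂ : Matrix D.Idx D.Idx F) ∈ L → (∃ h ∈ D.group F, h * y₁ * h⁻¹ = y₂) →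
      (y₁ : Matrix D.Idx D.Idx F) = (y₂ : Matrix D.Idx D.Idx F)) := by
  have key : ∀ y : GL D.Idx F, (y : Matrix D.Idx D.Idx F) ∈ L →
      ∃ j < C.ranks.length, y = (C.rep j : GL D.Idx F) := by
    intro y hy
    rw [hL, List.mem_map] at hy
    obtain ⟨j, hj, e⟩ := hy
    exact ⟨j, List.mem_range.1 hj, Units.ext (e.symm.trans (val_prodX Q _).symm)⟩
  refine ⟨fun y hy => ?_, fun g hg hg2 => ?_, fun y₁ hy₁ y₂ hy₂ h₁ h₂ hc => ?_⟩
  · obtain ⟨j, hj, rfl⟩ := key y hy
    exact ⟨SetLike.coe_mem _, by rw [Subgroup.orderOf_coe]; exact C.orderOf_rep hj⟩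
  · obtain ⟨j, hj, c, e⟩ := C.exists_rep (g := ⟨g, hg⟩) (by rw [← Subgroup.orderOf_coe]; exact hg2)
    refine ⟨C.rep j, SetLike.coe_mem _, ?_, c, SetLike.coe_mem _, ?_⟩
    · rw [hL, List.mem_map]
      exact ⟨j, List.mem_range.2 hj, (val_prodX Q _).symm⟩
    · rw [← e]; rfl
  · obtain ⟨i, hi, rfl⟩ := key y₁ h₁
    obtain ⟨j, hj, rfl⟩ := key y₂ h₂
    obtain ⟨c, hcm, e⟩ := hc
    rw [C.conj_eq hi hj ⟨c, hcm⟩ (Subtype.ext e)]

end ClassCert

end Cfsg.Agent.H56.Inv
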