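import Cfsg.Agent.H56.Inv.E62Data
import Cfsg.Agent.H56.TwAut.E6

/-!
`²E₆(q)`, `q` even, has exactly three classes of involutions.
-/
set_option autoImplicit false
set_option maxRecDepth 100000

namespace Cfsg.Agent.H56.Inv.E62

open Cfsg.Lie Cfsg.Agent Cfsg.Agent.H37 Cfsg.Agent.H37.NormalForm Cfsg.Agent.H37.RootSys
  Cfsg.Agent.H37.Twist Cfsg.Agent.H56.Inv Cfsg.Agent.H56.Inv.Tw

variable {K : Type*} [Field K] {φ : K →+* K} [CharP K 2] [Fintype K] {q : ℕ}
  (hφ : ∀ t, φ t = t ^ q) (hK : Fintype.card K = q ^ 2)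

omit [Field K] [CharP K 2] [Fintype K] in
theorem rho_eq : ∀ r < chevE6.nroots, Twist.E6.tables.rh r = rho r := by decide +kernel

theorem reps_ok : ∀ i < 3,
    Gen.pcommB chevE6 (reps.getD i [] ++ reps.getD i []) = true ∧
    (reps.getD i [] ++ reps.getD i []).isPerm ((reps.getD i []).flatMap fun a => [a, a]) = true ∧
    ((reps.getD i []).map rho).isPerm (reps.getD i []) = true ∧
    Gen.pcommB chevE6 ((reps.getD i []).map rho) = true := by
  decide +kernel

theorem piv_comm : ∀ j < nodes.length,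
    Gen.pcommB chevE6 ((nodes.getD j ⟨[], [], []⟩).piv.flatMap rts) = true := by decide +kernel

omit [Fintype K] in
theorem σ_x' (r : ℕ) (hr : r < chevE6.nroots) (t : K) :
    (Twist.E6.endo φ).σ (xG (Twist.E6.QE K).K K r t) =
      xG (Twist.E6.QE K).K K (rho r) (φ t) := by
  rw [(Twist.E6.endo φ).σ_x r hr t]
  have hf : (Twist.E6.endo φ).f r t = (H37.Sym.dataE6.sg r : K) * φ t := rfl
  have hs : (H37.Sym.dataE6.sg r : K) = 1 := by
    rcases Sym.Good.sg_pm (T := H37.Sym.dataE6) r with h | h <;> simp [h, CharTwo.neg_eq]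
  rw [hf, hs, one_mul]
  exact congrArg (fun i => xG (Twist.E6.QE K).K K i (φ t)) (rho_eq r hr)

include hφ hK in
omit [CharP K 2] in
theorem exists_moved : ∃ x : K, φ x ≠ x := by
  by_contra h
  simp only [not_exists, not_not] at h
  have e := (card_pow_eq_self (Twist.E6.two_le hK) (Twist.E6.sub_dvd hK)).2
  have hall : Nat.card {t : K // t ^ q = t} = Nat.card K :=
    Nat.card_congr (Equiv.subtypeUnivEquiv fun t => by rw [← hφ]; exact h t)
  rw [hall, Nat.card_eq_fintype_card, hK] at e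
  have hq := Twist.E6.two_le hK
  have := Nat.mul_le_mul_left q hq
  rw [pow_two] at e
  omega

include hφ hK in
theorem exists_mu : ∃ μ : K, μ + φ μ = 1 := by
  obtain ⟨x, hx⟩ := exists_moved hφ hK
  have hd : x + φ x ≠ 0 := fun e => hx (CharTwo.add_eq_zero.1 e).symm
  refine ⟨x / (x + φ x), ?_⟩
  have h2 : φ (φ x) = x := by rw [hφ, hφ]; exact Twist.E6.pow_two_card hK x
  rw [map_div₀, map_add, h2, add_comm (φ x) x, ← add_div, div_self hd]

/-- The endomorphism, in the form used by the engine. -/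
noncomputable def twData : TwData (Twist.E6.QE K) where
  ρ := rho
  φ := φ
  σ := (Twist.E6.endo φ).σ
  σ_x := σ_x'
  φ_inv t := by rw [hφ, hφ]; exact Twist.E6.pow_two_card hK t
  μ := (exists_mu hφ hK).choose
  μ_spec := (exists_mu hφ hK).choose_spec

/-- A representative. -/
def rep (i : ℕ) : ↥(chevE6.group K) := prodX (Twist.E6.QE K) (reps.getD i [])

theorem rep_fixed {i : ℕ} (hi : i < 3) :
    (Twist.E6.endo φ).σ (rep (K := K) i) = rep i := by
  obtain ⟨h1, -, hp, hc⟩ := reps_ok i hi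
  rw [List.isPerm_iff] at hp
  rw [Gen.pcommB] at h1
  simp only [List.all_eq_true, Bool.and_eq_true, decide_eq_true_eq] at h1
  rw [rep, prodX, map_list_prod, List.map_map]
  have e : (reps.getD i []).map (⇑(Twist.E6.endo φ).σ ∘ fun r => (Twist.E6.QE K).sys.x r (1 : K)) =
      ((reps.getD i []).map rho).map fun r => (Twist.E6.QE K).sys.x r (1 : K) := by
    rw [List.map_map]
    refine List.map_congr_left fun r hr => ?_
    show (Twist.E6.endo φ).σ (xG (Twist.E6.QE K).K K r (1 : K)) =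
      xG (Twist.E6.QE K).K K (rho r) 1
    rw [σ_x' r (h1 r (List.mem_append_left _ hr)).1, map_one]
  rw [e]
  exact Gen.prodX_perm' (Twist.E6.QE K) hc hp

theorem rank_rep {i : ℕ} (hi : i < 3) :
    (((reps.getD i []).map fun r => chevE6.x K r 1).prod - 1).rank = [22, 32, 38].getD i 0 := by
  have hT := (Twist.E6.QE K).K.targetsOK
  match i, hi with
  | 0, _ => exact RankCert.rank_eq (Twist.E6.QE K).K hT rank1_ok
  | 1, _ => exact RankCert.rank_eq (Twist.E6.QE K).K hT rank2_ok
  | 2, _ => exact RankCert.rank_eq (Twist.E6.QE K).K hT rank3_ok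

omit [Fintype K] in
theorem rep_sq {i : ℕ} (hi : i < 3) : rep (K := K) i * rep i = 1 := by
  obtain ⟨h1, h2, -⟩ := reps_ok i hi
  rw [List.isPerm_iff] at h2
  rw [rep, ← Gen.prodX_append, Gen.prodX_perm' (Twist.E6.QE K) h1 h2, Gen.prodX_dup]
  intro a ha
  simp only [Gen.pcommB, List.all_eq_true, Bool.and_eq_true, decide_eq_true_eq] at h1
  exact (h1 a (List.mem_append_left _ ha)).1

theorem rep_ne {i : ℕ} (hi : i < 3) : rep (K := K) i ≠ 1 := by
  intro e
  have h := rank_rep (K := K) hi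
  rw [← val_prodX (Twist.E6.QE K),
    show prodX (Twist.E6.QE K) (reps.getD i []) = 1 from e] at h
  simp only [OneMemClass.coe_one, Units.val_one, sub_self, Matrix.rank_zero] at h
  revert h
  match i, hi with
  | 0, _ => decide
  | 1, _ => decide
  | 2, _ => decide

theorem conj_eq {i j : ℕ} (hi : i < 3) (hj : j < 3) (c : ↥(chevE6.group K))
    (e : c * rep i * c⁻¹ = rep j) : i = j := by
  have h := rank_conj (Twist.E6.QE K) c e
  rw [rank_rep hi, rank_rep hj] at h
  exact (show ∀ i < 3, ∀ j < 3, [22, 32, 38].getD j 0 = [22, 32, 38].getD i 0 → i = j by decide)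
    i hi j hj h

include hφ hK

/-- Every fixed involution of `U` is conjugate by a fixed element to a representative. -/
theorem cover {u : ↥(chevE6.group K)} (hu : u ∈ (Twist.E6.QE K).sys.U)
    (hfix : (Twist.E6.endo φ).σ u = u) (hu2 : u * u = 1) (hne : u ≠ 1) :
    ∃ i < 3, ∃ c : ↥(chevE6.group K), (Twist.E6.endo φ).σ c = c ∧ c * u * c⁻¹ = rep i := by
  obtain ⟨c, hcf, -, L, ⟨j, hj, hL⟩, e⟩ := exists_list_aux (twData hφ hK) tables nodes_ok
    nodes.length 0 (show 0 < nodes.length by decide +kernel) (by omega) u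
    (XS_mono (fun r hr => Gen.mem_coe_list.2 ((show ∀ r < chevE6.nroots, chevE6.nroots / 2 ≤ r →
      r ∈ suf (nodes.getD 0 ⟨[], [], []⟩).sup 0 by decide +kernel) r
      (mem_posSet.1 (Finset.mem_coe.1 hr)).1 (mem_posSet.1 (Finset.mem_coe.1 hr)).2)) hu)
    hfix hu2
  rw [show (nodes.getD 0 ⟨[], [], []⟩).piv = [] from rfl, List.nil_append] at hL
  have hj0 : 0 < j := by
    rcases Nat.eq_zero_or_pos j with rfl | h
    · exfalso
      rw [show L = [] from List.Perm.eq_nil (by simpa [nodes, node0] using hL)] at e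
      simp only [List.flatMap_nil, prodX, List.map_nil, List.prod_nil] at e
      exact hne (conj_eq_one_iff.1 e)
    · exact h
  obtain ⟨i, hi, ch, hch⟩ := chains j hj hj0
  obtain ⟨d, hdf, hd⟩ := chain_conj (twData hφ hK) ch _ _ hch
  refine ⟨i, hi, d * c, ?_, ?_⟩
  · rw [map_mul]; exact congrArg₂ (· * ·) hdf hcf
  · rw [show d * c * u * (d * c)⁻¹ = d * (c * u * c⁻¹) * d⁻¹ by group, e,
      ← Gen.prodX_perm' (Twist.E6.QE K) (piv_comm j hj) (hL.symm.flatMap_right rts), hd, rep]

/-- `²E₆(q)`, `q` even: the three classes. -/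
theorem ncard_classes :
    (ConjClasses.mk '' {g : ↥(Twist.E6.model hφ hK).T | orderOf g = 2}).ncard = 3 := by
  classical
  haveI : Fact (Nat.Prime 2) := ⟨Nat.prime_two⟩
  set Md := Twist.E6.model hφ hK
  let g : Fin 3 → ↥Md.T := fun i => Md.iso ⟨rep i.val, rep_fixed i.isLt⟩
  have lg : ∀ i : Fin 3, TwAut.lift Md (g i) = rep i.val := fun i => TwAut.lift_iso _ _
  have hset : ConjClasses.mk '' {x : ↥Md.T | orderOf x = 2} =
      Set.range fun i : Fin 3 => ConjClasses.mk (g i) := by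
    ext C
    constructor
    · rintro ⟨x, hx, rfl⟩
      have hUp : IsPGroup 2 Md.tw.U := by
        have := TwAut.isPGroup_U Md
        rwa [ringChar.eq K 2] at this
      have hidx : ¬ 2 ∣ Md.tw.U.index := by
        have := TwAut.index_U Md
        rwa [ringChar.eq K 2] at this
      obtain ⟨P, hP⟩ := (IsPGroup.of_card (p := 2) (n := 1)
        (by rw [Nat.card_zpowers, hx, pow_one]) : IsPGroup 2 (Subgroup.zpowers x)).exists_le_sylow
      obtain ⟨a, ha⟩ := MulAction.exists_smul_eq (↥Md.T) P (hUp.toSylow hidx)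
      have haU : a * x * a⁻¹ ∈ Md.tw.U := by
        have h : MulAut.conj a x ∈ (↑(a • P) : Subgroup ↥Md.T) := by
          rw [Sylow.coe_subgroup_smul]
          exact Subgroup.smul_mem_pointwise_smul _ _ _ (hP (Subgroup.mem_zpowers x))
        rw [ha] at h
        simpa using h
      have hmk : ConjClasses.mk x = ConjClasses.mk (a * x * a⁻¹) :=
        ConjClasses.mk_eq_mk_iff_isConj.2 (isConj_iff.2 ⟨a, rfl⟩)
      obtain ⟨hx2, hx1⟩ := orderOf_eq_prime_iff.1 (show orderOf x = 2 from hx)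
      have hsq : a * x * a⁻¹ * (a * x * a⁻¹) = 1 := by
        rw [show a * x * a⁻¹ * (a * x * a⁻¹) = a * (x * x) * a⁻¹ by group, ← pow_two, hx2,
          mul_one, mul_inv_cancel]
      have hfix : (Twist.E6.endo φ).σ (TwAut.lift Md (a * x * a⁻¹)) =
          TwAut.lift Md (a * x * a⁻¹) :=
        Md.le_fixed _ (a * x * a⁻¹).2
      obtain ⟨i, hi, c, hc, e⟩ := cover hφ hK ((TwAut.mem_U Md).1 haU) hfix
        (by rw [← TwAut.lift_mul, hsq]; rfl)
        (fun e => hx1 (conj_eq_one_iff.1 (TwAut.lift_injective Md (e.trans rfl) :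
          a * x * a⁻¹ = 1)))
      refine ⟨⟨i, hi⟩, (hmk.trans (ConjClasses.mk_eq_mk_iff_isConj.2 (isConj_iff.2
        ⟨Md.iso ⟨c, hc⟩, TwAut.lift_injective Md ?_⟩))).symm⟩
      rw [TwAut.lift_mul, TwAut.lift_mul, TwAut.lift_inv, TwAut.lift_iso, lg]
      exact e
    · rintro ⟨i, rfl⟩
      refine ⟨g i, orderOf_eq_prime ?_ ?_, rfl⟩
      · refine TwAut.lift_injective Md ?_
        rw [pow_two, TwAut.lift_mul, lg, rep_sq i.isLt]
        rfl
      · intro e
        exact rep_ne i.isLt (by rw [← lg, e]; rfl)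
  rw [hset, Set.ncard_range_of_injective, Nat.card_fin]
  intro i j e
  obtain ⟨c, hc⟩ := isConj_iff.1 (ConjClasses.mk_eq_mk_iff_isConj.1 e)
  refine Fin.ext (conj_eq i.isLt j.isLt (TwAut.lift Md c) ?_)
  rw [← lg, ← lg, ← hc, TwAut.lift_mul, TwAut.lift_mul, TwAut.lift_inv]

end Cfsg.Agent.H56.Inv.E62
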