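import Cfsg.Agent.H56.Inv.E62Data.Tables
import Cfsg.Agent.H56.Inv.E62Data.Nodes
import Cfsg.Agent.H56.Inv.E62Data.Chains
import Cfsg.Agent.H56.Inv.E62Data.Ranks

/-!
Certificates for the classes of involutions of the twisted groups of type `E6` in characteristic two: the parts live
in `E62Data/`.
-/
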