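import Cfsg.Agent.H56.Inv.Pivot

/-!
The facts of a simply laced system follow from the rows of the fundamental roots.
-/
set_option autoImplicit false
set_option maxRecDepth 100000

namespace Cfsg.Agent.H56.Inv

open Cfsg.Lie Cfsg.Agent.H37 Cfsg.Agent.H37.RootSys

variable {D : ChevalleyDatum}

/-- The row of a fundamental root. -/
def simpleOk (D : ChevalleyDatum) (cf : ℕ → ℕ → ℤ) (i : ℕ) : Bool :=
  (List.range D.nroots).all fun s =>
    (s == D.simple i) || (s == D.neg (D.simple i)) ||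
      (decide (pb D s (D.simple i) = D.cartan i s) &&
        ((decide (D.cartan i s = 0) && (D.commTerms (D.simple i) s == [])) ||
          (decide (D.cartan i s = 1) && (D.commTerms (D.simple i) s == []) &&
            decide (D.reflectRoot i s < D.nroots) && (List.range D.rank).all fun j =>
              decide (cf s j = cf (D.simple i) j + cf (D.reflectRoot i s) j)) ||
          (decide (D.cartan i s = -1) && decide (D.reflectRoot i s < D.nroots) &&
            oneTerm (D.commTerms (D.simple i) s) (D.reflectRoot i s) &&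
            (List.range D.rank).all fun j =>
              decide (cf (D.reflectRoot i s) j = cf (D.simple i) j + cf s j))))

variable {F : Type*} [Field F] {Q : Chev.Data D F}

include Q in
theorem sum_simple (i : ℕ) (hi : i < D.rank) (s : ℕ) : pb D (D.simple i) s = D.cartan i s := by
  rw [← pb_eq]; exact Q.K.pairing_simple hi s

theorem cartan_add {i r s k : ℕ} (hi : i < D.rank) (hr : r < D.nroots) (hs : s < D.nroots)
    (hk : k < D.nroots) (e : ∀ j < D.rank, Q.K.cf k j = Q.K.cf r j + Q.K.cf s j) :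
    D.cartan i k = D.cartan i r + D.cartan i s := by
  rw [Q.K.cartan_lin i hi k hk, Q.K.cartan_lin i hi r hr, Q.K.cartan_lin i hi s hs,
    ← List.sum_map_add]
  refine congrArg List.sum (List.map_congr_left fun j hj => ?_)
  rw [e j (List.mem_range.1 hj)]; ring

theorem cf_add_w {i r s k : ℕ} (hi : i < D.rank) (hr : r < D.nroots) (hs : s < D.nroots)
    (hk : k < D.nroots) (e : ∀ j < D.rank, Q.K.cf k j = Q.K.cf r j + Q.K.cf s j) :
    ∀ j < D.rank, Q.K.cf (Q.K.w i k) j = Q.K.cf (Q.K.w i r) j + Q.K.cf (Q.K.w i s) j := by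
  intro j hj
  rw [Q.K.cf_w i hi k hk j hj, Q.K.cf_w i hi r hr j hj, Q.K.cf_w i hi s hs j hj, e j hj,
    cartan_add (Q := Q) hi hr hs hk e]
  split <;> ring

theorem oneTerm_w {i r s k : ℕ} (hi : i < D.rank) (hr : r < D.nroots) (hs : s < D.nroots)
    (h : oneTerm (D.commTerms r s) k = true) :
    oneTerm (D.commTerms (Q.K.w i r) (Q.K.w i s)) (Q.K.w i k) = true := by
  simp only [oneTerm, Bool.or_eq_true, beq_iff_eq] at h ⊢
  rw [Q.K.commTerms_w hi hr hs]
  rcases h with e | e <;> rw [e] <;>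
    rcases Q.K.sg_pm i k with a | a <;> rcases Q.K.sg_pm i r with b | b <;>
      rcases Q.K.sg_pm i s with c | c <;> simp [Chevalley.Cert.trTerm, a, b, c]

/-- The facts from the fundamental rows. -/
theorem SL.of_simple
    (h : ((List.range D.rank).all fun i => simpleOk D Q.K.cf i) = true) : SL Q := by
  have hp : ∀ r < D.nroots, pb D r r = 2 ∧
      ∀ s < D.nroots, s ≠ r → s ≠ D.neg r → PairFact Q r s := by
    refine Q.K.root_induction (P := fun r => pb D r r = 2 ∧
      ∀ s < D.nroots, s ≠ r → s ≠ D.neg r → PairFact Q r s) (fun i hi => ?_) ?_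
    · refine ⟨by rw [sum_simple (Q := Q) i hi]; exact Q.K.cartan_self i hi, fun s hs h1 h2 => ?_⟩
      simp only [simpleOk, List.all_eq_true, List.mem_range, Bool.or_eq_true, Bool.and_eq_true,
        decide_eq_true_eq, beq_iff_eq] at h
      have hp := ((h i hi s hs).resolve_left fun h' => h'.elim h1 h2)
      refine ⟨by rw [sum_simple (Q := Q) i hi]; exact hp.1, ?_⟩
      rw [sum_simple (Q := Q) i hi]
      rcases hp.2 with (⟨e, c⟩ | ⟨⟨⟨e, c⟩, hg⟩, hcf⟩) | ⟨⟨⟨e, hg⟩, c⟩, hcf⟩
      · exact Or.inl ⟨e, c⟩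
      · exact Or.inr (Or.inl ⟨e, c, _, hg, hcf⟩)
      · exact Or.inr (Or.inr ⟨e, _, hg, c, hcf⟩)
    · intro i hi r hr ⟨h2, ih⟩
      have hpw : ∀ s < D.nroots, pb D (Q.K.w i r) (Q.K.w i s) = pb D r s := by
        intro s hs
        rw [← pb_eq, Q.K.pairing_w hi hr (Q.K.w_lt i hi s hs).1, (Q.K.w_lt i hi s hs).2]
        exact pb_eq r s
      refine ⟨by rw [hpw r hr]; exact h2, fun s hs h1 hn => ?_⟩
      obtain ⟨hs', ess⟩ := Q.K.w_lt i hi s hs
      have e : ∀ {v}, v < D.nroots → pb D (Q.K.w i r) (Q.K.w i v) = pb D r v := fun hv => hpw _ hv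
      have hne : Q.K.w i s ≠ r := fun e => h1 (by rw [← e, ess])
      have hnn : Q.K.w i s ≠ D.neg r := fun e => hn (by
        rw [← Q.K.w_neg hi hr, ← e, ess])
      obtain ⟨hsym, hcase⟩ := ih _ hs' hne hnn
      rw [← ess]
      refine ⟨?_, ?_⟩
      · rw [e hs', ← pb_eq, Q.K.pairing_w hi hs' (Q.K.w_lt i hi r hr).1, (Q.K.w_lt i hi r hr).2,
          pb_eq]
        exact hsym
      rw [e hs']
      rcases hcase with ⟨a, c⟩ | ⟨a, c, γ, hγ, hcf⟩ | ⟨a, k, hk, c, hcf⟩
      · refine Or.inl ⟨a, ?_⟩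
        rw [Q.K.commTerms_w hi hr hs', c]; rfl
      · refine Or.inr (Or.inl ⟨a, ?_, _, (Q.K.w_lt i hi γ hγ).1, ?_⟩)
        · rw [Q.K.commTerms_w hi hr hs', c]; rfl
        · exact cf_add_w hi hr hγ hs' hcf
      · exact Or.inr (Or.inr ⟨a, _, (Q.K.w_lt i hi k hk).1, oneTerm_w hi hr hs' c,
          cf_add_w hi hr hs' hk hcf⟩)
  exact ⟨fun r hr => (hp r hr).1, fun r hr => (hp r hr).2⟩

end Cfsg.Agent.H56.Inv
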