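import Cfsg.Agent.H56.Inv.OrthProd
import Cfsg.Agent.H56.Inv.SLCheck

/-!
Four mutually orthogonal roots of a frame of type `D₄`: the product of the four root involutions
is conjugate to the product of three of them.
-/
set_option autoImplicit false
set_option maxRecDepth 100000

namespace Cfsg.Agent.H56.Inv

open Cfsg.Lie Cfsg.Agent.H37 Cfsg.Agent.H37.RootSys

/-- The pairs of the eleven roots `a, b, c, g+a, g+b, g+c, g+b+c, g+a+c, g+a+b, g+a+b+c, d` with
their sums. -/
def framePairs : List (ℕ × ℕ × Option ℕ) :=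
  [
   (0, 1, none), (0, 2, none), (0, 3, none), (0, 4, some 8), (0, 5, some 7),
   (0, 6, some 9), (0, 7, none), (0, 8, none), (0, 9, none), (0, 10, none),
   (1, 2, none), (1, 3, some 8), (1, 4, none), (1, 5, some 6), (1, 6, none),
   (1, 7, some 9), (1, 8, none), (1, 9, none), (1, 10, none), (2, 3, some 7),
   (2, 4, some 6), (2, 5, none), (2, 6, none), (2, 7, none), (2, 8, some 9),
   (2, 9, none), (2, 10, none), (3, 4, none), (3, 5, none), (3, 6, some 10),
   (3, 7, none), (3, 8, none), (3, 9, none), (3, 10, none), (4, 5, none),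
   (4, 6, none), (4, 7, some 10), (4, 8, none), (4, 9, none), (4, 10, none),
   (5, 6, none), (5, 7, none), (5, 8, some 10), (5, 9, none), (5, 10, none),
   (6, 7, none), (6, 8, none), (6, 9, none), (6, 10, none), (7, 8, none),
   (7, 9, none), (7, 10, none), (8, 9, none), (8, 10, none), (9, 10, none)]

/-- The check that a list of eleven roots is such a configuration. -/
def frameB (D : ChevalleyDatum) (z : List ℕ) : Bool :=
  (List.range 11).all (fun i => decide (z.getD i 0 < D.nroots)) &&
  framePairs.all fun p =>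
    decide (z.getD p.2.1 0 ≠ z.getD p.1 0) && decide (z.getD p.2.1 0 ≠ D.neg (z.getD p.1 0)) &&
    (match p.2.2 with
    | none => D.commTerms (z.getD p.1 0) (z.getD p.2.1 0) == []
    | some k => oneTerm (D.commTerms (z.getD p.1 0) (z.getD p.2.1 0)) (z.getD k 0))

/-- The identity in any group. -/
theorem frame_identity {G : Type*} [Group G] (y : ℕ → G) (sq : ∀ i < 11, y i * y i = 1)
    (h : ∀ p ∈ framePairs, y p.2.1 * y p.1 = match p.2.2 with
      | none => y p.1 * y p.2.1
      | some k => y p.1 * (y p.2.1 * y k)) :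
    y 0 * y 1 * y 2 * y 10 * (y 3 * y 4 * y 5 * y 6 * y 7 * y 8) =
      y 3 * y 4 * y 5 * y 6 * y 7 * y 8 * (y 0 * y 1 * y 2) := by
  simp only [framePairs, List.forall_mem_cons, List.forall_mem_nil, and_true] at h
  have h' : ∀ {i j : ℕ} {z : G}, y j * y i = z → ∀ w, y j * (y i * w) = z * w :=
    fun {i j z} e w => by rw [← mul_assoc, e]
  obtain ⟨e0, e1, e2, e3, e4, e5, e6, e7, e8, e9, e10, e11, e12, e13, e14, e15, e16, e17, e18, e19,
    e20, e21, e22, e23, e24, e25, e26, e27, e28, e29, e30, e31, e32, e33, e34, e35, e36, e37,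
    e38, e39, e40, e41, e42, e43, e44, e45, e46, e47, e48, e49, e50, e51, e52, e53, e54, -⟩ := h
  simp only [mul_assoc, e0, e1, e2, e3, e4, e5, e6, e7, e8, e9, e10, e11, e12, e13, e14, e15,
    e16, e17, e18, e19, e20, e21, e22, e23, e24, e25, e26, e27, e28, e29, e30, e31, e32, e33,
    e34, e35, e36, e37, e38, e39, e40, e41, e42, e43, e44, e45, e46, e47, e48, e49, e50, e51,
    e52, e53, e54, h' e0, h' e1, h' e2, h' e3, h' e4, h' e5, h' e6, h' e7, h' e8, h' e9, h' e10,
    h' e11, h' e12, h' e13, h' e14, h' e15, h' e16, h' e17, h' e18, h' e19, h' e20, h' e21,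
    h' e22, h' e23, h' e24, h' e25, h' e26, h' e27, h' e28, h' e29, h' e30, h' e31, h' e32,
    h' e33, h' e34, h' e35, h' e36, h' e37, h' e38, h' e39, h' e40, h' e41, h' e42, h' e43,
    h' e44, h' e45, h' e46, h' e47, h' e48, h' e49, h' e50, h' e51, h' e52, h' e53, h' e54,
    sq 0 (by decide), sq 1 (by decide), sq 2 (by decide), sq 3 (by decide), sq 4 (by decide),
    sq 5 (by decide), sq 6 (by decide), sq 7 (by decide), sq 8 (by decide), sq 9 (by decide),
    sq 10 (by decide), h' (sq 0 (by decide)), h' (sq 1 (by decide)), h' (sq 2 (by decide)),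
    h' (sq 3 (by decide)), h' (sq 4 (by decide)), h' (sq 5 (by decide)), h' (sq 6 (by decide)),
    h' (sq 7 (by decide)), h' (sq 8 (by decide)), h' (sq 9 (by decide)), h' (sq 10 (by decide)),
    one_mul, mul_one]

variable {D : ChevalleyDatum} {F : Type*} [Field F] [CharP F 2] {Q : Chev.Data D F}

/-- The frame reduction. -/
theorem frame_conj (h : SL Q) {z : List ℕ} (hz : frameB D z = true) (rest : List ℕ)
    (hrest : ∀ r ∈ rest, r < D.nroots ∧ ∀ i < 11, pb D r (z.getD i 0) = 0) :
    ∃ g : ↥(D.group F),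
      g * prodX Q ([z.getD 0 0, z.getD 1 0, z.getD 2 0, z.getD 10 0] ++ rest) * g⁻¹ =
        prodX Q ([z.getD 0 0, z.getD 1 0, z.getD 2 0] ++ rest) := by
  simp only [frameB, Bool.and_eq_true, List.all_eq_true, List.mem_range, decide_eq_true_eq] at hz
  obtain ⟨hlt, hp⟩ := hz
  set y : ℕ → ↥(D.group F) := fun i => Q.sys.x (z.getD i 0) 1 with hy
  have hid := frame_identity y (fun i hi => by
      show Q.sys.x _ 1 * Q.sys.x _ 1 = 1
      rw [← Q.sys.x_add' _ (hlt i hi), CharTwo.add_self_eq_zero, x_zero (hlt i hi)])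
    (fun p hpm => by
      obtain ⟨⟨h1, h2⟩, h3⟩ := hp p hpm
      have hi : p.1 < 11 ∧ p.2.1 < 11 := (show ∀ q ∈ framePairs, q.1 < 11 ∧ q.2.1 < 11 by decide)
        p hpm
      obtain ⟨i, j, o⟩ := p
      cases o with
      | none =>
        simp only [beq_iff_eq] at h3
        show Q.sys.x _ 1 * Q.sys.x _ 1 = Q.sys.x _ 1 * Q.sys.x _ 1
        rw [H51.CW.comm_list Q (hlt i hi.1) (hlt j hi.2) h1 h2, h3, List.map_nil, List.prod_nil,
          mul_one]
      | some k =>
        show Q.sys.x _ 1 * Q.sys.x _ 1 = Q.sys.x _ 1 * (Q.sys.x _ 1 * Q.sys.x _ 1)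
        rw [oneTerm_rule (Q := Q) (hlt i hi.1) (hlt j hi.2) h1 h2 h3, one_mul, mul_assoc])
  set g := y 3 * y 4 * y 5 * y 6 * y 7 * y 8 with hg
  have hcomm : Commute g (prodX Q rest) := by
    have : ∀ i < 11, Commute (y i) (prodX Q rest) := fun i hi =>
      Commute.list_prod_right _ _ fun v hv => by
        obtain ⟨r, hr, rfl⟩ := List.mem_map.1 hv
        obtain ⟨h1, h2⟩ := hrest r hr
        have h0 := h2 i hi
        have hne : z.getD i 0 ≠ r := fun e => by
          rw [e, h.self_eq r h1] at h0
          omega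
        have hne' : z.getD i 0 ≠ D.neg r := fun e => by
          have hn : pb D r (D.neg r) = -2 := by
            have key : pb D r (D.neg r) = -pb D r r := by
              simp only [pb, List.sum_neg, List.map_map]
              refine congrArg List.sum (List.map_congr_left fun m hm => ?_)
              have hm' := List.mem_range.1 hm
              simp only [Function.comp_apply]
              rw [Q.K.cartan_lin m hm' r h1, Q.K.cartan_lin m hm' _ (Q.K.neg_lt h1), ← mul_neg,
                List.sum_neg, List.map_map]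
              refine congrArg _ (congrArg List.sum (List.map_congr_left fun j hj => ?_))
              rw [Function.comp_apply, Q.K.cf_neg r h1 j (List.mem_range.1 hj)]
              ring
            rw [key, h.self_eq r h1]
          rw [e, hn] at h0
          omega
        have hc : D.commTerms r (z.getD i 0) = [] := by
          rcases (h.fact r h1 _ (hlt i hi) hne hne').2 with ⟨-, e⟩ | ⟨e, -⟩ | ⟨e, -⟩
          · exact e
          · omega
          · omega
        show Q.sys.x (z.getD i 0) 1 * Q.sys.x r 1 = Q.sys.x r 1 * Q.sys.x (z.getD i 0) 1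
        rw [H51.CW.comm_list Q h1 (hlt i hi) hne hne', hc, List.map_nil, List.prod_nil, mul_one]
    rw [hg]
    exact (((((this 3 (by decide)).mul_left (this 4 (by decide))).mul_left
      (this 5 (by decide))).mul_left (this 6 (by decide))).mul_left (this 7 (by decide))).mul_left
        (this 8 (by decide))
  refine ⟨g⁻¹, ?_⟩
  have e4 : prodX Q ([z.getD 0 0, z.getD 1 0, z.getD 2 0, z.getD 10 0] ++ rest) =
      y 0 * y 1 * y 2 * y 10 * prodX Q rest := by simp [prodX, hy, mul_assoc]
  have e3 : prodX Q ([z.getD 0 0, z.getD 1 0, z.getD 2 0] ++ rest) =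
      y 0 * y 1 * y 2 * prodX Q rest := by simp [prodX, hy, mul_assoc]
  rw [e4, e3, inv_inv, mul_assoc g⁻¹, mul_assoc _ (prodX Q rest) g, ← hcomm.eq,
    ← mul_assoc _ g, hid, ← mul_assoc, ← mul_assoc g⁻¹, inv_mul_cancel, one_mul]

end Cfsg.Agent.H56.Inv
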