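import Cfsg.Agent.H56.Inv.GenBase

/-!
Checked chains of conjugations between products of commuting root elements with parameter one.
-/
set_option autoImplicit false
set_option maxRecDepth 100000

namespace Cfsg.Agent.H56.Inv.Gen

open Cfsg.Lie Cfsg.Agent.H37 Cfsg.Agent.H37.RootSys Cfsg.Agent.H56.Inv

/-- A conjugation: by a fundamental reflection, or by a root element followed by cancellations. -/
inductive Mv where
  | ref (i : ℕ)
  | cj (g : ℕ) (dup : List ℕ)

variable {D : ChevalleyDatum}

/-- A list of commuting roots. -/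
def pcommB (D : ChevalleyDatum) (L : List ℕ) : Bool :=
  L.all fun r => decide (r < D.nroots) && commB D r L

/-- The check of one move. -/
def mvB (D : ChevalleyDatum) (L : List ℕ) : Mv → List ℕ → Bool
  | .ref i, L' => decide (i < D.rank) && pcommB D (L.map (D.reflectRoot i)) &&
      (L.map (D.reflectRoot i)).isPerm L'
  | .cj g dup, L' => decide (g < D.nroots) &&
      (L.all fun r => decide (r ≠ g) && decide (r ≠ D.neg g)) &&
      pcommB D (L.flatMap fun r => r :: (oddT D g r).map (·.1)) &&
      (L.flatMap fun r => r :: (oddT D g r).map (·.1)).isPerm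
        (L' ++ dup.flatMap fun a => [a, a])

/-- The check of a chain. -/
def chainB (D : ChevalleyDatum) : List ℕ → List (Mv × List ℕ) → List ℕ → Bool
  | L, [], Y => pcommB D L && L.isPerm Y
  | L, (m, L') :: rest, Y =>
      (L.all fun r => decide (r < D.nroots)) && mvB D L m L' && chainB D L' rest Y

variable {F : Type*} [Field F] [CharP F 2] (Q : Chev.Data D F)

theorem prodX_perm' {L L' : List ℕ} (h : pcommB D L = true) (hp : L.Perm L') :
    prodX Q L = prodX Q L' := by
  simp only [pcommB, List.all_eq_true, Bool.and_eq_true, decide_eq_true_eq] at h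
  refine List.Perm.prod_eq' (hp.map _)
    (List.pairwise_map.2 (List.pairwise_of_forall_mem_list fun a ha b hb => ?_))
  exact comm_of_commB Q (h a ha).1 (fun r hr => (h r hr).1) (h a ha).2 hb 1 1

theorem prodX_append (L L' : List ℕ) : prodX Q (L ++ L') = prodX Q L * prodX Q L' := by
  simp [prodX]

theorem prodX_dup {L : List ℕ} (h : ∀ a ∈ L, a < D.nroots) :
    prodX Q (L.flatMap fun a => [a, a]) = 1 := by
  induction L with
  | nil => simp [prodX]
  | cons a L ih =>
    rw [List.flatMap_cons, prodX_append, ih fun b hb => h b (List.mem_cons_of_mem _ hb)]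
    simp [prodX, x_sq Q (h a List.mem_cons_self)]

theorem conj_prodX {g : ℕ} (hg : g < D.nroots) :
    ∀ L : List ℕ, (∀ r ∈ L, r < D.nroots ∧ r ≠ g ∧ r ≠ D.neg g) →
      Q.sys.x g 1 * prodX Q L * Q.sys.x g 1 =
        prodX Q (L.flatMap fun r => r :: (oddT D g r).map (·.1)) := by
  intro L
  induction L with
  | nil => intro _; simp [prodX, x_sq Q hg]
  | cons r L ih =>
    intro h
    obtain ⟨h1, h2, h3⟩ := h r List.mem_cons_self
    have e : Q.sys.x g 1 * Q.sys.x r 1 * Q.sys.x g 1 =
        prodX Q (r :: (oddT D g r).map (·.1)) := by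
      rw [x_conj Q hg h1 h2 h3, prodX_cons]
      congr 1
      rw [prodX, List.map_map]
      exact congrArg List.prod (List.map_congr_left fun c _ => by simp)
    rw [List.flatMap_cons, prodX_append, ← e, ← ih fun a ha => h a (List.mem_cons_of_mem _ ha),
      prodX_cons]
    calc Q.sys.x g 1 * (Q.sys.x r 1 * prodX Q L) * Q.sys.x g 1
        = Q.sys.x g 1 * Q.sys.x r 1 * 1 * (prodX Q L * Q.sys.x g 1) := by group
      _ = Q.sys.x g 1 * Q.sys.x r 1 * (Q.sys.x g 1 * Q.sys.x g 1) * (prodX Q L * Q.sys.x g 1) := by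
          rw [x_sq Q hg]
      _ = _ := by group

/-- A checked chain gives a conjugation. -/
theorem chain_conj : ∀ (ch : List (Mv × List ℕ)) (L Y : List ℕ), chainB D L ch Y = true →
    ∃ c : ↥(D.group F), c * prodX Q L * c⁻¹ = prodX Q Y := by
  intro ch
  induction ch with
  | nil =>
    intro L Y h
    simp only [chainB, Bool.and_eq_true, List.isPerm_iff] at h
    exact ⟨1, by rw [prodX_perm' Q h.1 h.2]; group⟩
  | cons p rest ih =>
    obtain ⟨m, L'⟩ := p
    intro L Y h
    simp only [chainB, Bool.and_eq_true, List.all_eq_true, decide_eq_true_eq] at h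
    obtain ⟨⟨hlt, hm⟩, hrest⟩ := h
    obtain ⟨c, hc⟩ := ih L' Y hrest
    cases m with
    | ref i =>
      simp only [mvB, Bool.and_eq_true, decide_eq_true_eq, List.isPerm_iff] at hm
      obtain ⟨⟨hi, hcm⟩, hp⟩ := hm
      obtain ⟨d, hd⟩ := exists_act_conj (Q := Q) [i] (by simpa using hi)
      have e : L.map (act Q.K.w [i]) = L.map (D.reflectRoot i) :=
        List.map_congr_left fun r hr => (Q.K.w_reflect i hi r (hlt r hr)).symm
      exact ⟨c * d, by
        rw [show c * d * prodX Q L * (c * d)⁻¹ = c * (d * prodX Q L * d⁻¹) * c⁻¹ by group,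
          hd L hlt, e, prodX_perm' Q hcm hp, hc]⟩
    | cj g dup =>
      simp only [mvB, Bool.and_eq_true, decide_eq_true_eq, List.isPerm_iff,
        List.all_eq_true] at hm
      obtain ⟨⟨⟨hg, hne⟩, hcm⟩, hp⟩ := hm
      have hdup : ∀ a ∈ dup, a < D.nroots := by
        intro a ha
        have hmem : a ∈ L' ++ dup.flatMap fun a => [a, a] :=
          List.mem_append_right _ (List.mem_flatMap.2 ⟨a, ha, List.mem_cons_self⟩)
        have h' := hcm
        simp only [pcommB, List.all_eq_true, Bool.and_eq_true, decide_eq_true_eq] at h'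
        exact (h' a (hp.mem_iff.2 hmem)).1
      have e : Q.sys.x g 1 * prodX Q L * Q.sys.x g 1 = prodX Q L' := by
        rw [conj_prodX Q hg L fun r hr => ⟨hlt r hr, hne r hr⟩, prodX_perm' Q hcm hp,
          prodX_append, prodX_dup Q hdup, mul_one]
      exact ⟨c * Q.sys.x g 1, by
        rw [show c * Q.sys.x g 1 * prodX Q L * (c * Q.sys.x g 1)⁻¹ =
          c * (Q.sys.x g 1 * prodX Q L * (Q.sys.x g 1)⁻¹) * c⁻¹ by group, x_inv Q hg, e, hc]⟩

end Cfsg.Agent.H56.Inv.Gen
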