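import Cfsg.Agent.H56.Inv.TwBase
import Cfsg.Agent.H56.Inv.GenMove
import Cfsg.Agent.H56.Inv.Frame

/-!
Checked chains of conjugations, by fixed elements, between products of root elements with
parameter one.
-/
set_option autoImplicit false
set_option maxRecDepth 100000

namespace Cfsg.Agent.H56.Inv.Tw

open Cfsg.Lie Cfsg.Agent.H37 Cfsg.Agent.H37.RootSys Cfsg.Agent.H56.Inv Cfsg.Agent.H56.Inv.Gen

/-- A conjugation by a fixed element: an orbit element with parameter one, an orbit element with
parameter `μ`, a reflection, or the frame element. -/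
inductive Mv where
  | cj (G : Orb) (dup : List ℕ)
  | mu (G : Orb)
  | ref (i j : ℕ)
  | frame (z : List ℕ)

variable {D : ChevalleyDatum}

/-- The monomial lists with value one. -/
def oneVals : List (List (List ℕ)) := [[[]], [[0], [1]], [[1], [0]]]

/-- The monomial lists with value zero. -/
def zeroVals : List (List (List ℕ)) :=
  [[], [[], []], [[], [0], [1]], [[], [1], [0]], [[0], [], [1]], [[0], [1], []], [[1], [], [0]],
    [[1], [0], []]]

/-- The reflected list. -/
def refImg (D : ChevalleyDatum) (i j : ℕ) (L : List ℕ) : List ℕ :=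
  if i = j then L.map (D.reflectRoot i) else (L.map (D.reflectRoot j)).map (D.reflectRoot i)

/-- The four outer elements of a frame, as orbits. -/
def frameOrbs (z : List ℕ) : List Orb :=
  [(z.getD 3 0, z.getD 4 0), (z.getD 5 0, z.getD 5 0), (z.getD 6 0, z.getD 7 0),
    (z.getD 8 0, z.getD 8 0)]

/-- The check of one move. -/
def mvB (D : ChevalleyDatum) (ρ : ℕ → ℕ) (L : List ℕ) : Mv → List ℕ → Bool
  | .cj G dup, L' =>
      let R := (expG D (gvars G 0) (L.map fun r => (r, []))).map Prod.fst
      orbB D ρ G && expGOk D (gvars G 0) (L.map fun r => (r, [])) && pcommB D R &&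
        R.isPerm (L' ++ dup.flatMap fun a => [a, a])
  | .mu G, L' =>
      let E := expG D (gvars G 0) (L.map fun r => (r, []))
      let R := E.map Prod.fst
      orbB D ρ G && !(G.1 == G.2) && expGOk D (gvars G 0) (L.map fun r => (r, [])) &&
        pcommB D R && decide L'.Nodup && (L'.all fun r => R.contains r) &&
        R.all fun r =>
          if L'.contains r then oneVals.contains ((E.filter fun p => p.1 == r).map Prod.snd)
          else zeroVals.contains ((E.filter fun p => p.1 == r).map Prod.snd)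
  | .ref i j, L' =>
      decide (i < D.rank) && decide (j < D.rank) &&
      orbB D ρ (D.simple i, D.simple j) &&
      orbB D ρ (D.neg (D.simple i), D.neg (D.simple j)) &&
      ((i == j) ||
        (decide (D.simple i ≠ D.simple j) && decide (D.neg (D.simple i) ≠ D.neg (D.simple j)) &&
          commB D (D.simple i) [D.simple j, D.neg (D.simple j)] &&
          commB D (D.neg (D.simple i)) [D.simple j, D.neg (D.simple j)])) &&
      pcommB D (refImg D i j L) && (refImg D i j L).isPerm L'
  | .frame z, L' =>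
      frameB D z && pcommB D L && L.isPerm [z.getD 0 0, z.getD 1 0, z.getD 2 0, z.getD 10 0] &&
      decide (z.getD 3 0 ≠ z.getD 4 0) && decide (z.getD 6 0 ≠ z.getD 7 0) &&
      ((frameOrbs z).all fun o => orbB D ρ o) &&
      pcommB D [z.getD 0 0, z.getD 1 0, z.getD 2 0] &&
      [z.getD 0 0, z.getD 1 0, z.getD 2 0].isPerm L'

/-- The check of a chain. -/
def chainB (D : ChevalleyDatum) (ρ : ℕ → ℕ) : List ℕ → List (Mv × List ℕ) → List ℕ → Bool
  | L, [], Y => pcommB D L && L.isPerm Y
  | L, (m, L') :: rest, Y =>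
      (L.all fun r => decide (r < D.nroots)) && mvB D ρ L m L' && chainB D ρ L' rest Y

variable {F : Type*} [Field F] [CharP F 2] {Q : Chev.Data D F} (E : TwData Q)

open TwData

omit [CharP F 2] in
variable (Q) in
theorem eval_base (v : ℕ → F) (L : List ℕ) :
    eval Q v (L.map fun r => (r, [])) = prodX Q L := by
  simp [TwData.eval, prodX, Function.comp_def]

omit E in
variable (Q) in
theorem eval_perm (v : ℕ → F) {L L' : List Trm} (h : pcommB D (L.map Prod.fst) = true)
    (hp : L.Perm L') : eval Q v L = eval Q v L' := by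
  simp only [pcommB, List.all_eq_true, Bool.and_eq_true, decide_eq_true_eq] at h
  refine List.Perm.prod_eq' (hp.map _)
    (List.pairwise_map.2 (List.pairwise_of_forall_mem_list fun a ha b hb => ?_))
  exact comm_of_commB Q (h a.1 (List.mem_map_of_mem ha)).1 (fun r hr => (h r hr).1)
    (h a.1 (List.mem_map_of_mem ha)).2 (List.mem_map_of_mem hb) _ _

omit [CharP F 2] E in
variable (Q) in
theorem eval_single (v : ℕ → F) {r : ℕ} (hr : r < D.nroots) :
    ∀ L : List Trm, (∀ p ∈ L, p.1 = r) →
      eval Q v L = Q.sys.x r ((L.map fun p => (p.2.map v).prod).sum) := by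
  intro L
  induction L with
  | nil => intro _; simp [TwData.eval, Q.sys.x_zero' hr]
  | cons p L ih =>
    intro h
    rw [eval_cons, ih fun a ha => h a (List.mem_cons_of_mem _ ha), h p List.mem_cons_self,
      List.map_cons, List.sum_cons, Q.sys.x_add' r hr]

omit E in
variable (Q) in
theorem eval_group (v : ℕ → F) (val : ℕ → F) : ∀ (Rs : List ℕ) (L : List Trm), Rs.Nodup →
    pcommB D (L.map Prod.fst) = true → (∀ r ∈ Rs, r < D.nroots) → (∀ p ∈ L, p.1 ∈ Rs) →
    (∀ r ∈ Rs, ((L.filter fun p => p.1 == r).map fun p => (p.2.map v).prod).sum = val r) →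
    eval Q v L = (Rs.map fun r => Q.sys.x r (val r)).prod := by
  intro Rs
  induction Rs with
  | nil =>
    intro L _ _ _ hL _
    cases L with
    | nil => simp [TwData.eval]
    | cons p L => exact absurd (hL p List.mem_cons_self) List.not_mem_nil
  | cons r Rs ih =>
    intro L hnd hc hlt hL hval
    obtain ⟨hr, hnd'⟩ := List.nodup_cons.1 hnd
    set A := L.filter fun p => p.1 == r
    set B := L.filter fun p => !(p.1 == r)
    have hp : (A ++ B).Perm L := List.filter_append_perm _ L
    have hB : ∀ p ∈ B, p ∈ L ∧ p.1 ≠ r := fun p hp => by simpa [B] using hp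
    have hB' : pcommB D (B.map Prod.fst) = true := by
      simp only [pcommB, commB, List.all_eq_true, Bool.and_eq_true] at hc ⊢
      intro a ha
      have hsub : ∀ b ∈ B.map Prod.fst, b ∈ L.map Prod.fst := fun b hb => by
        obtain ⟨p, hp, rfl⟩ := List.mem_map.1 hb
        exact List.mem_map_of_mem (hB p hp).1
      exact ⟨(hc a (hsub a ha)).1, fun b hb => (hc a (hsub a ha)).2 b (hsub b hb)⟩
    rw [← eval_perm Q v (L := L) hc hp.symm |>.symm, eval_append, List.map_cons, List.prod_cons,
      eval_single Q v (hlt r List.mem_cons_self) A (fun p hp => by simpa [A] using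
        (List.mem_filter.1 hp).2),
      hval r List.mem_cons_self,
      ih B hnd' hB' (fun a ha => hlt a (List.mem_cons_of_mem _ ha)) (fun p hp => by
        obtain ⟨h1, h2⟩ := hB p hp
        exact (List.mem_cons.1 (hL p h1)).resolve_left h2)]
    intro a ha
    rw [← hval a (List.mem_cons_of_mem _ ha), List.filter_filter]
    refine congrArg List.sum (congrArg (List.map _) (List.filter_congr fun p _ => ?_))
    by_cases h : p.1 = a
    · have : a ≠ r := fun e => hr (e ▸ ha)
      simp [h, this]
    · simp [h]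

omit [CharP F 2] E in
variable (Q) in
theorem nG_eq (i : ℕ) :
    nG Q.K F i = Q.sys.x (D.simple i) 1 * Q.sys.x (D.neg (D.simple i)) (-(1 : F)⁻¹) *
      Q.sys.x (D.simple i) 1 := by
  refine Subtype.ext ?_
  show Q.K.nS F i = _
  rw [show Q.K.nS F i = Q.K.nU F (D.simple i) 1 from rfl, Q.K.nU_eq]
  rfl

omit E in
theorem nG_conj {i : ℕ} (hi : i < D.rank) :
    ∀ L : List ℕ, (∀ r ∈ L, r < D.nroots) →
      nG Q.K F i * prodX Q L * (nG Q.K F i)⁻¹ = prodX Q (L.map (D.reflectRoot i)) := by
  intro L hL
  rw [prodX, ← MulAut.conj_apply, map_list_prod, prodX, List.map_map, List.map_map]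
  refine congrArg List.prod (List.map_congr_left fun r hr => Subtype.ext ?_)
  have := Q.K.nS_conj_xU F hi (hL r hr) (1 : F)
  rw [H51.sg_cast Q, one_mul, ← Q.K.w_reflect i hi r (hL r hr)] at this
  exact this

omit [CharP F 2] in
theorem el_one {a b : ℕ} (h : a ≠ b) :
    E.el (a, b) 1 = Q.sys.x a 1 * Q.sys.x b 1 := by
  simp [TwData.el, h]

theorem mv_ref {i j : ℕ} (hi : i < D.rank) (hj : j < D.rank)
    (ho : orbB D E.ρ (D.simple i, D.simple j) = true)
    (ho' : orbB D E.ρ (D.neg (D.simple i), D.neg (D.simple j)) = true)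
    (hc : i = j ∨ (D.simple i ≠ D.simple j ∧ D.neg (D.simple i) ≠ D.neg (D.simple j) ∧
      commB D (D.simple i) [D.simple j, D.neg (D.simple j)] = true ∧
      commB D (D.neg (D.simple i)) [D.simple j, D.neg (D.simple j)] = true))
    {L : List ℕ} (hlt : ∀ r ∈ L, r < D.nroots) :
    ∃ c, E.σ c = c ∧ c * prodX Q L * c⁻¹ = prodX Q (refImg D i j L) := by
  have one1 : (-(1 : F)⁻¹) = 1 := by rw [inv_one, CharTwo.neg_eq]
  have hf := el_fixed E ho (t := 1) fun _ => map_one _
  have hf' := el_fixed E ho' (t := 1) fun _ => map_one _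
  by_cases he : i = j
  · subst he
    refine ⟨nG Q.K F i, ?_, by rw [nG_conj hi L hlt, refImg, if_pos rfl]⟩
    have e : nG Q.K F i = E.el (D.simple i, D.simple i) 1 *
        E.el (D.neg (D.simple i), D.neg (D.simple i)) 1 * E.el (D.simple i, D.simple i) 1 := by
      rw [nG_eq, one1]; simp [TwData.el]
    rw [e, map_mul, map_mul, hf, hf']
  obtain ⟨hne, hne', c1, c2⟩ := hc.resolve_left he
  obtain ⟨h1, h2, -, -, -⟩ := orbB_spec E ho
  obtain ⟨h1', h2', -, -, -⟩ := orbB_spec E ho'
  have hlt2 : ∀ a ∈ [D.simple j, D.neg (D.simple j)], a < D.nroots := by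
    intro a ha
    simp only [List.mem_cons, List.not_mem_nil, or_false] at ha
    rcases ha with rfl | rfl <;> assumption
  have a1 := fun t u => comm_of_commB Q h1 hlt2 c1 (a := D.simple j) (by simp) t u
  have a2 := fun t u => comm_of_commB Q h1 hlt2 c1 (a := D.neg (D.simple j)) (by simp) t u
  have b1 := fun t u => comm_of_commB Q h1' hlt2 c2 (a := D.simple j) (by simp) t u
  have b2 := fun t u => comm_of_commB Q h1' hlt2 c2 (a := D.neg (D.simple j)) (by simp) t u
  have hlt' : ∀ r ∈ L.map (D.reflectRoot j), r < D.nroots := by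
    intro r hr
    obtain ⟨a, ha, rfl⟩ := List.mem_map.1 hr
    rw [Q.K.w_reflect j hj a (hlt a ha)]
    exact (Q.K.w_lt j hj a (hlt a ha)).1
  refine ⟨nG Q.K F i * nG Q.K F j, ?_, ?_⟩
  · have e : nG Q.K F i * nG Q.K F j = E.el (D.simple i, D.simple j) 1 *
        E.el (D.neg (D.simple i), D.neg (D.simple j)) 1 * E.el (D.simple i, D.simple j) 1 := by
      rw [nG_eq, nG_eq, one1, el_one E hne, el_one E hne']
      set p := Q.sys.x (D.simple i) (1 : F)
      set q := Q.sys.x (D.simple j) (1 : F)
      set p' := Q.sys.x (D.neg (D.simple i)) (1 : F)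
      set q' := Q.sys.x (D.neg (D.simple j)) (1 : F)
      calc p * p' * p * (q * q' * q) = p * p' * (p * q) * (q' * q) := by group
        _ = p * p' * (q * p) * (q' * q) := by rw [(a1 1 1).eq]
        _ = p * (p' * q) * (p * q') * q := by group
        _ = p * (q * p') * (q' * p) * q := by rw [(b1 1 1).eq, (a2 1 1).eq]
        _ = _ := by group
    rw [e, map_mul, map_mul, hf, hf']
  · rw [refImg, if_neg he, ← nG_conj hi _ hlt', ← nG_conj hj L hlt]
    group

theorem mv_frame {z : List ℕ} (hz : frameB D z = true) (h34 : z.getD 3 0 ≠ z.getD 4 0)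
    (h67 : z.getD 6 0 ≠ z.getD 7 0) (ho : ∀ o ∈ frameOrbs z, orbB D E.ρ o = true) :
    ∃ c, E.σ c = c ∧ c * prodX Q [z.getD 0 0, z.getD 1 0, z.getD 2 0, z.getD 10 0] * c⁻¹ =
      prodX Q [z.getD 0 0, z.getD 1 0, z.getD 2 0] := by
  simp only [frameB, Bool.and_eq_true, List.all_eq_true, List.mem_range, decide_eq_true_eq] at hz
  obtain ⟨hlt, hp⟩ := hz
  set y : ℕ → ↥(D.group F) := fun i => Q.sys.x (z.getD i 0) 1 with hy
  have hid := frame_identity y (fun i hi => x_sq Q (hlt i hi) 1)
    (fun p hpm => by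
      obtain ⟨⟨h1, h2⟩, h3⟩ := hp p hpm
      have hi : p.1 < 11 ∧ p.2.1 < 11 := (show ∀ q ∈ framePairs, q.1 < 11 ∧ q.2.1 < 11 by decide)
        p hpm
      obtain ⟨i, j, o⟩ := p
      cases o with
      | none =>
        simp only [beq_iff_eq] at h3
        show Q.sys.x _ 1 * Q.sys.x _ 1 = Q.sys.x _ 1 * Q.sys.x _ 1
        rw [H51.CW.comm_list Q (hlt i hi.1) (hlt j hi.2) h1 h2, h3, List.map_nil, List.prod_nil,
          mul_one]
      | some k =>
        show Q.sys.x _ 1 * Q.sys.x _ 1 = Q.sys.x _ 1 * (Q.sys.x _ 1 * Q.sys.x _ 1)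
        rw [oneTerm_rule (Q := Q) (hlt i hi.1) (hlt j hi.2) h1 h2 h3, one_mul, mul_assoc])
  set g := E.el (z.getD 3 0, z.getD 4 0) 1 * E.el (z.getD 5 0, z.getD 5 0) 1 *
    E.el (z.getD 6 0, z.getD 7 0) 1 * E.el (z.getD 8 0, z.getD 8 0) 1
  have hgf : E.σ g = g := by
    have hf : ∀ o ∈ frameOrbs z, E.σ (E.el o 1) = E.el o 1 := fun o h =>
      el_fixed E (ho o h) fun _ => map_one _
    simp only [g, map_mul]
    rw [hf _ (by simp [frameOrbs]), hf _ (by simp [frameOrbs]), hf _ (by simp [frameOrbs]),
      hf _ (by simp [frameOrbs])]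
  have hg : g = y 3 * y 4 * y 5 * y 6 * y 7 * y 8 := by
    simp only [g, el_one E h34, el_one E h67, hy]
    simp [TwData.el, mul_assoc]
  refine ⟨g⁻¹, by rw [map_inv, hgf], ?_⟩
  have e4 : prodX Q [z.getD 0 0, z.getD 1 0, z.getD 2 0, z.getD 10 0] =
      y 0 * y 1 * y 2 * y 10 := by simp [prodX, hy, mul_assoc]
  have e3 : prodX Q [z.getD 0 0, z.getD 1 0, z.getD 2 0] = y 0 * y 1 * y 2 := by
    simp [prodX, hy, mul_assoc]
  rw [e4, e3, inv_inv, mul_assoc g⁻¹, hg, hid]
  group

/-- A checked chain gives a conjugation by a fixed element. -/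
theorem chain_conj : ∀ (ch : List (Mv × List ℕ)) (L Y : List ℕ), chainB D E.ρ L ch Y = true →
    ∃ c : ↥(D.group F), E.σ c = c ∧ c * prodX Q L * c⁻¹ = prodX Q Y := by
  intro ch
  induction ch with
  | nil =>
    intro L Y h
    simp only [chainB, Bool.and_eq_true, List.isPerm_iff] at h
    exact ⟨1, map_one _, by rw [prodX_perm' Q h.1 h.2]; group⟩
  | cons p rest ih =>
    obtain ⟨m, L'⟩ := p
    intro L Y h
    simp only [chainB, Bool.and_eq_true, List.all_eq_true, decide_eq_true_eq] at h
    obtain ⟨⟨hlt, hm⟩, hrest⟩ := h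
    obtain ⟨c, hcf, hc⟩ := ih L' Y hrest
    suffices hd : ∃ d, E.σ d = d ∧ d * prodX Q L * d⁻¹ = prodX Q L' by
      obtain ⟨d, hdf, hd⟩ := hd
      exact ⟨c * d, by rw [map_mul, hcf, hdf], by
        rw [show c * d * prodX Q L * (c * d)⁻¹ = c * (d * prodX Q L * d⁻¹) * c⁻¹ by group, hd, hc]⟩
    cases m with
    | cj G dup =>
      simp only [mvB, Bool.and_eq_true, List.isPerm_iff] at hm
      obtain ⟨⟨⟨hG, hok⟩, hcm⟩, hp⟩ := hm
      have hdup : ∀ a ∈ dup, a < D.nroots := by
        intro a ha
        have hmem : a ∈ L' ++ dup.flatMap fun a => [a, a] :=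
          List.mem_append_right _ (List.mem_flatMap.2 ⟨a, ha, List.mem_cons_self⟩)
        have h' := hcm
        simp only [pcommB, List.all_eq_true, Bool.and_eq_true, decide_eq_true_eq] at h'
        exact (h' a (hp.mem_iff.2 hmem)).1
      refine ⟨E.el G 1, el_fixed E hG fun _ => map_one _, ?_⟩
      have e := eval_expG E hG 1 (fun _ => 1) rfl (map_one _).symm
        (L.map fun r => (r, [])) hok
      rw [eval_base] at e
      have e2 : ∀ M : List Trm, eval Q (fun _ => (1 : F)) M = prodX Q (M.map Prod.fst) := fun M => by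
        simp [TwData.eval, prodX, Function.comp_def]
      rw [el_inv E hG, e, e2, prodX_perm' Q hcm hp, prodX_append, prodX_dup Q hdup, mul_one]
    | mu G =>
      simp only [mvB, Bool.and_eq_true, List.all_eq_true, decide_eq_true_eq, Bool.not_eq_true',
        List.contains_iff_mem] at hm
      obtain ⟨⟨⟨⟨⟨⟨hG, hG2⟩, hok⟩, hcm⟩, hnd⟩, hsub⟩, hvals⟩ := hm
      refine ⟨E.el G E.μ, el_fixed E hG fun e => absurd e (by simpa using hG2), ?_⟩
      set v : ℕ → F := fun k => if k = 0 then E.μ else E.φ E.μ with hv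
      have e := eval_expG E hG E.μ v (by simp [hv]) (by simp [hv]) (L.map fun r => (r, [])) hok
      rw [eval_base] at e
      rw [el_inv E hG, e]
      set M := expG D (gvars G 0) (L.map fun r => (r, []))
      have hlt' : ∀ r ∈ M.map Prod.fst, r < D.nroots := fun r hr => by
        have h' := hcm
        simp only [pcommB, List.all_eq_true, Bool.and_eq_true, decide_eq_true_eq] at h'
        exact (h' r hr).1
      set Rs := L' ++ ((M.map Prod.fst).dedup.filter fun r => decide (r ∉ L'))
      have hmem : ∀ r, r ∈ Rs → r ∈ M.map Prod.fst := fun r hr => by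
        rcases List.mem_append.1 hr with h | h
        · exact hsub r h
        · exact List.mem_dedup.1 (List.mem_filter.1 h).1
      rw [eval_group Q v (fun r => if r ∈ L' then 1 else 0) Rs M
        (List.nodup_append.2 ⟨hnd, (List.nodup_dedup _).filter _, fun a ha b hb e => by
          have := (List.mem_filter.1 hb).2
          rw [decide_eq_true_eq] at this
          exact this (e ▸ ha)⟩)
        hcm (fun r hr => hlt' r (hmem r hr))
        (fun p hp => by
          by_cases h : p.1 ∈ L'
          · exact List.mem_append_left _ h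
          · exact List.mem_append_right _ (List.mem_filter.2
              ⟨List.mem_dedup.2 (List.mem_map_of_mem hp), by simpa using h⟩))
        (fun r hr => by
          have hμ : E.μ + E.φ E.μ = 1 := E.μ_spec
          have hμ' : E.φ E.μ + E.μ = 1 := by rw [add_comm, hμ]
          have h11 : (1 : F) + 1 = 0 := CharTwo.add_self_eq_zero 1
          have hcase := hvals r (hmem r hr)
          rw [show (fun p : Trm => (p.2.map v).prod) = (fun m => (m.map v).prod) ∘ Prod.snd from rfl,
            ← List.map_map]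
          split at hcase
          · next h =>
            simp only [oneVals, List.contains_iff_mem, List.mem_cons, List.not_mem_nil,
              or_false] at hcase
            simp only [if_pos h]
            rcases hcase with e | e | e <;> rw [e] <;> simp [hv, hμ, hμ']
          · next h =>
            simp only [zeroVals, List.contains_iff_mem, List.mem_cons, List.not_mem_nil,
              or_false] at hcase
            simp only [if_neg h]
            rcases hcase with e | e | e | e | e | e | e | e <;> rw [e] <;>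
              simp [hv, h11, hμ, hμ'] <;> linear_combination hμ + CharTwo.two_eq_zero (R := F))]
      rw [List.map_append, List.prod_append]
      have h0 : (((M.map Prod.fst).dedup.filter fun r => decide (r ∉ L')).map
          fun r => Q.sys.x r (if r ∈ L' then (1 : F) else 0)).prod = 1 :=
        List.prod_eq_one fun g hg => by
          obtain ⟨r, hr, rfl⟩ := List.mem_map.1 hg
          obtain ⟨h1, h2⟩ := List.mem_filter.1 hr
          rw [decide_eq_true_eq] at h2
          rw [if_neg h2, x_zero (hlt' r (List.mem_dedup.1 h1))]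
      rw [h0, mul_one, prodX]
      exact congrArg List.prod (List.map_congr_left fun r hr => by simp [hr])
    | ref i j =>
      simp only [mvB, Bool.and_eq_true, decide_eq_true_eq, List.isPerm_iff, Bool.or_eq_true,
        beq_iff_eq] at hm
      obtain ⟨⟨⟨⟨⟨⟨hi, hj⟩, ho⟩, ho'⟩, hc⟩, hcm⟩, hp⟩ := hm
      obtain ⟨d, hdf, hd⟩ := mv_ref E hi hj ho ho'
        (hc.imp id fun h => ⟨h.1.1.1, h.1.1.2, h.1.2, h.2⟩) hlt
      exact ⟨d, hdf, by rw [hd, prodX_perm' Q hcm hp]⟩
    | frame z =>
      simp only [mvB, Bool.and_eq_true, decide_eq_true_eq, List.isPerm_iff,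
        List.all_eq_true] at hm
      obtain ⟨⟨⟨⟨⟨⟨⟨hz, hcL⟩, hpL⟩, h34⟩, h67⟩, ho⟩, hc3⟩, hp3⟩ := hm
      obtain ⟨d, hdf, hd⟩ := mv_frame E hz h34 h67 ho
      exact ⟨d, hdf, by rw [prodX_perm' Q hcL hpL, hd, prodX_perm' Q hc3 hp3]⟩

end Cfsg.Agent.H56.Inv.Tw
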