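import Cfsg.Agent.H56.Inv.Classes
import Cfsg.Agent.H56.Inv.E6Data

/-!
The classes of involutions of `E6` in characteristic two.
-/
set_option autoImplicit false
set_option maxRecDepth 100000

namespace Cfsg.Agent.H56.Inv.E6

open Cfsg.Lie Cfsg.Agent

theorem orth_ok : ∀ j < 3, orthOk chevE6 (reps.getD (j + 1) []) = true := by decide +kernel

/-- The classes. -/
def classes (F : Type*) [Field F] [Finite F] [CharP F 2] :
    ClassCert (H37.Chev.dataE6 F) where
  Rs := reps
  ranks := [22, 32, 38]
  len_ok := rfl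
  first := rfl
  sl := sl F
  hT := (H37.Chev.dataE6 F).K.targetsOK
  cover g hg := exists_rep (sl F) (w := Chevalley.E6.tab.w) rfl walk_ok frame_ok
    (cf := Chevalley.E6.tab.cf chevE6) rfl span_ok hg
  orth j hj := orth_ok j hj
  rank_ok j hj := by
    have hj' : j < 3 := hj
    match j, hj' with
    | 0, _ =>
      exact RankCert.rank_eq (H37.Chev.dataE6 F).K (H37.Chev.dataE6 F).K.targetsOK rank1_ok
    | 1, _ =>
      exact RankCert.rank_eq (H37.Chev.dataE6 F).K (H37.Chev.dataE6 F).K.targetsOK rank2_ok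
    | 2, _ =>
      exact RankCert.rank_eq (H37.Chev.dataE6 F).K (H37.Chev.dataE6 F).K.targetsOK rank3_ok
  distinct := by decide

end Cfsg.Agent.H56.Inv.E6
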