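import Cfsg.Agent.H56.Inv.E7Data.Walk
import Cfsg.Agent.H56.Inv.E7Data.Simple
import Cfsg.Agent.H56.Inv.E7Data.Rank1
import Cfsg.Agent.H56.Inv.E7Data.Rank2
import Cfsg.Agent.H56.Inv.E7Data.Rank3
import Cfsg.Agent.H56.Inv.E7Data.Rank4
import Cfsg.Agent.H56.Inv.E7Data.Rank5

/-!
Certificates for the classes of involutions of `E7` in characteristic two: the parts live in `E7Data/`.
-/
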