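import Cfsg.Agent.H56.Inv.E8Data.Walk
import Cfsg.Agent.H56.Inv.E8Data.Simple
import Cfsg.Agent.H56.Inv.E8Data.Rank1
import Cfsg.Agent.H56.Inv.E8Data.Rank2
import Cfsg.Agent.H56.Inv.E8Data.Rank3
import Cfsg.Agent.H56.Inv.E8Data.Rank4

/-!
Certificates for the classes of involutions of `E8` in characteristic two: the parts live in `E8Data/`.
-/
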