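import Cfsg.Agent.H56.Inv.F4Data
import Cfsg.Agent.H51.F4Cent

/-!
The four classes of involutions of `F4` in characteristic two.
-/
set_option autoImplicit false
set_option maxRecDepth 100000

namespace Cfsg.Agent.H56.Inv.F4

open Cfsg.Lie Cfsg.Agent Cfsg.Agent.H37 Cfsg.Agent.H37.RootSys Cfsg.Agent.H56.Inv.Gen

variable (F : Type*) [Field F] [CharP F 2]

/-- The data. -/
abbrev Q0 : Chev.Data chevF4 F := Chev.dataF4 F

omit [CharP F 2] in
theorem tables0 : Tables chevF4 (Q0 F).K.cf cmb := tables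

theorem reps_ok : ∀ i < 4, pcommB chevF4 (reps.getD i [] ++ reps.getD i []) = true ∧
    (reps.getD i [] ++ reps.getD i []).isPerm ((reps.getD i []).flatMap fun a => [a, a]) = true := by
  decide +kernel

theorem piv_comm : ∀ j < nodes.length, pcommB chevF4 (nodes.getD j ⟨[], [], []⟩).piv = true := by
  decide +kernel

variable [Finite F]

/-- A representative. -/
def rep (i : ℕ) : ↥(chevF4.group F) := prodX (Q0 F) (reps.getD i [])

omit [Finite F] in
theorem rank_rep {i : ℕ} (hi : i < 4) :
    (((reps.getD i []).map fun r => chevF4.x F r 1).prod - 1).rank = [16, 16, 21, 24].getD i 0 := by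
  have hT := (Q0 F).K.targetsOK
  match i, hi with
  | 0, _ => exact RankCert.rank_eq (Q0 F).K hT rank1_ok
  | 1, _ => exact RankCert.rank_eq (Q0 F).K hT rank2_ok
  | 2, _ => exact RankCert.rank_eq (Q0 F).K hT rank3_ok
  | 3, _ => exact RankCert.rank_eq (Q0 F).K hT rank4_ok

omit [Finite F] in
theorem rep_ne {i : ℕ} (hi : i < 4) : rep F i ≠ 1 := by
  intro e
  have h := rank_rep F hi
  rw [← val_prodX (Q0 F)] at h
  rw [show prodX (Q0 F) (reps.getD i []) = 1 from e] at h
  simp only [OneMemClass.coe_one, Units.val_one, sub_self, Matrix.rank_zero] at h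
  revert h
  match i, hi with
  | 0, _ => decide
  | 1, _ => decide
  | 2, _ => decide
  | 3, _ => decide

omit [Finite F] in
theorem rep_sq {i : ℕ} (hi : i < 4) : rep F i * rep F i = 1 := by
  obtain ⟨h1, h2⟩ := reps_ok i hi
  rw [List.isPerm_iff] at h2
  rw [rep, ← prodX_append, prodX_perm' (Q0 F) h1 h2, prodX_dup]
  intro a ha
  simp only [pcommB, List.all_eq_true, Bool.and_eq_true, decide_eq_true_eq] at h1
  exact (h1 a (List.mem_append_left _ ha)).1

omit [Finite F] in
theorem orderOf_rep {i : ℕ} (hi : i < 4) : orderOf (rep F i) = 2 :=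
  orderOf_eq_prime (by rw [pow_two, rep_sq F hi]) (rep_ne F hi)

/-- Every involution is conjugate to a representative. -/
theorem cover {g : ↥(chevF4.group F)} (hg : orderOf g = 2) :
    ∃ i < 4, ∃ c : ↥(chevF4.group F), c * g * c⁻¹ = rep F i := by
  obtain ⟨hg2, hne⟩ := orderOf_eq_prime_iff.1 hg
  obtain ⟨c, L, ⟨j, hj, hL⟩, e⟩ := exists_node (Q0 F) (tables0 F) nodes_ok rfl
    (by decide +kernel) (by decide +kernel) (g := g) (by rw [← pow_two]; exact hg2)
  have hj0 : 0 < j := by
    rcases Nat.eq_zero_or_pos j with rfl | h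
    · exfalso
      have hnil : L = [] := List.Perm.eq_nil (by simpa [nodes, node0] using hL)
      rw [hnil, show prodX (Q0 F) [] = (1 : ↥(chevF4.group F)) from rfl] at e
      exact hne (conj_eq_one_iff.1 e)
    · exact h
  obtain ⟨i, hi, ch, hch⟩ := chains j hj hj0
  obtain ⟨d, hd⟩ := chain_conj (Q0 F) ch _ _ hch
  have hc : prodX (Q0 F) L = prodX (Q0 F) (nodes.getD j ⟨[], [], []⟩).piv := by
    exact (prodX_perm' (Q0 F) (piv_comm j hj) hL.symm).symm
  exact ⟨i, hi, d * c, by rw [show d * c * g * (d * c)⁻¹ = d * (c * g * c⁻¹) * d⁻¹ by group, e, hc, hd,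
    rep]⟩

theorem domB_long : H51.domB chevF4 47 [0, 1, 2] 3 = true := H51.domB_F4_long

theorem closed_top : H51.CW.closedB chevF4 [47] = true := by decide +kernel

/-- The long and the short root involution are not conjugate. -/
theorem not_conj_long_short (c : ↥(chevF4.group F)) : c * rep F 0 * c⁻¹ ≠ rep F 1 := by
  intro hc
  set Q := Q0 F with hQ
  have e0 : rep F 0 = Q.sys.x 47 1 := by simp [rep, reps, prodX, Q]
  have e1 : rep F 1 = Q.sys.x 44 1 := by simp [rep, reps, prodX, Q]
  rw [e0, e1] at hc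
  obtain ⟨u, hu, h, hh, w, v, hv, e⟩ := Q.sys.normalForm.exists_eq c
  change c = u * h * Q.sys.rep w * v at e
  have h1 := H51.central_of_domB Q domB_long v (Q.sys.Uw_le w hv)
  have h2 := H51.central_of_domB Q H51.domB_F4_short u hu
  rw [e, show u * h * Q.sys.rep w * v * Q.sys.x 47 1 * (u * h * Q.sys.rep w * v)⁻¹ =
    u * (h * Q.sys.rep w * (v * Q.sys.x 47 1 * v⁻¹) * (h * Q.sys.rep w)⁻¹) * u⁻¹ by group, h1,
    mul_inv_cancel_right, mul_inv_eq_iff_eq_mul, ← h2, mul_left_cancel_iff] at hc
  obtain ⟨r, hr, hrk⟩ := H51.F4.img_lead Q closed_top w hh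
    (x_mem_XS (Finset.mem_coe.2 (List.mem_toFinset.2 List.mem_cons_self)) 1) (k := 44)
    (by omega) (by omega) (p := 1) (one_mem _) (by rw [mul_one]; exact hc)
  rw [List.mem_singleton] at hr
  subst hr
  have := (H51.F4.img_short Q w (show 47 < chevF4.nroots by decide +kernel)).1 (by
    rw [hrk]; decide)
  revert this
  decide

theorem conj_eq {i j : ℕ} (hi : i < 4) (hj : j < 4) (c : ↥(chevF4.group F))
    (e : c * rep F i * c⁻¹ = rep F j) : i = j := by
  have h := rank_conj (Q0 F) c e
  rw [rank_rep F hi, rank_rep F hj] at h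
  rcases Nat.lt_or_ge 1 i with h1 | h1
  · revert h; revert hi hj h1
    have : ∀ i < 4, ∀ j < 4, 1 < i → [16, 16, 21, 24].getD j 0 = [16, 16, 21, 24].getD i 0 →
        i = j := by decide
    exact fun hi hj h1 h => this i hi j hj h1 h
  rcases Nat.lt_or_ge 1 j with h2 | h2
  · have : ∀ i < 4, ∀ j < 4, 1 < j → [16, 16, 21, 24].getD j 0 = [16, 16, 21, 24].getD i 0 →
        i = j := by decide
    exact this i hi j hj h2 h
  interval_cases i <;> interval_cases j
  · rfl
  · exact absurd e (not_conj_long_short F c)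
  · refine absurd ?_ (not_conj_long_short F c⁻¹)
    rw [← e]; group
  · rfl

/-- The matrices of the representatives. -/
theorem val_rep {i : ℕ} : ((rep F i : GL chevF4.Idx F) : Matrix chevF4.Idx chevF4.Idx F) =
    ((reps.getD i []).map fun r => chevF4.x F r 1).prod := val_prodX (Q0 F) _

end Cfsg.Agent.H56.Inv.F4
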