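import Cfsg.Agent.H56.Inv.GenPivot
import Cfsg.Agent.H56.Inv.GenMove
import Cfsg.Agent.H56.Inv.Rank
import Cfsg.Agent.H37.Chev.All

/-!
Certificates for the classes of involutions of `F4` in characteristic two.
-/
set_option autoImplicit false
set_option maxRecDepth 100000

namespace Cfsg.Agent.H56.Inv.F4

open Cfsg.Lie Cfsg.Agent Cfsg.Agent.H56.Inv.Gen

/-- The weights. -/
def wt : List ℤ :=
  [-536834, -274690, -270594, -270530, -270466, -266370, -4226, -270529, -270465, -266369,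
  -4225, -266305, -4161, -65, -1, -270464, -266368, -4224, -266304, -4160, -64, -266240, -4096,
  -262144, 262144, 4096, 266240, 64, 4160, 266304, 4224, 266368, 270464, 1, 65, 4161, 266305,
  4225, 266369, 270465, 270529, 4226, 266370, 270466, 270530, 270594, 274690, 536834]

/-- The combinations of two positive roots. -/
def cmb : List (List (List ℕ)) :=
  [
   [[], [26], [], [], [29, 32], [], [31], [], [], [], [], [36, 43], [], [38, 45], [], [], [],
   [42], [], [], [], [], [47], []],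
   [[26], [], [], [28, 30], [], [], [], [32], [], [], [35, 41], [], [], [], [39, 47], [], [], [],
   [43], [], [], [46], [], []],
   [[], [], [], [29, 31], [], [], [32], [], [], [], [36, 42], [], [], [39, 46], [], [], [], [43],
   [], [], [], [47], [], []],
   [[], [28, 30], [29, 31], [], [30], [31], [], [], [], [34], [], [37], [38], [], [], [40], [],
   [], [], [44, 45], [45], [], [], []],
   [[29, 32], [], [], [30], [], [32], [], [], [], [35], [37], [], [39], [], [40], [], [], [],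
   [44, 46], [], [46], [], [], []],
   [[], [], [], [31], [32], [], [], [], [], [36], [38], [39], [], [40], [], [], [], [44, 47], [],
   [], [47], [], [], []],
   [[31], [], [32], [], [], [], [], [], [], [37, 41], [], [], [40, 47], [], [], [], [], [], [45],
   [46], [], [], [], []],
   [[], [32], [], [], [], [], [], [], [], [38, 42], [], [40, 46], [], [], [], [], [], [45], [],
   [47], [], [], [], []],
   [[], [], [], [], [], [], [], [], [], [39, 43], [40, 45], [], [], [], [], [], [], [46], [47],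
   [], [], [], [], []],
   [[], [], [], [34], [35], [36], [37, 41], [38, 42], [39, 43], [], [], [], [], [41], [42], [43],
   [44], [], [], [], [], [], [], []],
   [[], [35, 41], [36, 42], [], [37], [38], [], [], [40, 45], [], [], [41], [42], [], [], [44],
   [45], [], [], [], [], [], [], []],
   [[36, 43], [], [], [37], [], [39], [], [40, 46], [], [], [41], [], [43], [], [44], [], [46],
   [], [], [], [], [], [], []],
   [[], [], [], [38], [39], [], [40, 47], [], [], [], [42], [43], [], [44], [], [], [47], [], [],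
   [], [], [], [], []],
   [[38, 45], [], [39, 46], [], [], [40], [], [], [], [41], [], [], [44], [], [45], [46], [], [],
   [], [], [], [], [], []],
   [[], [39, 47], [], [], [40], [], [], [], [], [42], [], [44], [], [45], [], [47], [], [], [],
   [], [], [], [], []],
   [[], [], [], [40], [], [], [], [], [], [43], [44], [], [], [46], [47], [], [], [], [], [], [],
   [], [], []],
   [[], [], [], [], [], [], [], [], [], [44], [45], [46], [47], [], [], [], [], [], [], [], [],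
   [], [], []],
   [[42], [], [43], [], [], [44, 47], [], [45], [46], [], [], [], [], [], [], [], [], [], [], [],
   [], [], [], []],
   [[], [43], [], [], [44, 46], [], [45], [], [47], [], [], [], [], [], [], [], [], [], [], [],
   [], [], [], []],
   [[], [], [], [44, 45], [], [], [46], [47], [], [], [], [], [], [], [], [], [], [], [], [], [],
   [], [], []],
   [[], [], [], [45], [46], [47], [], [], [], [], [], [], [], [], [], [], [], [], [], [], [], [],
   [], []],
   [[], [46], [47], [], [], [], [], [], [], [], [], [], [], [], [], [], [], [], [], [], [], [],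
   [], []],
   [[47], [], [], [], [], [], [], [], [], [], [], [], [], [], [], [], [], [], [], [], [], [], [],
   []],
   [[], [], [], [], [], [], [], [], [], [], [], [], [], [], [], [], [], [], [], [], [], [], [],
   []]]

/-- Node 0. -/
def node0 : Node where
  piv := []
  sup := [24, 25, 26, 27, 28, 29, 30, 31, 32, 33, 34, 35, 36, 37, 38, 39, 40, 41, 42, 43, 44, 45, 46, 47]
  ops := [
    (24, Op.piv 1 [Step.clear 26 25 1 1, Step.clear 29 28 1 1, Step.clear 31 30 1 1, Step.clear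
    36 35 1 1, Step.clear 38 37 1 1, Step.clear 42 41 1 1, Step.clear 47 46 1 1, Step.kill 25 26
    1 1 [27, 28, 29, 30, 31, 32, 33, 34, 35, 36, 37, 38, 39, 40, 41, 42, 43, 44, 45, 46, 47]
    [25, 27, 28, 29, 30, 31, 32, 33, 34, 35, 36, 37, 38, 39, 40, 41, 42, 43, 44, 45, 46, 47],
    Step.kill 28 29 1 1 [27, 30, 31, 32, 33, 34, 35, 36, 37, 38, 39, 40, 41, 42, 43, 44, 45, 46,
    47] [27, 28, 30, 31, 32, 33, 34, 35, 36, 37, 38, 39, 40, 41, 42, 43, 44, 45, 46, 47],
    Step.kill 30 31 1 1 [27, 32, 33, 34, 35, 36, 37, 38, 39, 40, 41, 42, 43, 44, 45, 46, 47]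
    [27, 30, 32, 33, 34, 35, 36, 37, 38, 39, 40, 41, 42, 43, 44, 45, 46, 47], Step.kill 35 36 1
    1 [27, 32, 33, 34, 37, 38, 39, 40, 41, 42, 43, 44, 45, 46, 47] [27, 32, 33, 34, 35, 37, 38,
    39, 40, 41, 42, 43, 44, 45, 46, 47], Step.kill 37 38 1 1 [27, 32, 33, 34, 39, 40, 41, 42,
    43, 44, 45, 46, 47] [27, 32, 33, 34, 37, 39, 40, 41, 42, 43, 44, 45, 46, 47], Step.kill 41
    42 1 1 [27, 32, 33, 34, 39, 40, 43, 44, 45, 46, 47] [27, 32, 33, 34, 39, 40, 41, 43, 44, 45,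
    46, 47], Step.kill 46 47 1 1 [27, 32, 33, 34, 39, 40, 43, 44, 45] [27, 32, 33, 34, 39, 40,
    43, 44, 45, 46]]), (25, Op.piv 2 [Step.clear 26 24 1 1, Step.clear 28 27 1 1, Step.clear 32
    31 1 1, Step.clear 35 34 1 1, Step.clear 39 38 1 1, Step.clear 43 42 1 1, Step.clear 46 45 1
    1, Step.kill 27 28 1 1 [29, 30, 31, 32, 33, 34, 35, 36, 37, 38, 39, 40, 41, 42, 43, 44, 45,
    46, 47] [27, 29, 30, 31, 32, 33, 34, 35, 36, 37, 38, 39, 40, 41, 42, 43, 44, 45, 46, 47],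
    Step.kill 31 32 1 1 [29, 30, 33, 34, 35, 36, 37, 38, 39, 40, 41, 42, 43, 44, 45, 46, 47]
    [29, 30, 31, 33, 34, 35, 36, 37, 38, 39, 40, 41, 42, 43, 44, 45, 46, 47], Step.kill 34 35 1
    1 [29, 30, 33, 36, 37, 38, 39, 40, 41, 42, 43, 44, 45, 46, 47] [29, 30, 33, 34, 36, 37, 38,
    39, 40, 41, 42, 43, 44, 45, 46, 47], Step.kill 38 39 1 1 [29, 30, 33, 36, 37, 40, 41, 42,
    43, 44, 45, 46, 47] [29, 30, 33, 36, 37, 38, 40, 41, 42, 43, 44, 45, 46, 47], Step.kill 42
    43 1 1 [29, 30, 33, 36, 37, 40, 41, 44, 45, 46, 47] [29, 30, 33, 36, 37, 40, 41, 42, 44, 45,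
    46, 47], Step.kill 45 46 1 1 [29, 30, 33, 36, 37, 40, 41, 44, 47] [29, 30, 33, 36, 37, 40,
    41, 44, 45, 47]]), (26, Op.jump 22 24 1 1), (27, Op.piv 3 [Step.clear 30 25 1 2, Step.clear
    31 26 1 2, Step.clear 34 33 1 1, Step.clear 37 35 1 1, Step.clear 38 36 1 1, Step.clear 40
    39 1 1, Step.clear 45 43 1 2, Step.kill 33 34 1 1 [28, 29, 32, 35, 36, 37, 38, 39, 40, 41,
    42, 43, 44, 45, 46, 47] [28, 29, 32, 33, 35, 36, 37, 38, 39, 40, 41, 42, 43, 44, 45, 46,
    47], Step.kill 35 37 1 1 [28, 29, 32, 36, 38, 39, 40, 41, 42, 43, 44, 45, 46, 47] [28, 29,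
    32, 35, 36, 38, 39, 40, 41, 42, 43, 44, 45, 46, 47], Step.kill 36 38 1 1 [28, 29, 32, 39,
    40, 41, 42, 43, 44, 45, 46, 47] [28, 29, 32, 36, 39, 40, 41, 42, 43, 44, 45, 46, 47],
    Step.kill 39 40 1 1 [28, 29, 32, 41, 42, 43, 44, 45, 46, 47] [28, 29, 32, 39, 41, 42, 43,
    44, 45, 46, 47], Step.kill 43 45 2 1 [28, 29, 32, 41, 42, 44, 46, 47] [28, 29, 32, 41, 42,
    43, 44, 46, 47]]), (28, Op.jump 22 27 1 1), (29, Op.jump 21 27 1 1), (30, Op.jump 20 25 2
    1), (31, Op.jump 17 24 1 1), (32, Op.jump 16 25 1 1), (33, Op.piv 4 [Step.clear 34 27 1 1,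
    Step.clear 35 28 1 1, Step.clear 36 29 1 1, Step.clear 41 30 1 2, Step.clear 42 31 1 2,
    Step.clear 43 32 1 2, Step.clear 44 40 1 1, Step.kill 40 44 1 1 [37, 38, 39, 45, 46, 47]
    [37, 38, 39, 40, 45, 46, 47]]), (34, Op.jump 14 27 1 1), (35, Op.jump 14 28 1 1), (36,
    Op.jump 14 29 1 1), (37, Op.jump 17 33 1 1), (38, Op.jump 16 33 1 1), (39, Op.jump 15 33 1
    1), (40, Op.jump 15 34 1 1), (41, Op.jump 13 25 2 1), (42, Op.jump 6 24 1 1), (43, Op.jump 5
    25 1 1), (44, Op.jump 4 27 1 1), (45, Op.jump 5 30 1 1), (46, Op.jump 2 25 1 1), (47,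
    Op.jump 1 24 1 1)]

/-- Node 1. -/
def node1 : Node where
  piv := [24]
  sup := [27, 32, 33, 34, 39, 40, 43, 44, 45]
  ops := [
    (27, Op.piv 5 [Step.clear 34 33 1 1, Step.clear 40 39 1 1, Step.clear 45 43 1 2, Step.kill
    33 34 1 1 [32, 39, 40, 43, 44, 45] [32, 33, 39, 40, 43, 44, 45], Step.kill 39 40 1 1 [32,
    43, 44, 45] [32, 39, 43, 44, 45], Step.kill 43 45 2 1 [32, 44] [32, 43, 44]]), (32, Op.piv 6
    [Step.clear 39 33 1 1, Step.clear 40 34 1 1, Step.kill 33 39 1 1 [34, 40, 43, 44, 45] [33,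
    34, 40, 43, 44, 45], Step.kill 34 40 1 1 [43, 44, 45] [34, 43, 44, 45]]), (33, Op.piv 7
    [Step.clear 34 27 1 1, Step.clear 43 32 1 2, Step.clear 44 40 1 1, Step.kill 40 44 1 1 [39,
    45] [39, 40, 45]]), (34, Op.jump 14 27 1 1), (39, Op.jump 15 33 1 1), (40, Op.jump 15 34 1
    1), (43, Op.jump 14 32 2 1), (44, Op.jump 4 27 1 1), (45, Op.jump 13 32 2 1)]

/-- Node 2. -/
def node2 : Node where
  piv := [25]
  sup := [29, 30, 33, 36, 37, 40, 41, 44, 47]
  ops := [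
    (29, Op.piv 8 [Step.clear 36 33 1 1, Step.clear 40 37 1 1, Step.clear 47 41 1 2, Step.kill
    33 36 1 1 [30, 37, 40, 41, 44, 47] [30, 33, 37, 40, 41, 44, 47], Step.kill 37 40 1 1 [30,
    41, 44, 47] [30, 37, 41, 44, 47], Step.kill 41 47 2 1 [30, 44] [30, 41, 44]]), (30, Op.piv 9
    [Step.clear 37 33 1 1, Step.clear 40 36 1 1, Step.kill 33 37 1 1 [36, 40, 41, 44, 47] [33,
    36, 40, 41, 44, 47], Step.kill 36 40 1 1 [41, 44, 47] [36, 41, 44, 47]]), (33, Op.piv 10
    [Step.clear 36 29 1 1, Step.clear 41 30 1 2, Step.clear 44 40 1 1, Step.kill 40 44 1 1 [37,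
    47] [37, 40, 47]]), (36, Op.jump 14 29 1 1), (37, Op.jump 17 33 1 1), (40, Op.jump 17 36 1
    1), (41, Op.jump 14 30 2 1), (44, Op.jump 6 29 1 1), (47, Op.jump 11 30 2 1)]

/-- Node 3. -/
def node3 : Node where
  piv := [27]
  sup := [24, 28, 29, 32, 41, 42, 44, 46, 47]
  ops := [
    (24, Op.piv 5 [Step.clear 29 28 1 1, Step.clear 42 41 1 1, Step.clear 47 46 1 1, Step.kill
    28 29 1 1 [32, 41, 42, 44, 46, 47] [28, 32, 41, 42, 44, 46, 47], Step.kill 41 42 1 1 [32,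
    44, 46, 47] [32, 41, 44, 46, 47], Step.kill 46 47 1 1 [32, 44] [32, 44, 46]]), (28, Op.piv
    11 [Step.clear 32 24 1 2, Step.clear 46 42 1 2, Step.kill 42 46 2 1 [29, 41, 44, 47] [29,
    41, 42, 44, 47]]), (29, Op.jump 23 28 1 1), (32, Op.jump 19 24 2 1), (41, Op.piv 12
    [Step.clear 42 24 1 1, Step.clear 44 29 1 1, Step.clear 46 32 1 1]), (42, Op.jump 6 24 1 1),
    (44, Op.jump 5 28 1 1), (46, Op.jump 6 32 1 1), (47, Op.jump 1 24 1 1)]

/-- Node 4. -/
def node4 : Node where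
  piv := [33]
  sup := [24, 25, 26, 37, 38, 39, 45, 46, 47]
  ops := [
    (24, Op.piv 7 [Step.clear 26 25 1 1, Step.clear 38 37 1 1, Step.clear 47 46 1 1, Step.kill
    25 26 1 1 [37, 38, 39, 45, 46, 47] [25, 37, 38, 39, 45, 46, 47], Step.kill 37 38 1 1 [39,
    45, 46, 47] [37, 39, 45, 46, 47], Step.kill 46 47 1 1 [39, 45] [39, 45, 46]]), (25, Op.piv
    10 [Step.clear 26 24 1 1, Step.clear 39 38 1 1, Step.clear 46 45 1 1, Step.kill 38 39 1 1
    [37, 45, 46, 47] [37, 38, 45, 46, 47], Step.kill 45 46 1 1 [37, 47] [37, 45, 47]]), (26,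
    Op.jump 22 24 1 1), (37, Op.piv 13 [Step.clear 45 24 1 2, Step.clear 46 26 1 2]), (38,
    Op.jump 23 37 1 1), (39, Op.jump 21 37 1 1), (45, Op.jump 10 24 2 1), (46, Op.jump 2 25 1
    1), (47, Op.jump 1 24 1 1)]

/-- Node 5. -/
def node5 : Node where
  piv := [24, 27]
  sup := [32, 44]
  ops := [
    (32, Op.piv 14 []), (44, Op.piv 15 [])]

/-- Node 6. -/
def node6 : Node where
  piv := [24, 32]
  sup := [27, 43, 44, 45]
  ops := [
    (27, Op.piv 14 [Step.clear 45 43 1 2, Step.kill 43 45 2 1 [44] [43, 44]]), (43, Op.piv 16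
    [Step.clear 44 27 1 1]), (44, Op.jump 4 27 1 1), (45, Op.jump 20 43 2 1)]

/-- Node 7. -/
def node7 : Node where
  piv := [24, 33]
  sup := [39, 45]
  ops := [
    (39, Op.piv 17 []), (45, Op.piv 18 [])]

/-- Node 8. -/
def node8 : Node where
  piv := [25, 29]
  sup := [30, 44]
  ops := [
    (30, Op.piv 19 []), (44, Op.piv 20 [])]

/-- Node 9. -/
def node9 : Node where
  piv := [25, 30]
  sup := [29, 41, 44, 47]
  ops := [
    (29, Op.piv 19 [Step.clear 47 41 1 2, Step.kill 41 47 2 1 [44] [41, 44]]), (41, Op.piv 21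
    [Step.clear 44 29 1 1]), (44, Op.jump 6 29 1 1), (47, Op.jump 18 41 2 1)]

/-- Node 10. -/
def node10 : Node where
  piv := [25, 33]
  sup := [37, 47]
  ops := [
    (37, Op.piv 22 []), (47, Op.piv 23 [])]

/-- Node 11. -/
def node11 : Node where
  piv := [27, 28]
  sup := [29, 41, 44, 47]
  ops := [
    (29, Op.piv 24 [Step.clear 47 41 1 2, Step.kill 41 47 2 1 [44] [41, 44]]), (41, Op.piv 25
    [Step.clear 44 29 1 1]), (44, Op.jump 6 29 1 1), (47, Op.jump 18 41 2 1)]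

/-- Node 12. -/
def node12 : Node where
  piv := [27, 41]
  sup := [28, 47]
  ops := [
    (28, Op.piv 25 []), (47, Op.piv 26 [])]

/-- Node 13. -/
def node13 : Node where
  piv := [33, 37]
  sup := [25, 38, 39, 47]
  ops := [
    (25, Op.piv 22 [Step.clear 39 38 1 1, Step.kill 38 39 1 1 [47] [38, 47]]), (38, Op.piv 27
    [Step.clear 47 25 1 2]), (39, Op.jump 22 38 1 1), (47, Op.jump 9 25 2 1)]

/-- Node 14. -/
def node14 : Node where
  piv := [24, 27, 32]
  sup := [44]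
  ops := [
    (44, Op.piv 28 [])]

/-- Node 15. -/
def node15 : Node where
  piv := [24, 27, 44]
  sup := [32]
  ops := [
    (32, Op.piv 28 [])]

/-- Node 16. -/
def node16 : Node where
  piv := [24, 32, 43]
  sup := [45]
  ops := [
    (45, Op.piv 29 [])]

/-- Node 17. -/
def node17 : Node where
  piv := [24, 33, 39]
  sup := [45]
  ops := [
    (45, Op.piv 30 [])]

/-- Node 18. -/
def node18 : Node where
  piv := [24, 33, 45]
  sup := [39]
  ops := [
    (39, Op.piv 30 [])]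

/-- Node 19. -/
def node19 : Node where
  piv := [25, 29, 30]
  sup := [44]
  ops := [
    (44, Op.piv 31 [])]

/-- Node 20. -/
def node20 : Node where
  piv := [25, 29, 44]
  sup := [30]
  ops := [
    (30, Op.piv 31 [])]

/-- Node 21. -/
def node21 : Node where
  piv := [25, 30, 41]
  sup := [47]
  ops := [
    (47, Op.piv 32 [])]

/-- Node 22. -/
def node22 : Node where
  piv := [25, 33, 37]
  sup := [47]
  ops := [
    (47, Op.piv 33 [])]

/-- Node 23. -/
def node23 : Node where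
  piv := [25, 33, 47]
  sup := [37]
  ops := [
    (37, Op.piv 33 [])]

/-- Node 24. -/
def node24 : Node where
  piv := [27, 28, 29]
  sup := [44]
  ops := [
    (44, Op.piv 34 [])]

/-- Node 25. -/
def node25 : Node where
  piv := [27, 28, 41]
  sup := [47]
  ops := [
    (47, Op.piv 35 [])]

/-- Node 26. -/
def node26 : Node where
  piv := [27, 41, 47]
  sup := [28]
  ops := [
    (28, Op.piv 35 [])]

/-- Node 27. -/
def node27 : Node where
  piv := [33, 37, 38]
  sup := [39]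
  ops := [
    (39, Op.piv 36 [])]

/-- Node 28. -/
def node28 : Node where
  piv := [24, 27, 32, 44]
  sup := []
  ops := [
    ]

/-- Node 29. -/
def node29 : Node where
  piv := [24, 32, 43, 45]
  sup := []
  ops := [
    ]

/-- Node 30. -/
def node30 : Node where
  piv := [24, 33, 39, 45]
  sup := []
  ops := [
    ]

/-- Node 31. -/
def node31 : Node where
  piv := [25, 29, 30, 44]
  sup := []
  ops := [
    ]

/-- Node 32. -/
def node32 : Node where
  piv := [25, 30, 41, 47]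
  sup := []
  ops := [
    ]

/-- Node 33. -/
def node33 : Node where
  piv := [25, 33, 37, 47]
  sup := []
  ops := [
    ]

/-- Node 34. -/
def node34 : Node where
  piv := [27, 28, 29, 44]
  sup := []
  ops := [
    ]

/-- Node 35. -/
def node35 : Node where
  piv := [27, 28, 41, 47]
  sup := []
  ops := [
    ]

/-- Node 36. -/
def node36 : Node where
  piv := [33, 37, 38, 39]
  sup := []
  ops := [
    ]

/-- The nodes. -/
def nodes : List Node :=
  [node0, node1, node2, node3, node4, node5, node6, node7, node8, node9, node10, node11,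
  node12, node13, node14, node15, node16, node17, node18, node19, node20, node21, node22,
  node23, node24, node25, node26, node27, node28, node29, node30, node31, node32, node33,
  node34, node35, node36]

/-- The four representatives. -/
def reps : List (List ℕ) := [[47], [44], [47, 44], [39, 45]]

theorem cmb_ok : cmbOk chevF4 wt cmb = true := by decide +kernel

theorem bnd_ok : bndB chevF4 (Chevalley.F4.tab.cf chevF4) = true := by decide +kernel

theorem wt_ok : ∀ r < chevF4.nroots, wt.getD r 0 = wtOf chevF4 (Chevalley.F4.tab.cf chevF4) r := by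
  decide +kernel

theorem tables : Tables chevF4 (Chevalley.F4.tab.cf chevF4) cmb := ⟨bnd_ok, wt, cmb_ok, wt_ok⟩

theorem node0_ok : nodeB chevF4 cmb nodes 0 = true := by decide +kernel
theorem node1_ok : nodeB chevF4 cmb nodes 1 = true := by decide +kernel
theorem node2_ok : nodeB chevF4 cmb nodes 2 = true := by decide +kernel
theorem node3_ok : nodeB chevF4 cmb nodes 3 = true := by decide +kernel
theorem node4_ok : nodeB chevF4 cmb nodes 4 = true := by decide +kernel
theorem node5_ok : nodeB chevF4 cmb nodes 5 = true := by decide +kernel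
theorem node6_ok : nodeB chevF4 cmb nodes 6 = true := by decide +kernel
theorem node7_ok : nodeB chevF4 cmb nodes 7 = true := by decide +kernel
theorem node8_ok : nodeB chevF4 cmb nodes 8 = true := by decide +kernel
theorem node9_ok : nodeB chevF4 cmb nodes 9 = true := by decide +kernel
theorem node10_ok : nodeB chevF4 cmb nodes 10 = true := by decide +kernel
theorem node11_ok : nodeB chevF4 cmb nodes 11 = true := by decide +kernel
theorem node12_ok : nodeB chevF4 cmb nodes 12 = true := by decide +kernel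
theorem node13_ok : nodeB chevF4 cmb nodes 13 = true := by decide +kernel
theorem node14_ok : nodeB chevF4 cmb nodes 14 = true := by decide +kernel
theorem node15_ok : nodeB chevF4 cmb nodes 15 = true := by decide +kernel
theorem node16_ok : nodeB chevF4 cmb nodes 16 = true := by decide +kernel
theorem node17_ok : nodeB chevF4 cmb nodes 17 = true := by decide +kernel
theorem node18_ok : nodeB chevF4 cmb nodes 18 = true := by decide +kernel
theorem node19_ok : nodeB chevF4 cmb nodes 19 = true := by decide +kernel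
theorem node20_ok : nodeB chevF4 cmb nodes 20 = true := by decide +kernel
theorem node21_ok : nodeB chevF4 cmb nodes 21 = true := by decide +kernel
theorem node22_ok : nodeB chevF4 cmb nodes 22 = true := by decide +kernel
theorem node23_ok : nodeB chevF4 cmb nodes 23 = true := by decide +kernel
theorem node24_ok : nodeB chevF4 cmb nodes 24 = true := by decide +kernel
theorem node25_ok : nodeB chevF4 cmb nodes 25 = true := by decide +kernel
theorem node26_ok : nodeB chevF4 cmb nodes 26 = true := by decide +kernel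
theorem node27_ok : nodeB chevF4 cmb nodes 27 = true := by decide +kernel
theorem node28_ok : nodeB chevF4 cmb nodes 28 = true := by decide +kernel
theorem node29_ok : nodeB chevF4 cmb nodes 29 = true := by decide +kernel
theorem node30_ok : nodeB chevF4 cmb nodes 30 = true := by decide +kernel
theorem node31_ok : nodeB chevF4 cmb nodes 31 = true := by decide +kernel
theorem node32_ok : nodeB chevF4 cmb nodes 32 = true := by decide +kernel
theorem node33_ok : nodeB chevF4 cmb nodes 33 = true := by decide +kernel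
theorem node34_ok : nodeB chevF4 cmb nodes 34 = true := by decide +kernel
theorem node35_ok : nodeB chevF4 cmb nodes 35 = true := by decide +kernel
theorem node36_ok : nodeB chevF4 cmb nodes 36 = true := by decide +kernel

theorem nodes_ok : AllNodes cmb chevF4 nodes := by
  intro idx h
  match idx, h with
  | 0, _ => exact node0_ok
  | 1, _ => exact node1_ok
  | 2, _ => exact node2_ok
  | 3, _ => exact node3_ok
  | 4, _ => exact node4_ok
  | 5, _ => exact node5_ok
  | 6, _ => exact node6_ok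
  | 7, _ => exact node7_ok
  | 8, _ => exact node8_ok
  | 9, _ => exact node9_ok
  | 10, _ => exact node10_ok
  | 11, _ => exact node11_ok
  | 12, _ => exact node12_ok
  | 13, _ => exact node13_ok
  | 14, _ => exact node14_ok
  | 15, _ => exact node15_ok
  | 16, _ => exact node16_ok
  | 17, _ => exact node17_ok
  | 18, _ => exact node18_ok
  | 19, _ => exact node19_ok
  | 20, _ => exact node20_ok
  | 21, _ => exact node21_ok
  | 22, _ => exact node22_ok
  | 23, _ => exact node23_ok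
  | 24, _ => exact node24_ok
  | 25, _ => exact node25_ok
  | 26, _ => exact node26_ok
  | 27, _ => exact node27_ok
  | 28, _ => exact node28_ok
  | 29, _ => exact node29_ok
  | 30, _ => exact node30_ok
  | 31, _ => exact node31_ok
  | 32, _ => exact node32_ok
  | 33, _ => exact node33_ok
  | 34, _ => exact node34_ok
  | 35, _ => exact node35_ok
  | 36, _ => exact node36_ok
  | n + 37, h => exact absurd h (by simp only [nodes, List.length_cons, List.length_nil]; omega)

theorem chain1_ok : ∃ j < 4, ∃ ch, chainB chevF4 [24] ch (reps.getD j []) = true :=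
  ⟨0, by omega,
    [(Mv.cj 46 [], [24, 47]), (Mv.cj 1 [24], [47])],
    by decide +kernel⟩

theorem chain2_ok : ∃ j < 4, ∃ ch, chainB chevF4 [25] ch (reps.getD j []) = true :=
  ⟨0, by omega,
    [(Mv.cj 38 [], [25, 39, 47]), (Mv.cj 9 [25, 39], [47])],
    by decide +kernel⟩

theorem chain3_ok : ∃ j < 4, ∃ ch, chainB chevF4 [27] ch (reps.getD j []) = true :=
  ⟨1, by omega,
    [(Mv.cj 43 [], [27, 44, 45]), (Mv.cj 4 [27, 45], [44])],
    by decide +kernel⟩

theorem chain4_ok : ∃ j < 4, ∃ ch, chainB chevF4 [33] ch (reps.getD j []) = true :=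
  ⟨1, by omega,
    [(Mv.cj 40 [], [33, 44]), (Mv.cj 7 [33], [44])],
    by decide +kernel⟩

theorem chain5_ok : ∃ j < 4, ∃ ch, chainB chevF4 [24, 27] ch (reps.getD j []) = true :=
  ⟨3, by omega,
    [(Mv.cj 39 [], [24, 27, 40]), (Mv.cj 8 [27], [24, 40]), (Mv.cj 35 [], [24, 36, 40,
    43]), (Mv.cj 12 [24, 36], [40, 43]), (Mv.ref 1, [39, 45])],
    by decide +kernel⟩

theorem chain6_ok : ∃ j < 4, ∃ ch, chainB chevF4 [24, 32] ch (reps.getD j []) = true :=
  ⟨2, by omega,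
    [(Mv.cj 19 [24], [29, 32]), (Mv.cj 41 [], [29, 32, 44, 46, 47]), (Mv.cj 6 [32, 47,
    29], [44, 46]), (Mv.ref 3, [44, 47])],
    by decide +kernel⟩

theorem chain7_ok : ∃ j < 4, ∃ ch, chainB chevF4 [24, 33] ch (reps.getD j []) = true :=
  ⟨3, by omega,
    [(Mv.cj 37 [], [24, 33, 38, 45]), (Mv.cj 32 [], [24, 33, 38, 39, 43, 45]), (Mv.cj 15
    [33, 43], [24, 38, 39, 45]), (Mv.cj 10 [24, 38], [39, 45])],
    by decide +kernel⟩

theorem chain8_ok : ∃ j < 4, ∃ ch, chainB chevF4 [25, 29] ch (reps.getD j []) = true :=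
  ⟨3, by omega,
    [(Mv.cj 42 [], [25, 29, 43]), (Mv.cj 37 [], [25, 29, 40, 43]), (Mv.cj 10 [29], [25,
    40, 43]), (Mv.cj 5 [25], [40, 43]), (Mv.ref 1, [39, 45])],
    by decide +kernel⟩

theorem chain9_ok : ∃ j < 4, ∃ ch, chainB chevF4 [25, 30] ch (reps.getD j []) = true :=
  ⟨2, by omega,
    [(Mv.cj 38 [], [25, 30, 39, 47]), (Mv.cj 11 [30], [25, 28, 39, 40, 47]), (Mv.cj 9 [39,
    25, 28], [40, 47]), (Mv.ref 0, [44, 47])],
    by decide +kernel⟩

theorem chain10_ok : ∃ j < 4, ∃ ch, chainB chevF4 [25, 33] ch (reps.getD j []) = true :=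
  ⟨3, by omega,
    [(Mv.cj 45 [], [25, 33, 46]), (Mv.cj 2 [25], [33, 46]), (Mv.cj 31 [], [33, 38, 42,
    46]), (Mv.cj 16 [33, 42], [38, 46]), (Mv.ref 2, [39, 45])],
    by decide +kernel⟩

theorem chain11_ok : ∃ j < 4, ∃ ch, chainB chevF4 [27, 28] ch (reps.getD j []) = true :=
  ⟨2, by omega,
    [(Mv.cj 43 [], [27, 28, 44, 45]), (Mv.cj 5 [28], [27, 30, 44, 45, 46]), (Mv.cj 4 [45,
    27, 30], [44, 46]), (Mv.ref 3, [44, 47])],
    by decide +kernel⟩

theorem chain12_ok : ∃ j < 4, ∃ ch, chainB chevF4 [27, 41] ch (reps.getD j []) = true :=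
  ⟨3, by omega,
    [(Mv.cj 39 [], [27, 40, 41]), (Mv.cj 8 [27], [40, 41]), (Mv.ref 3, [40, 42]), (Mv.ref
    2, [40, 43]), (Mv.ref 1, [39, 45])],
    by decide +kernel⟩

theorem chain13_ok : ∃ j < 4, ∃ ch, chainB chevF4 [33, 37] ch (reps.getD j []) = true :=
  ⟨2, by omega,
    [(Mv.cj 17 [33], [37, 41]), (Mv.cj 29 [], [37, 40, 41, 44, 47]), (Mv.cj 18 [37, 41,
    44], [40, 47]), (Mv.ref 0, [44, 47])],
    by decide +kernel⟩

theorem chain14_ok : ∃ j < 4, ∃ ch, chainB chevF4 [24, 27, 32] ch (reps.getD j []) = true :=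
  ⟨3, by omega,
    [(Mv.cj 26 [], [24, 27, 29, 31, 32]), (Mv.cj 22 [31], [24, 27, 29, 32]), (Mv.cj 43 [],
    [24, 27, 29, 32, 44, 45]), (Mv.cj 19 [24, 29], [27, 32, 44, 45]), (Mv.cj 4 [27, 45],
    [32, 44]), (Mv.ref 0, [40, 43]), (Mv.ref 1, [39, 45])],
    by decide +kernel⟩

theorem chain15_ok : ∃ j < 4, ∃ ch, chainB chevF4 [24, 27, 44] ch (reps.getD j []) = true :=
  ⟨3, by omega,
    [(Mv.cj 4 [27], [24, 44, 45]), (Mv.cj 10 [24], [36, 38, 44, 45]), (Mv.cj 35 [44], [36,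
    38, 45]), (Mv.cj 28 [], [36, 38, 39, 40, 45]), (Mv.cj 27 [38, 40], [36, 39, 45]),
    (Mv.cj 19 [36], [39, 45])],
    by decide +kernel⟩

theorem chain16_ok : ∃ j < 4, ∃ ch, chainB chevF4 [24, 32, 43] ch (reps.getD j []) = true :=
  ⟨3, by omega,
    [(Mv.cj 33 [43], [24, 32, 39]), (Mv.cj 28 [32], [24, 29, 39]), (Mv.cj 12 [29], [24,
    39]), (Mv.cj 37 [], [24, 38, 39, 45]), (Mv.cj 10 [24, 38], [39, 45])],
    by decide +kernel⟩

theorem chain17_ok : ∃ j < 4, ∃ ch, chainB chevF4 [24, 33, 39] ch (reps.getD j []) = true :=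
  ⟨3, by omega,
    [(Mv.cj 35 [], [24, 33, 36, 39, 43]), (Mv.cj 19 [36], [24, 33, 39, 43]), (Mv.cj 37 [],
    [24, 33, 38, 39, 43, 45]), (Mv.cj 15 [33, 43], [24, 38, 39, 45]), (Mv.cj 10 [24, 38],
    [39, 45])],
    by decide +kernel⟩

theorem chain18_ok : ∃ j < 4, ∃ ch, chainB chevF4 [24, 33, 45] ch (reps.getD j []) = true :=
  ⟨3, by omega,
    [(Mv.cj 31 [], [24, 33, 38, 42, 45]), (Mv.cj 17 [42], [24, 33, 38, 45]), (Mv.cj 32 [],
    [24, 33, 38, 39, 43, 45]), (Mv.cj 15 [33, 43], [24, 38, 39, 45]), (Mv.cj 10 [24, 38],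
    [39, 45])],
    by decide +kernel⟩

theorem chain19_ok : ∃ j < 4, ∃ ch, chainB chevF4 [25, 29, 30] ch (reps.getD j []) = true :=
  ⟨3, by omega,
    [(Mv.cj 23 [], [25, 28, 29, 30, 32]), (Mv.cj 20 [25, 28], [29, 30, 32]), (Mv.cj 42 [],
    [29, 30, 32, 45, 47]), (Mv.cj 35 [], [29, 30, 32, 39, 45, 47]), (Mv.cj 26 [32, 47],
    [29, 30, 39, 45]), (Mv.cj 12 [29], [30, 39, 45]), (Mv.cj 5 [30], [39, 45])],
    by decide +kernel⟩

theorem chain20_ok : ∃ j < 4, ∃ ch, chainB chevF4 [25, 29, 44] ch (reps.getD j []) = true :=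
  ⟨3, by omega,
    [(Mv.cj 38 [], [25, 29, 39, 44, 47]), (Mv.cj 31 [], [25, 29, 32, 39, 44, 47]), (Mv.cj
    6 [47, 29], [25, 32, 39, 44]), (Mv.cj 16 [25], [32, 39, 44]), (Mv.cj 34 [44], [32, 39,
    40, 45]), (Mv.cj 13 [32, 40], [39, 45])],
    by decide +kernel⟩

theorem chain21_ok : ∃ j < 4, ∃ ch, chainB chevF4 [25, 30, 41] ch (reps.getD j []) = true :=
  ⟨3, by omega,
    [(Mv.cj 33 [41], [25, 30, 37]), (Mv.cj 27 [30], [25, 28, 37]), (Mv.cj 13 [28], [25,
    37]), (Mv.cj 38 [], [25, 37, 39, 47]), (Mv.cj 9 [25, 39], [37, 47]), (Mv.ref 3, [38,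
    46]), (Mv.ref 2, [39, 45])],
    by decide +kernel⟩

theorem chain22_ok : ∃ j < 4, ∃ ch, chainB chevF4 [25, 33, 37] ch (reps.getD j []) = true :=
  ⟨3, by omega,
    [(Mv.cj 34 [], [25, 33, 35, 37, 41]), (Mv.cj 20 [35], [25, 33, 37, 41]), (Mv.cj 38 [],
    [25, 33, 37, 39, 41, 47]), (Mv.cj 17 [33, 41], [25, 37, 39, 47]), (Mv.cj 9 [25, 39],
    [37, 47]), (Mv.ref 3, [38, 46]), (Mv.ref 2, [39, 45])],
    by decide +kernel⟩

theorem chain23_ok : ∃ j < 4, ∃ ch, chainB chevF4 [25, 33, 47] ch (reps.getD j []) = true :=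
  ⟨3, by omega,
    [(Mv.cj 9 [25], [33, 39, 47]), (Mv.cj 15 [33], [39, 42, 43, 47]), (Mv.cj 30 [], [39,
    42, 43, 45, 46, 47]), (Mv.cj 24 [47], [39, 42, 43, 45, 46]), (Mv.cj 25 [43, 46], [39,
    42, 45]), (Mv.cj 17 [42], [39, 45])],
    by decide +kernel⟩

theorem chain24_ok : ∃ j < 4, ∃ ch, chainB chevF4 [27, 28, 29] ch (reps.getD j []) = true :=
  ⟨3, by omega,
    [(Mv.cj 24 [29], [27, 28, 32]), (Mv.cj 25 [28], [27, 30, 32]), (Mv.cj 21 [30], [27,
    32]), (Mv.cj 43 [], [27, 32, 44, 45]), (Mv.cj 4 [27, 45], [32, 44]), (Mv.ref 0, [40,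
    43]), (Mv.ref 1, [39, 45])],
    by decide +kernel⟩

theorem chain25_ok : ∃ j < 4, ∃ ch, chainB chevF4 [27, 28, 41] ch (reps.getD j []) = true :=
  ⟨3, by omega,
    [(Mv.cj 22 [27], [28, 30, 41]), (Mv.cj 14 [30], [28, 37, 41]), (Mv.cj 36 [], [28, 37,
    39, 41, 44]), (Mv.cj 34 [37, 44], [28, 39, 41]), (Mv.cj 31 [], [28, 39, 41, 45]),
    (Mv.cj 16 [41], [28, 39, 45]), (Mv.cj 11 [28], [39, 45])],
    by decide +kernel⟩

theorem chain26_ok : ∃ j < 4, ∃ ch, chainB chevF4 [27, 41, 47] ch (reps.getD j []) = true :=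
  ⟨3, by omega,
    [(Mv.cj 43 [], [27, 41, 44, 45, 47]), (Mv.cj 18 [41, 44], [27, 45, 47]), (Mv.cj 26
    [47], [27, 29, 31, 45]), (Mv.cj 21 [27, 31], [29, 45]), (Mv.cj 35 [], [29, 39, 45]),
    (Mv.cj 12 [29], [39, 45])],
    by decide +kernel⟩

theorem chain27_ok : ∃ j < 4, ∃ ch, chainB chevF4 [33, 37, 38] ch (reps.getD j []) = true :=
  ⟨3, by omega,
    [(Mv.cj 24 [38], [33, 37, 45]), (Mv.cj 30 [37], [33, 41, 45]), (Mv.cj 16 [41], [33,
    45]), (Mv.cj 32 [], [33, 39, 43, 45]), (Mv.cj 15 [33, 43], [39, 45])],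
    by decide +kernel⟩

theorem chain28_ok : ∃ j < 4, ∃ ch, chainB chevF4 [24, 27, 32, 44] ch (reps.getD j []) = true :=
  ⟨3, by omega,
    [(Mv.cj 26 [], [24, 27, 29, 31, 32, 44]), (Mv.cj 19 [24, 29], [27, 31, 32, 44]),
    (Mv.cj 4 [27], [31, 32, 44, 45]), (Mv.cj 13 [32], [31, 39, 40, 44, 45]), (Mv.cj 34
    [44], [31, 39, 40, 45]), (Mv.cj 27 [40], [31, 39, 45]), (Mv.cj 6 [31], [39, 45])],
    by decide +kernel⟩

theorem chain29_ok : ∃ j < 4, ∃ ch, chainB chevF4 [24, 32, 43, 45] ch (reps.getD j []) = true :=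
  ⟨3, by omega,
    [(Mv.cj 33 [43], [24, 32, 39, 45]), (Mv.cj 28 [32], [24, 29, 39, 45]), (Mv.cj 26 [],
    [24, 29, 39, 45, 47]), (Mv.cj 22 [47], [24, 29, 38, 39, 45]), (Mv.cj 12 [29], [24, 38,
    39, 45]), (Mv.cj 10 [24, 38], [39, 45])],
    by decide +kernel⟩

theorem chain30_ok : ∃ j < 4, ∃ ch, chainB chevF4 [24, 33, 39, 45] ch (reps.getD j []) = true :=
  ⟨3, by omega,
    [(Mv.cj 35 [], [24, 33, 36, 39, 43, 45]), (Mv.cj 15 [33, 43], [24, 36, 39, 45]),
    (Mv.cj 26 [], [24, 36, 39, 45, 47]), (Mv.cj 22 [47], [24, 36, 38, 39, 45]), (Mv.cj 19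
    [36], [24, 38, 39, 45]), (Mv.cj 10 [24, 38], [39, 45])],
    by decide +kernel⟩

theorem chain31_ok : ∃ j < 4, ∃ ch, chainB chevF4 [25, 29, 30, 44] ch (reps.getD j []) = true :=
  ⟨3, by omega,
    [(Mv.cj 38 [], [25, 29, 30, 39, 44, 47]), (Mv.cj 20 [25], [28, 29, 30, 39, 44, 47]),
    (Mv.cj 6 [47, 29], [28, 30, 39, 44]), (Mv.cj 42 [44], [28, 30, 39, 45, 46]), (Mv.cj 25
    [46], [28, 30, 39, 45]), (Mv.cj 11 [28], [30, 39, 45]), (Mv.cj 5 [30], [39, 45])],
    by decide +kernel⟩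

theorem chain32_ok : ∃ j < 4, ∃ ch, chainB chevF4 [25, 30, 41, 47] ch (reps.getD j []) = true :=
  ⟨3, by omega,
    [(Mv.cj 18 [41], [25, 30, 44, 47]), (Mv.cj 38 [47], [25, 30, 39, 44]), (Mv.cj 20 [25],
    [28, 30, 39, 44]), (Mv.cj 42 [44], [28, 30, 39, 45, 46]), (Mv.cj 25 [46], [28, 30, 39,
    45]), (Mv.cj 11 [28], [30, 39, 45]), (Mv.cj 5 [30], [39, 45])],
    by decide +kernel⟩

theorem chain33_ok : ∃ j < 4, ∃ ch, chainB chevF4 [25, 33, 37, 47] ch (reps.getD j []) = true :=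
  ⟨3, by omega,
    [(Mv.cj 9 [25], [33, 37, 39, 47]), (Mv.cj 34 [], [33, 37, 39, 44, 47]), (Mv.cj 21
    [37], [33, 39, 44, 45, 46, 47]), (Mv.cj 24 [47], [33, 39, 44, 45, 46]), (Mv.cj 25
    [46], [33, 39, 44, 45]), (Mv.cj 20 [44], [33, 39, 43, 45]), (Mv.cj 15 [33, 43], [39,
    45])],
    by decide +kernel⟩

theorem chain34_ok : ∃ j < 4, ∃ ch, chainB chevF4 [27, 28, 29, 44] ch (reps.getD j []) = true :=
  ⟨3, by omega,
    [(Mv.cj 6 [29], [27, 28, 44, 47]), (Mv.cj 43 [44], [27, 28, 45, 47]), (Mv.cj 22 [27],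
    [28, 30, 45, 47]), (Mv.cj 36 [47], [28, 30, 39, 40, 45]), (Mv.cj 27 [40], [28, 30, 39,
    45]), (Mv.cj 11 [28], [30, 39, 45]), (Mv.cj 5 [30], [39, 45])],
    by decide +kernel⟩

theorem chain35_ok : ∃ j < 4, ∃ ch, chainB chevF4 [27, 28, 41, 47] ch (reps.getD j []) = true :=
  ⟨3, by omega,
    [(Mv.cj 43 [], [27, 28, 41, 44, 45, 47]), (Mv.cj 22 [27], [28, 30, 41, 44, 45, 47]),
    (Mv.cj 18 [41, 44], [28, 30, 45, 47]), (Mv.cj 36 [47], [28, 30, 39, 40, 45]), (Mv.cj
    27 [40], [28, 30, 39, 45]), (Mv.cj 11 [28], [30, 39, 45]), (Mv.cj 5 [30], [39, 45])],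
    by decide +kernel⟩

theorem chain36_ok : ∃ j < 4, ∃ ch, chainB chevF4 [33, 37, 38, 39] ch (reps.getD j []) = true :=
  ⟨3, by omega,
    [(Mv.cj 34 [], [33, 37, 38, 39, 44]), (Mv.cj 24 [38], [33, 37, 39, 44, 45]), (Mv.cj 30
    [37], [33, 39, 41, 44, 45]), (Mv.cj 20 [44], [33, 39, 41, 43, 45]), (Mv.cj 16 [41],
    [33, 39, 43, 45]), (Mv.cj 15 [33, 43], [39, 45])],
    by decide +kernel⟩

theorem chains : ∀ j < nodes.length, 0 < j → ∃ i < 4, ∃ ch,
    chainB chevF4 (nodes.getD j ⟨[], [], []⟩).piv ch (reps.getD i []) = true := by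
  intro j h h0
  match j, h, h0 with
  | 0, _, h0 => exact absurd h0 (lt_irrefl 0)
  | 1, _, _ => exact chain1_ok
  | 2, _, _ => exact chain2_ok
  | 3, _, _ => exact chain3_ok
  | 4, _, _ => exact chain4_ok
  | 5, _, _ => exact chain5_ok
  | 6, _, _ => exact chain6_ok
  | 7, _, _ => exact chain7_ok
  | 8, _, _ => exact chain8_ok
  | 9, _, _ => exact chain9_ok
  | 10, _, _ => exact chain10_ok
  | 11, _, _ => exact chain11_ok
  | 12, _, _ => exact chain12_ok
  | 13, _, _ => exact chain13_ok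
  | 14, _, _ => exact chain14_ok
  | 15, _, _ => exact chain15_ok
  | 16, _, _ => exact chain16_ok
  | 17, _, _ => exact chain17_ok
  | 18, _, _ => exact chain18_ok
  | 19, _, _ => exact chain19_ok
  | 20, _, _ => exact chain20_ok
  | 21, _, _ => exact chain21_ok
  | 22, _, _ => exact chain22_ok
  | 23, _, _ => exact chain23_ok
  | 24, _, _ => exact chain24_ok
  | 25, _, _ => exact chain25_ok
  | 26, _, _ => exact chain26_ok
  | 27, _, _ => exact chain27_ok
  | 28, _, _ => exact chain28_ok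
  | 29, _, _ => exact chain29_ok
  | 30, _, _ => exact chain30_ok
  | 31, _, _ => exact chain31_ok
  | 32, _, _ => exact chain32_ok
  | 33, _, _ => exact chain33_ok
  | 34, _, _ => exact chain34_ok
  | 35, _, _ => exact chain35_ok
  | 36, _, _ => exact chain36_ok
  | n + 37, h, _ => exact absurd h (by simp only [nodes, List.length_cons, List.length_nil]; omega)

/-- The rank certificate of representative 1. -/
def rank1 : RankCert where
  cols :=
    [0x0, 0x0, 0x0, 0x8000000000000, 0x8000000000005, 0x10000000, 0x40000000, 0x200000000,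
     0x800000000, 0x1000000000, 0x0, 0x10000000000, 0x40000000000, 0x80000000000, 0x0,
     0x100000000000, 0x0, 0x0, 0x0, 0x400000000000, 0x800000000000, 0x0, 0x1000000000000, 0x0,
     0x0, 0x2000000000000, 0x0, 0x4000000000000, 0x0, 0x0, 0x0, 0x0, 0x0, 0x0, 0x0, 0x0, 0x0,
     0x0, 0x0, 0x0, 0x0, 0x0, 0x0, 0x0, 0x0, 0x0, 0x0, 0x0, 0x0, 0x0, 0x0, 0x0]
  basis :=
    [0x5, 0x10000000, 0x40000000, 0x200000000, 0x800000000, 0x1000000000, 0x10000000000,
     0x40000000000, 0x80000000000, 0x100000000000, 0x400000000000, 0x800000000000,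
     0x1000000000000, 0x2000000000000, 0x4000000000000, 0x8000000000000]
  sel :=
    [0x18, 0x20, 0x40, 0x80, 0x100, 0x200, 0x800, 0x1000, 0x2000, 0x8000, 0x80000, 0x100000,
     0x400000, 0x2000000, 0x8000000, 0x8]
  piv :=
    [0x2, 0x1c, 0x1e, 0x21, 0x23, 0x24, 0x28, 0x2a, 0x2b, 0x2c, 0x2e, 0x2f, 0x30, 0x31, 0x32,
     0x33]
  coef :=
    [0x0, 0x0, 0x0, 0x8000, 0x8001, 0x2, 0x4, 0x8, 0x10, 0x20, 0x0, 0x40, 0x80, 0x100, 0x0,
     0x200, 0x0, 0x0, 0x0, 0x400, 0x800, 0x0, 0x1000, 0x0, 0x0, 0x2000, 0x0, 0x4000, 0x0, 0x0,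
     0x0, 0x0, 0x0, 0x0, 0x0, 0x0, 0x0, 0x0, 0x0, 0x0, 0x0, 0x0, 0x0, 0x0, 0x0, 0x0, 0x0, 0x0,
     0x0, 0x0, 0x0, 0x0]

theorem rank1_ok : rank1.check chevF4 [47] = true := by decide +kernel

/-- The rank certificate of representative 2. -/
def rank2 : RankCert where
  cols :=
    [0x1000000000000, 0x0, 0x0, 0x0, 0x200000400000, 0x400000800000, 0x800001000000,
     0x1000000000002, 0x2000080000000, 0x4000100000000, 0x8000200000000, 0x2000000000,
     0x4000000000, 0x8000000000, 0x10000000000, 0x20000000000, 0x40000000000, 0x80000000000,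
     0x100000000000, 0x0, 0x0, 0x0, 0x0, 0x0, 0x0, 0x0, 0x0, 0x0, 0x0, 0x0, 0x0, 0x0, 0x0, 0x0,
     0x0, 0x0, 0x0, 0x0, 0x0, 0x0, 0x0, 0x0, 0x0, 0x0, 0x0, 0x0, 0x0, 0x0, 0x0, 0x0, 0x0, 0x0]
  basis :=
    [0x2, 0x2000000000, 0x4000000000, 0x8000000000, 0x10000000000, 0x20000000000, 0x40000000000,
     0x80000000000, 0x100000000000, 0x200000400000, 0x400000800000, 0x800001000000,
     0x1000000000000, 0x2000080000000, 0x4000100000000, 0x8000200000000]
  sel :=
    [0x81, 0x800, 0x1000, 0x2000, 0x4000, 0x8000, 0x10000, 0x20000, 0x40000, 0x10, 0x20, 0x40,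
     0x1, 0x100, 0x200, 0x400]
  piv :=
    [0x1, 0x25, 0x26, 0x27, 0x28, 0x29, 0x2a, 0x2b, 0x2c, 0x2d, 0x2e, 0x2f, 0x30, 0x31, 0x32,
     0x33]
  coef :=
    [0x1000, 0x0, 0x0, 0x0, 0x200, 0x400, 0x800, 0x1001, 0x2000, 0x4000, 0x8000, 0x2, 0x4, 0x8,
     0x10, 0x20, 0x40, 0x80, 0x100, 0x0, 0x0, 0x0, 0x0, 0x0, 0x0, 0x0, 0x0, 0x0, 0x0, 0x0, 0x0,
     0x0, 0x0, 0x0, 0x0, 0x0, 0x0, 0x0, 0x0, 0x0, 0x0, 0x0, 0x0, 0x0, 0x0, 0x0, 0x0, 0x0, 0x0,
     0x0, 0x0, 0x0]

theorem rank2_ok : rank2.check chevF4 [44] = true := by decide +kernel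

/-- The rank certificate of representative 3. -/
def rank3 : RankCert where
  cols :=
    [0x1000000000000, 0x0, 0x0, 0x8000000000000, 0x9200000400005, 0x400010800000, 0x800041000000,
     0x1000200000002, 0x2000880000000, 0x4001100000000, 0x8000200000000, 0x12000000000,
     0x44000000000, 0x88000000000, 0x10000000000, 0x120000000000, 0x40000000000, 0x80000000000,
     0x100000000000, 0x400000000000, 0x800000000000, 0x0, 0x1000000000000, 0x0, 0x0,
     0x2000000000000, 0x0, 0x4000000000000, 0x0, 0x0, 0x0, 0x0, 0x0, 0x0, 0x0, 0x0, 0x0, 0x0,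
     0x0, 0x0, 0x0, 0x0, 0x0, 0x0, 0x0, 0x0, 0x0, 0x0, 0x0, 0x0, 0x0, 0x0]
  basis :=
    [0x2, 0x10800000, 0x41000000, 0x200000002, 0x880000000, 0x1100000000, 0x2000000000,
     0x4000000000, 0x8000000000, 0x12000000000, 0x20000000000, 0x44000000000, 0x88000000000,
     0x120000000000, 0x200000400005, 0x400010800000, 0x800041000000, 0x1000000000000,
     0x2000880000000, 0x4001100000000, 0x8000000000000]
  sel :=
    [0x489, 0x80020, 0x100040, 0x81, 0x2000100, 0x8000200, 0x4800, 0x11000, 0x22000, 0x800,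
     0x48000, 0x1000, 0x2000, 0x8000, 0x19, 0x20, 0x40, 0x1, 0x100, 0x200, 0x8]
  piv :=
    [0x1, 0x1c, 0x1e, 0x21, 0x23, 0x24, 0x25, 0x26, 0x27, 0x28, 0x29, 0x2a, 0x2b, 0x2c, 0x2d,
     0x2e, 0x2f, 0x30, 0x31, 0x32, 0x33]
  coef :=
    [0x20000, 0x0, 0x0, 0x100000, 0x124000, 0x8000, 0x10000, 0x20008, 0x40000, 0x80000, 0x100009,
     0x200, 0x800, 0x1000, 0x240, 0x2000, 0x880, 0x1100, 0x2400, 0x8002, 0x10004, 0x0, 0x20000,
     0x0, 0x0, 0x40010, 0x0, 0x80020, 0x0, 0x0, 0x0, 0x0, 0x0, 0x0, 0x0, 0x0, 0x0, 0x0, 0x0, 0x0,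
     0x0, 0x0, 0x0, 0x0, 0x0, 0x0, 0x0, 0x0, 0x0, 0x0, 0x0, 0x0]

theorem rank3_ok : rank3.check chevF4 [47, 44] = true := by decide +kernel

/-- The rank certificate of representative 4. -/
def rank4 : RankCert where
  cols :=
    [0x0, 0x80000000000, 0x2080000000000, 0x0, 0x4020022002000, 0x8040044004000, 0x2000000000009,
     0x100080020000, 0x1000040000, 0x400000000, 0x800000000, 0x1004001000000, 0x80000000001,
     0x20000000000, 0x40000000000, 0x100000000, 0x200000000, 0x100000000000, 0x0, 0x802000000000,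
     0x200000000000, 0x400000000000, 0x8000000000, 0x10000000000, 0x1000000000000,
     0x4020000000000, 0x8040000000000, 0x0, 0x0, 0x4000000000000, 0x8000000000000,
     0x100000000000, 0x0, 0x0, 0x0, 0x0, 0x0, 0x0, 0x1000000000000, 0x0, 0x0, 0x0, 0x0, 0x0, 0x0,
     0x0, 0x0, 0x0, 0x0, 0x0, 0x0, 0x0]
  basis :=
    [0x1, 0x9, 0x22002000, 0x44004000, 0x80020000, 0x100000000, 0x200000000, 0x400000000,
     0x800000000, 0x1000040000, 0x4001000000, 0x8000000000, 0x10000000000, 0x20000000000,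
     0x40000000000, 0x80000000000, 0x100080020000, 0x200000000000, 0x400000000000,
     0x802000000000, 0x1004001000000, 0x2080000000000, 0x4020022002000, 0x8040044004000]
  sel :=
    [0x1002, 0x46, 0x2000010, 0x4000020, 0x20080, 0x8000, 0x10000, 0x200, 0x400, 0x100,
     0x1000800, 0x400000, 0x800000, 0x2000, 0x4000, 0x2, 0x80, 0x100000, 0x200000, 0x80000,
     0x800, 0x4, 0x10, 0x20]
  piv :=
    [0x0, 0x3, 0x1d, 0x1e, 0x1f, 0x20, 0x21, 0x22, 0x23, 0x24, 0x26, 0x27, 0x28, 0x29, 0x2a,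
     0x2b, 0x2c, 0x2d, 0x2e, 0x2f, 0x30, 0x31, 0x32, 0x33]
  coef :=
    [0x0, 0x8000, 0x200000, 0x0, 0x400000, 0x800000, 0x208002, 0x10000, 0x200, 0x80, 0x100,
     0x100000, 0x8001, 0x2000, 0x4000, 0x20, 0x40, 0x10010, 0x0, 0x80000, 0x20000, 0x40000,
     0x800, 0x1000, 0x100400, 0x400004, 0x800008, 0x0, 0x0, 0x402004, 0x804008, 0x10010, 0x0,
     0x0, 0x0, 0x0, 0x0, 0x0, 0x100400, 0x0, 0x0, 0x0, 0x0, 0x0, 0x0, 0x0, 0x0, 0x0, 0x0, 0x0,
     0x0, 0x0]

theorem rank4_ok : rank4.check chevF4 [39, 45] = true := by decide +kernel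

end Cfsg.Agent.H56.Inv.F4
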