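import Cfsg.Agent.H56.Inv.Frame

/-!
From a certificate: products of root involutions over orthogonal roots are conjugate to finitely
many of them.
-/
set_option autoImplicit false
set_option maxRecDepth 100000

namespace Cfsg.Agent.H56.Inv

open Cfsg.Lie Cfsg.Agent.H37 Cfsg.Agent.H37.RootSys

variable {D : ChevalleyDatum}

/-- Roots that are pairwise orthogonal, of either sign. -/
def SOrth (D : ChevalleyDatum) (L : List ℕ) : Prop :=
  L.Pairwise (fun r s => pb D r s = 0 ∧ pb D s r = 0) ∧ ∀ r ∈ L, r < D.nroots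

/-- The action of a word in the fundamental reflections. -/
def act (w : ℕ → ℕ → ℕ) (word : List ℕ) (r : ℕ) : ℕ := word.foldr (fun i x => w i x) r

/-- The coefficients of twice the eleven roots of a frame in `a, b, c, d`. -/
def frameEps : List (ℤ × ℤ × ℤ × ℤ) :=
  [(2, 0, 0, 0), (0, 2, 0, 0), (0, 0, 2, 0), (1, -1, -1, 1), (-1, 1, -1, 1), (-1, -1, 1, 1),
    (-1, 1, 1, 1), (1, -1, 1, 1), (1, 1, -1, 1), (1, 1, 1, 1), (0, 0, 0, 2)]

/-- The check of the spanning of a frame. -/
def spanB (D : ChevalleyDatum) (cf : ℕ → ℕ → ℤ) (z : List ℕ) : Bool :=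
  (List.range 11).all fun i => (List.range D.rank).all fun j =>
    decide (2 * cf (z.getD i 0) j =
      (frameEps.getD i (0, 0, 0, 0)).1 * cf (z.getD 0 0) j +
      (frameEps.getD i (0, 0, 0, 0)).2.1 * cf (z.getD 1 0) j +
      (frameEps.getD i (0, 0, 0, 0)).2.2.1 * cf (z.getD 2 0) j +
      (frameEps.getD i (0, 0, 0, 0)).2.2.2 * cf (z.getD 10 0) j)

/-- The four roots of a frame. -/
def quad (z : List ℕ) : List ℕ := [z.getD 0 0, z.getD 1 0, z.getD 2 0, z.getD 10 0]

/-- The remaining entries. -/
def others (z img : List ℕ) : List ℕ := img.filter fun r => !((quad z).contains r)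

/-- One step: the new root `b` with the `k`-th representative, moved by a word. -/
def stepOk (D : ChevalleyDatum) (w : ℕ → ℕ → ℕ) (Rs : List (List ℕ)) (z : List ℕ) (k b : ℕ)
    (c : List ℕ × Option ℕ) : Bool :=
  (c.1.all fun i => decide (i < D.rank)) &&
  match c.2 with
  | some j => decide (j < Rs.length) &&
      ((b :: Rs.getD k []).map (act w c.1)).isPerm (Rs.getD j [])
  | none => (quad z ++ others z ((b :: Rs.getD k []).map (act w c.1))).isPerm
      ((b :: Rs.getD k []).map (act w c.1))

/-- The certificate check. -/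
def walkOk (D : ChevalleyDatum) (w : ℕ → ℕ → ℕ) (Rs : List (List ℕ)) (z : List ℕ)
    (cert : List (List (ℕ × List ℕ × Option ℕ))) : Bool :=
  (Rs.getD 0 [1] == []) && decide (0 < Rs.length) &&
  (List.range Rs.length).all fun k => (List.range D.nroots).all fun b =>
    ((Rs.getD k []).any fun a => decide (pb D a b ≠ 0)) ||
      match (cert.getD k []).find? fun e => e.1 == b with
      | none => false
      | some e => stepOk D w Rs z k b e.2

variable {F : Type*} [Field F] [CharP F 2] {Q : Chev.Data D F}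

omit [CharP F 2] in
theorem act_cons (w : ℕ → ℕ → ℕ) (i : ℕ) (word : List ℕ) (r : ℕ) :
    act w (i :: word) r = w i (act w word r) := rfl

omit [CharP F 2] in
theorem act_append (w : ℕ → ℕ → ℕ) (u v : List ℕ) (r : ℕ) :
    act w (u ++ v) r = act w u (act w v r) := List.foldr_append

omit [CharP F 2] in
theorem act_lt (word : List ℕ) (hw : ∀ i ∈ word, i < D.rank) {r : ℕ} (hr : r < D.nroots) :
    act Q.K.w word r < D.nroots := by
  induction word with
  | nil => exact hr
  | cons i word ih =>
    exact (Q.K.w_lt i (hw i (by simp)) _ (ih fun a ha => hw a (by simp [ha]))).1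

omit [CharP F 2] in
theorem pb_act (word : List ℕ) (hw : ∀ i ∈ word, i < D.rank) {r s : ℕ} (hr : r < D.nroots)
    (hs : s < D.nroots) : pb D (act Q.K.w word r) (act Q.K.w word s) = pb D r s := by
  induction word with
  | nil => rfl
  | cons i word ih =>
    have hw' : ∀ a ∈ word, a < D.rank := fun a ha => hw a (by simp [ha])
    have h1 := act_lt (Q := Q) word hw' hr
    have h2 := act_lt (Q := Q) word hw' hs
    rw [act_cons, act_cons, ← pb_eq, Q.K.pairing_w (hw i (by simp)) h1
      (Q.K.w_lt i (hw i (by simp)) _ h2).1, (Q.K.w_lt i (hw i (by simp)) _ h2).2, pb_eq]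
    exact ih hw'

omit [CharP F 2] in
theorem SOrth.map_act {L : List ℕ} (hL : SOrth D L) (word : List ℕ)
    (hw : ∀ i ∈ word, i < D.rank) : SOrth D (L.map (act Q.K.w word)) := by
  refine ⟨List.pairwise_map.2 (hL.1.imp_of_mem fun {a b} ha hb h => ?_), fun r hr => ?_⟩
  · rw [pb_act (Q := Q) word hw (hL.2 a ha) (hL.2 b hb),
      pb_act (Q := Q) word hw (hL.2 b hb) (hL.2 a ha)]
    exact h
  · obtain ⟨a, ha, rfl⟩ := List.mem_map.1 hr
    exact act_lt (Q := Q) word hw (hL.2 a ha)

theorem exists_act_conj (word : List ℕ) (hw : ∀ i ∈ word, i < D.rank) :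
    ∃ c : ↥(D.group F), ∀ L : List ℕ, (∀ r ∈ L, r < D.nroots) →
      c * prodX Q L * c⁻¹ = prodX Q (L.map (act Q.K.w word)) := by
  induction word with
  | nil => exact ⟨1, fun L _ => by simp [show act Q.K.w [] = id from funext fun _ => rfl]⟩
  | cons i word ih =>
    have hw' : ∀ a ∈ word, a < D.rank := fun a ha => hw a (by simp [ha])
    obtain ⟨c, hc⟩ := ih hw'
    refine ⟨nG Q.K F i * c, fun L hL => ?_⟩
    rw [show nG Q.K F i * c * prodX Q L * (nG Q.K F i * c)⁻¹ =
      nG Q.K F i * (c * prodX Q L * c⁻¹) * (nG Q.K F i)⁻¹ by group, hc L hL, prodX,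
      ← MulAut.conj_apply, map_list_prod, prodX, List.map_map, List.map_map, List.map_map]
    refine congrArg List.prod (List.map_congr_left fun r hr => Subtype.ext ?_)
    have h1 := act_lt (Q := Q) word hw' (hL r hr)
    have := Q.K.nS_conj_xU F (hw i (by simp)) h1 (1 : F)
    rw [H51.sg_cast Q, one_mul] at this
    exact this

variable (h : SL Q)
include h

theorem prodX_perm {L L' : List ℕ} (hp : L.Perm L') (hL : SOrth D L) :
    prodX Q L = prodX Q L' := by
  refine List.Perm.prod_eq' (hp.map _) (List.pairwise_map.2 (hL.1.imp_of_mem fun {a b} ha hb e => ?_))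
  have ha' := hL.2 a ha
  have hb' := hL.2 b hb
  have hne : b ≠ a := fun e' => by
    rw [e', h.self_eq a ha'] at e
    omega
  by_cases hn : b = D.neg a
  · exfalso
    have hk : pb D a (D.neg a) = -pb D a a := by
      simp only [pb, List.sum_neg, List.map_map]
      refine congrArg List.sum (List.map_congr_left fun m hm => ?_)
      have hm' := List.mem_range.1 hm
      simp only [Function.comp_apply]
      rw [Q.K.cartan_lin m hm' a ha', Q.K.cartan_lin m hm' _ (Q.K.neg_lt ha'), ← mul_neg,
        List.sum_neg, List.map_map]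
      refine congrArg _ (congrArg List.sum (List.map_congr_left fun j hj => ?_))
      rw [Function.comp_apply, Q.K.cf_neg a ha' j (List.mem_range.1 hj)]
      ring
    rw [← hn, h.self_eq a ha', e.1] at hk
    omega
  · have hc : D.commTerms a b = [] := by
      rcases (h.fact a ha' b hb' hne hn).2 with ⟨-, c⟩ | ⟨e', -⟩ | ⟨e', -⟩
      · exact c
      · omega
      · omega
    refine (show Commute (Q.sys.x b 1) (Q.sys.x a 1) from ?_).symm
    rw [Commute, SemiconjBy, H51.CW.comm_list Q ha' hb' hne hn, hc, List.map_nil, List.prod_nil,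
      mul_one]

/-- Every orthogonal list moves to a representative, or to a list containing the frame. -/
theorem walk {w : ℕ → ℕ → ℕ} (hwK : Q.K.w = w) {Rs : List (List ℕ)} {z : List ℕ}
    {cert : List (List (ℕ × List ℕ × Option ℕ))} (hW : walkOk D w Rs z cert = true) :
    ∀ L : List ℕ, SOrth D L → ∃ word : List ℕ, (∀ i ∈ word, i < D.rank) ∧
      ((∃ j < Rs.length, (L.map (act Q.K.w word)).Perm (Rs.getD j [])) ∨
        ∃ rest, (L.map (act Q.K.w word)).Perm (quad z ++ rest)) := by
  subst hwK
  simp only [walkOk, Bool.and_eq_true, List.all_eq_true, List.mem_range, Bool.or_eq_true,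
    decide_eq_true_eq, List.any_eq_true, beq_iff_eq] at hW
  obtain ⟨⟨h0, hpos⟩, hstep⟩ := hW
  intro L
  induction L with
  | nil =>
    intro _
    refine ⟨[], by simp, Or.inl ⟨0, hpos, ?_⟩⟩
    rw [List.getD_eq_getElem _ _ hpos] at h0
    rw [List.getD_eq_getElem _ _ hpos, h0]
    simp
  | cons b L ih =>
    intro hL
    obtain ⟨hb, hL'⟩ := List.pairwise_cons.1 hL.1
    have hLlt : ∀ r ∈ L, r < D.nroots := fun r hr => hL.2 r (List.mem_cons_of_mem _ hr)
    obtain ⟨u, hu, hcase⟩ := ih ⟨hL', hLlt⟩
    rcases hcase with ⟨k, hk, hperm⟩ | ⟨rest, hperm⟩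
    swap
    · refine ⟨u, hu, Or.inr ⟨act Q.K.w u b :: rest, ?_⟩⟩
      rw [List.map_cons]
      exact (hperm.cons _).trans List.perm_middle.symm
    set b' := act Q.K.w u b with hb'
    have hb'lt : b' < D.nroots := act_lt (Q := Q) u hu (hL.2 b List.mem_cons_self)
    rcases hstep k hk b' hb'lt with ⟨a, ha, hne⟩ | hs
    · obtain ⟨a0, ha0, rfl⟩ := List.mem_map.1 (hperm.mem_iff.2 ha)
      exfalso
      refine hne ?_
      rw [hb', pb_act (Q := Q) u hu (hLlt a0 ha0) (hL.2 b List.mem_cons_self)]
      exact (hb a0 ha0).2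
    · generalize hfind : (cert.getD k []).find? (fun e => e.1 == b') = o at hs
      cases o with
      | none => simp at hs
      | some e =>
        simp only [stepOk, Bool.and_eq_true, List.all_eq_true, decide_eq_true_eq] at hs
        obtain ⟨hv, hs⟩ := hs
        have hmap : ((b :: L).map (act Q.K.w (e.2.1 ++ u))).Perm
            ((b' :: Rs.getD k []).map (act Q.K.w e.2.1)) := by
          rw [show act Q.K.w (e.2.1 ++ u) = act Q.K.w e.2.1 ∘ act Q.K.w u from
            funext fun r => act_append _ _ _ r, ← List.map_map, List.map_cons]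
          exact (hperm.cons _).map _
        refine ⟨e.2.1 ++ u, fun i hi => (List.mem_append.1 hi).elim (hv i) (hu i), ?_⟩
        cases hj : e.2.2 with
        | none =>
          rw [hj] at hs
          simp only at hs
          exact Or.inr ⟨_, hmap.trans (List.isPerm_iff.1 hs).symm⟩
        | some j =>
          rw [hj] at hs
          simp only [Bool.and_eq_true, decide_eq_true_eq] at hs
          exact Or.inl ⟨j, hs.1, hmap.trans (List.isPerm_iff.1 hs.2)⟩

/-- The product over an orthogonal list is conjugate to that over a representative. -/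
theorem conj_rep {w : ℕ → ℕ → ℕ} (hwK : Q.K.w = w) {Rs : List (List ℕ)} {z : List ℕ}
    {cert : List (List (ℕ × List ℕ × Option ℕ))} (hW : walkOk D w Rs z cert = true)
    (hz : frameB D z = true) {cf : ℕ → ℕ → ℤ} (hcf : Q.K.cf = cf) (hspan : spanB D cf z = true) :
    ∀ n (L : List ℕ), L.length ≤ n → SOrth D L →
      ∃ c : ↥(D.group F), ∃ j < Rs.length, c * prodX Q L * c⁻¹ = prodX Q (Rs.getD j []) := by
  intro n
  induction n with
  | zero =>
    intro L hn _
    rw [Nat.le_zero, List.length_eq_zero_iff] at hn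
    subst hn
    simp only [walkOk, Bool.and_eq_true, decide_eq_true_eq, beq_iff_eq] at hW
    refine ⟨1, 0, hW.1.2, ?_⟩
    rw [List.getD_eq_getElem _ _ hW.1.2] at hW ⊢
    rw [hW.1.1]
    simp
  | succ n ih =>
    intro L hn hL
    obtain ⟨word, hword, hcase⟩ := walk h hwK hW L hL
    obtain ⟨c, hc⟩ := exists_act_conj (Q := Q) word hword
    have himg := hL.map_act (Q := Q) word hword
    rcases hcase with ⟨j, hj, hperm⟩ | ⟨rest, hperm⟩
    · exact ⟨c, j, hj, by rw [hc L hL.2, prodX_perm h hperm himg]⟩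
    have hQ : SOrth D (quad z ++ rest) :=
      ⟨(hperm.pairwise_iff fun hab => And.symm hab).1 himg.1,
        fun r hr => himg.2 r (hperm.mem_iff.2 hr)⟩
    subst hcf
    simp only [spanB, List.all_eq_true, List.mem_range, decide_eq_true_eq] at hspan
    have hlt : ∀ i < 11, z.getD i 0 < D.nroots := by
      simp only [frameB, Bool.and_eq_true, List.all_eq_true, List.mem_range,
        decide_eq_true_eq] at hz
      exact hz.1
    have hrest : ∀ r ∈ rest, r < D.nroots ∧ ∀ i < 11, pb D r (z.getD i 0) = 0 := by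
      intro r hr
      have hrlt := hQ.2 r (List.mem_append_right _ hr)
      refine ⟨hrlt, fun i hi => ?_⟩
      have hq : ∀ q ∈ quad z, pb D r q = 0 := fun q hq =>
        ((List.pairwise_append.1 hQ.1).2.2 q hq r hr).2
      have hlin : 2 * pb D r (z.getD i 0) =
          (frameEps.getD i (0, 0, 0, 0)).1 * pb D r (z.getD 0 0) +
          (frameEps.getD i (0, 0, 0, 0)).2.1 * pb D r (z.getD 1 0) +
          (frameEps.getD i (0, 0, 0, 0)).2.2.1 * pb D r (z.getD 2 0) +
          (frameEps.getD i (0, 0, 0, 0)).2.2.2 * pb D r (z.getD 10 0) := by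
        simp only [pb, ← List.sum_map_mul_left, ← List.sum_map_add]
        refine congrArg List.sum (List.map_congr_left fun m hm => ?_)
        have hm' := List.mem_range.1 hm
        rw [Q.K.cartan_lin m hm' _ (hlt i hi), Q.K.cartan_lin m hm' _ (hlt 0 (by omega)),
          Q.K.cartan_lin m hm' _ (hlt 1 (by omega)), Q.K.cartan_lin m hm' _ (hlt 2 (by omega)),
          Q.K.cartan_lin m hm' _ (hlt 10 (by omega))]
        simp only [← List.sum_map_mul_left, ← List.sum_map_add]
        refine congrArg List.sum (List.map_congr_left fun j hj => ?_)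
        linear_combination (Chevalley.cor D r m * D.cartan m (D.simple j)) *
          hspan i hi j (List.mem_range.1 hj)
      rw [hq (z.getD 0 0) (by simp [quad]), hq (z.getD 1 0) (by simp [quad]),
        hq (z.getD 2 0) (by simp [quad]), hq (z.getD 10 0) (by simp [quad])] at hlin
      omega
    obtain ⟨g, hg⟩ := frame_conj h hz rest hrest
    have hlen : ([z.getD 0 0, z.getD 1 0, z.getD 2 0] ++ rest).length ≤ n := by
      have := hperm.length_eq
      simp [quad] at this ⊢
      omega
    have hsub : ([z.getD 0 0, z.getD 1 0, z.getD 2 0] ++ rest).Sublist (quad z ++ rest) :=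
      List.Sublist.append (by simp [quad]) (List.Sublist.refl _)
    obtain ⟨d, j, hj, hd⟩ := ih _ hlen ⟨hQ.1.sublist hsub, fun r hr => hQ.2 r (hsub.subset hr)⟩
    refine ⟨d * g * c, j, hj, ?_⟩
    rw [show d * g * c * prodX Q L * (d * g * c)⁻¹ =
      d * (g * (c * prodX Q L * c⁻¹) * g⁻¹) * d⁻¹ by group, hc L hL.2,
      prodX_perm h hperm himg, quad, hg, hd]

/-- Every involution is conjugate to a representative. -/
theorem exists_rep [Finite F] {w : ℕ → ℕ → ℕ} (hwK : Q.K.w = w) {Rs : List (List ℕ)}
    {z : List ℕ} {cert : List (List (ℕ × List ℕ × Option ℕ))}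
    (hW : walkOk D w Rs z cert = true) (hz : frameB D z = true) {cf : ℕ → ℕ → ℤ}
    (hcf : Q.K.cf = cf) (hspan : spanB D cf z = true) {g : ↥(D.group F)} (hg : g * g = 1) :
    ∃ c : ↥(D.group F), ∃ j < Rs.length, c * g * c⁻¹ = prodX Q (Rs.getD j []) := by
  obtain ⟨c, L, hL, e⟩ := exists_orth h hg
  obtain ⟨d, j, hj, hd⟩ := conj_rep h hwK hW hz hcf hspan L.length L le_rfl
    ⟨hL.1, fun r hr => (hL.2 r hr).1⟩
  exact ⟨d * c, j, hj, by rw [← hd, ← e]; group⟩

end Cfsg.Agent.H56.Inv
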