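import Cfsg.Agent.H56.Inv.OrthProd
import Cfsg.Agent.H56.Inv.Walk

/-!
Finite checks and rewriting rules for root elements in characteristic two, with no assumption on
the root lengths.
-/
set_option autoImplicit false
set_option maxRecDepth 100000

namespace Cfsg.Agent.H56.Inv.Gen

open Cfsg.Lie Cfsg.Agent.H37 Cfsg.Agent.H37.RootSys Cfsg.Agent.H56.Inv

variable {D : ChevalleyDatum}

/-- The terms of a commutator with an odd coefficient. -/
def oddT (D : ChevalleyDatum) (r s : ℕ) : List (ℕ × ℕ × ℕ) :=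
  (D.commTerms r s).filterMap fun c => if c.2.1 % 2 = 0 then none else some (c.1, c.2.2.1, c.2.2.2)

/-- `s` may be moved by a root element at `g`, the new terms lying in `T`. -/
def moveB (D : ChevalleyDatum) (g s : ℕ) (T : List ℕ) : Bool :=
  (s == g) || (decide (s ≠ D.neg g) && (oddT D g s).all fun c => T.contains c.1)

/-- A root element at `g` carries `S` into `T`. -/
def normB (D : ChevalleyDatum) (g : ℕ) (S T : List ℕ) : Bool :=
  S.all fun s => decide (s < D.nroots) && T.contains s && moveB D g s T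

/-- A root element at `g` commutes with those at `A`. -/
def commB (D : ChevalleyDatum) (g : ℕ) (A : List ℕ) : Bool :=
  A.all fun a => (a == g) || (decide (a ≠ D.neg g) && (oddT D g a).isEmpty)

/-- Lookup in a table of combinations. -/
def cmbAt (D : ChevalleyDatum) (cmb : List (List (List ℕ))) (r s : ℕ) : List ℕ :=
  (cmb.getD (r - D.nroots / 2) []).getD (s - D.nroots / 2) []

/-- The table `cmb` holds every root that is a combination of two positive ones. -/
def cmbOk (D : ChevalleyDatum) (wt : List ℤ) (cmb : List (List (List ℕ))) : Bool :=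
  (List.range (D.nroots / 2)).all fun r => (List.range (D.nroots / 2)).all fun s =>
    (List.range D.nroots).all fun k =>
      decide (k ≤ r + D.nroots / 2) || decide (k ≤ s + D.nroots / 2) ||
      (cmbAt D cmb (r + D.nroots / 2) (s + D.nroots / 2)).contains k ||
      !((List.range 4).any fun a => (List.range 4).any fun b =>
        wt.getD k 0 == ((a : ℤ) + 1) * wt.getD (r + D.nroots / 2) 0 +
          ((b : ℤ) + 1) * wt.getD (s + D.nroots / 2) 0)

/-- A linear weight of a root. -/
def wtOf (D : ChevalleyDatum) (cf : ℕ → ℕ → ℤ) (r : ℕ) : ℤ :=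
  ((List.range D.rank).map fun i => (64 : ℤ) ^ i * cf r i).sum

/-- The bounds on the coefficients of the positive roots. -/
def bndB (D : ChevalleyDatum) (cf : ℕ → ℕ → ℤ) : Bool :=
  (List.range D.nroots).all fun r => decide (r < D.nroots / 2) ||
    (((List.range D.rank).all fun i => decide (cf r i ≤ 4)) &&
      (List.range D.rank).any fun i => decide (1 ≤ cf r i))

/-- A closed list of positive roots. -/
def closedX (D : ChevalleyDatum) (cmb : List (List (List ℕ))) (S : List ℕ) : Bool :=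
  S.all fun r => decide (r < D.nroots) && decide (D.nroots / 2 ≤ r) &&
    S.all fun s => (r == s) || (cmbAt D cmb r s).all fun k => S.contains k

/-- The tables are correct. -/
structure Tables (D : ChevalleyDatum) (cf : ℕ → ℕ → ℤ) (cmb : List (List (List ℕ))) : Prop where
  bnd : bndB D cf = true
  comb : ∃ wt : List ℤ, cmbOk D wt cmb = true ∧ ∀ r < D.nroots, wt.getD r 0 = wtOf D cf r

variable {F : Type*} [Field F] (Q : Chev.Data D F)

/-- The group of the positive roots in a list. -/
abbrev LS (S : List ℕ) : Subgroup ↥(D.group F) := XS Q.sys.x (↑S.toFinset : Set ℕ)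

theorem mem_coe_list {S : List ℕ} {r : ℕ} : r ∈ (↑S.toFinset : Set ℕ) ↔ r ∈ S :=
  ⟨fun h => List.mem_toFinset.1 (Finset.mem_coe.1 h),
    fun h => Finset.mem_coe.2 (List.mem_toFinset.2 h)⟩

theorem x_mem_LS {S : List ℕ} {r : ℕ} (h : r ∈ S) (t : F) : Q.sys.x r t ∈ LS Q S :=
  x_mem_XS (mem_coe_list.2 h) t

theorem LS_mono {S T : List ℕ} (h : ∀ r ∈ S, r ∈ T) : LS Q S ≤ LS Q T :=
  XS_mono fun _ hr => mem_coe_list.2 (h _ (mem_coe_list.1 hr))

theorem LS_nil : LS Q [] = ⊥ := by simp [LS, XS_empty]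

variable {cmb : List (List (List ℕ))}

theorem closed_of_closedX (hTb : Tables D Q.K.cf cmb) {S : List ℕ}
    (h : closedX D cmb S = true) : Q.sys.toUnip.Closed S.toFinset := by
  simp only [closedX, List.all_eq_true, Bool.and_eq_true, decide_eq_true_eq, Bool.or_eq_true,
    beq_iff_eq, List.contains_iff_mem] at h
  constructor
  · intro r hr
    rw [List.mem_toFinset] at hr
    exact Q.sys.P_eq ▸ mem_posSet.2 ⟨(h r hr).1.1, (h r hr).1.2⟩
  · intro r hr s hs hne k hk
    rw [List.mem_toFinset] at hr hs ⊢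
    obtain ⟨⟨hr1, hr2⟩, hall⟩ := h r hr
    obtain ⟨⟨hs1, hs2⟩, -⟩ := h s hs
    refine (hall s hs).resolve_left hne k ?_
    obtain ⟨hkP, hrk, hsk⟩ := Q.sys.T_pos (Q.sys.P_eq ▸ mem_posSet.2 ⟨hr1, hr2⟩)
      (Q.sys.P_eq ▸ mem_posSet.2 ⟨hs1, hs2⟩) hk
    rw [Q.sys.P_eq, mem_posSet] at hkP
    obtain ⟨-, a, b, ha, hb, e⟩ := (hk : Combo Q.K r s k)
    have hb' := hTb.bnd
    simp only [bndB, List.all_eq_true, List.mem_range, Bool.or_eq_true, decide_eq_true_eq,
      Bool.and_eq_true, List.any_eq_true] at hb'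
    obtain ⟨hkbd, -⟩ := (hb' k hkP.1).resolve_left (by omega)
    obtain ⟨-, i, hi, hi1⟩ := (hb' r hr1).resolve_left (by omega)
    obtain ⟨-, i', hi', hi1'⟩ := (hb' s hs1).resolve_left (by omega)
    have ha4 : a ≤ 4 := by
      have h0 := Q.K.cf_nonneg s hs1 hs2 i hi
      have h1 := hkbd i hi
      rw [e i hi] at h1
      have := le_mul_of_one_le_right (Int.natCast_nonneg a) hi1
      have := mul_nonneg (Int.natCast_nonneg b) h0
      omega
    have hb4 : b ≤ 4 := by
      have h0 := Q.K.cf_nonneg r hr1 hr2 i' hi'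
      have h1 := hkbd i' hi'
      rw [e i' hi'] at h1
      have := le_mul_of_one_le_right (Int.natCast_nonneg b) hi1'
      have := mul_nonneg (Int.natCast_nonneg a) h0
      omega
    obtain ⟨wt, hok, hwt⟩ := hTb.comb
    have hw : wt.getD k 0 = (a : ℤ) * wt.getD r 0 + (b : ℤ) * wt.getD s 0 := by
      rw [hwt k hkP.1, hwt r hr1, hwt s hs1, wtOf, wtOf, wtOf, ← List.sum_map_mul_left,
        ← List.sum_map_mul_left, ← List.sum_map_add]
      refine congrArg List.sum (List.map_congr_left fun m hm => ?_)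
      rw [e m (List.mem_range.1 hm)]
      ring
    simp only [cmbOk, List.all_eq_true, List.mem_range, Bool.or_eq_true, decide_eq_true_eq,
      List.contains_iff_mem, Bool.not_eq_true', List.any_eq_false, List.any_eq_true,
      beq_iff_eq, not_exists, not_and] at hok
    have := hok (r - D.nroots / 2) (by have := Q.K.two_half; omega) (s - D.nroots / 2)
      (by have := Q.K.two_half; omega) k hkP.1
    rw [Nat.sub_add_cancel hr2, Nat.sub_add_cancel hs2] at this
    rcases this with ((h' | h') | h') | h'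
    · omega
    · omega
    · exact h'
    · refine absurd ?_ (h' (a - 1) (by omega) (b - 1) (by omega))
      rw [hw, Nat.cast_sub ha, Nat.cast_sub hb]
      push_cast
      ring

variable [CharP F 2]

theorem x_inv {r : ℕ} (hr : r < D.nroots) (t : F) : (Q.sys.x r t)⁻¹ = Q.sys.x r t :=
  inv_eq_of_mul_eq_one_right (by rw [← Q.sys.x_add' r hr, CharTwo.add_self_eq_zero, x_zero hr])

theorem x_sq {r : ℕ} (hr : r < D.nroots) (t : F) : Q.sys.x r t * Q.sys.x r t = 1 := by
  rw [← Q.sys.x_add' r hr, CharTwo.add_self_eq_zero, x_zero hr]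

/-- Conjugation of a root element by another one. -/
theorem x_conj {g s : ℕ} (hg : g < D.nroots) (hs : s < D.nroots) (h1 : s ≠ g)
    (h2 : s ≠ D.neg g) (a u : F) :
    Q.sys.x g a * Q.sys.x s u * Q.sys.x g a = Q.sys.x s u *
      ((oddT D g s).map fun c => Q.sys.x c.1 (a ^ c.2.1 * u ^ c.2.2)).prod := by
  rw [mul_assoc, H51.CW.comm_list Q hg hs h1 h2, ← mul_assoc, ← mul_assoc, x_sq Q hg, one_mul]
  congr 1
  simp only [oddT]
  induction D.commTerms g s with
  | nil => rfl
  | cons c L ih =>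
    rw [List.map_cons, List.prod_cons, ih, List.filterMap_cons]
    rcases Int.emod_two_eq_zero_or_one c.2.1 with h | h
    · rw [if_pos h]
      have hz : (2 : ℤ) ∣ c.2.1 := Int.dvd_of_emod_eq_zero h
      rw [mul_assoc (c.2.1 : F), H51.CW.x_even Q hz, one_mul]
    · rw [if_neg (by omega), List.map_cons, List.prod_cons]
      have hz : (c.2.1 : F) = 1 := by
        have e : c.2.1 = 2 * (c.2.1 / 2) + 1 := by omega
        rw [e]; push_cast; simp [CharTwo.two_eq_zero]
      rw [hz, one_mul, CharTwo.neg_eq]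

theorem moveB_iff {g s : ℕ} {T : List ℕ} : moveB D g s T = true ↔
    s = g ∨ (s ≠ D.neg g ∧ ∀ c ∈ oddT D g s, c.1 ∈ T) := by
  simp [moveB, List.all_eq_true, List.contains_iff_mem]

theorem x_conj_mem {g s : ℕ} (hg : g < D.nroots) (hs : s < D.nroots) {T : List ℕ}
    (hsT : s ∈ T) (h : moveB D g s T = true) (a u : F) :
    Q.sys.x g a * Q.sys.x s u * Q.sys.x g a ∈ LS Q T := by
  by_cases hsg : s = g
  · subst hsg
    rw [← Q.sys.x_add' s hs, ← Q.sys.x_add' s hs]
    exact x_mem_LS Q hsT _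
  · obtain ⟨h1, h2⟩ := (moveB_iff.1 h).resolve_left hsg
    rw [x_conj Q hg hs hsg h1]
    refine mul_mem (x_mem_LS Q hsT u) (Subgroup.list_prod_mem _ fun y hy => ?_)
    obtain ⟨c, hc, rfl⟩ := List.mem_map.1 hy
    exact x_mem_LS Q (h2 c hc) _

theorem conj_LS {g : ℕ} (hg : g < D.nroots) {S T : List ℕ} (h : normB D g S T = true) (a : F)
    {y : ↥(D.group F)} (hy : y ∈ LS Q S) : Q.sys.x g a * y * Q.sys.x g a ∈ LS Q T := by
  simp only [normB, List.all_eq_true, Bool.and_eq_true, decide_eq_true_eq,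
    List.contains_iff_mem] at h
  have := conj_mem_XS (K := LS Q T) (a := Q.sys.x g a) (fun r hr u => ?_) hy
  · rwa [x_inv Q hg] at this
  · rw [x_inv Q hg]
    obtain ⟨⟨h1, h2⟩, h3⟩ := h r (mem_coe_list.1 hr)
    exact x_conj_mem Q hg h1 h2 h3 a u

theorem comm_of_commB {g : ℕ} (hg : g < D.nroots) {A : List ℕ} (hA : ∀ a ∈ A, a < D.nroots)
    (h : commB D g A = true) {a : ℕ} (ha : a ∈ A) (v t : F) :
    Commute (Q.sys.x g v) (Q.sys.x a t) := by
  simp only [commB, List.all_eq_true, Bool.and_eq_true, decide_eq_true_eq, Bool.or_eq_true,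
    beq_iff_eq, List.isEmpty_iff] at h
  by_cases hag : a = g
  · subst hag
    rw [Commute, SemiconjBy, ← Q.sys.x_add' _ hg, ← Q.sys.x_add' _ hg, add_comm]
  · obtain ⟨h1, h2⟩ := (h a ha).resolve_left hag
    have e := x_conj Q hg (hA a ha) hag h1 v t
    rw [h2, List.map_nil, List.prod_nil, mul_one] at e
    rw [Commute, SemiconjBy, ← mul_inv_eq_iff_eq_mul, x_inv Q hg, e]

/-- A product with factors in `T` or at `j` is a root element at `j` times one in `T`. -/
theorem prod_mod {j : ℕ} (hj : j < D.nroots) {T : List ℕ} (hjT : normB D j T T = true) :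
    ∀ L : List (ℕ × F), (∀ p ∈ L, p.1 = j ∨ p.1 ∈ T) →
      ∃ q ∈ LS Q T, (L.map fun p => Q.sys.x p.1 p.2).prod =
        Q.sys.x j ((L.filter fun p => p.1 == j).map Prod.snd).sum * q := by
  intro L
  induction L with
  | nil => exact fun _ => ⟨1, one_mem _, by simp [x_zero hj]⟩
  | cons p L ih =>
    intro hL
    obtain ⟨q, hq, e⟩ := ih fun p' hp' => hL p' (List.mem_cons_of_mem _ hp')
    rw [List.map_cons, List.prod_cons, e]
    by_cases hp : p.1 = j
    · refine ⟨q, hq, ?_⟩
      rw [List.filter_cons, if_pos (by simpa using hp), List.map_cons, List.sum_cons,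
        Q.sys.x_add' j hj, hp]
      group
    · set z := Q.sys.x j ((L.filter fun p => p.1 == j).map Prod.snd).sum with hz
      refine ⟨z * Q.sys.x p.1 p.2 * z * q, mul_mem (conj_LS Q hj hjT _
        (x_mem_LS Q ((hL p List.mem_cons_self).resolve_left hp) _)) hq, ?_⟩
      rw [List.filter_cons, if_neg (by simpa using hp), ← hz]
      have : z * z = 1 := by rw [hz, x_sq Q hj]
      calc Q.sys.x p.1 p.2 * (z * q) = 1 * Q.sys.x p.1 p.2 * (z * q) := by rw [one_mul]
        _ = (z * z) * Q.sys.x p.1 p.2 * (z * q) := by rw [this]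
        _ = _ := by group

/-- The commutator modulo `T`, when a single term lies at `j`. -/
theorem conj_mod {g k j i l : ℕ} (hg : g < D.nroots) (hk : k < D.nroots) (h1 : k ≠ g)
    (h2 : k ≠ D.neg g) (hj : j < D.nroots) {T : List ℕ} (hjT : normB D j T T = true)
    (hone : ((oddT D g k).filter fun c => c.1 == j) = [(j, i, l)])
    (hrest : ∀ c ∈ oddT D g k, c.1 = j ∨ c.1 ∈ T) (a t : F) :
    ∃ q ∈ LS Q T, Q.sys.x g a * Q.sys.x k t * Q.sys.x g a =
      Q.sys.x k t * (Q.sys.x j (a ^ i * t ^ l) * q) := by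
  obtain ⟨q, hq, e⟩ := prod_mod Q hj hjT
    ((oddT D g k).map fun c => (c.1, a ^ c.2.1 * t ^ c.2.2)) (by
      intro p hp
      obtain ⟨c, hc, rfl⟩ := List.mem_map.1 hp
      exact hrest c hc)
  refine ⟨q, hq, ?_⟩
  rw [x_conj Q hg hk h1 h2]
  congr 1
  rw [List.filter_map, List.map_map, List.map_map,
    show ((fun p : ℕ × F => p.1 == j) ∘ fun c : ℕ × ℕ × ℕ => (c.1, a ^ c.2.1 * t ^ c.2.2)) =
      fun c => c.1 == j from rfl, hone] at e
  simpa [Function.comp_def] using e

end Cfsg.Agent.H56.Inv.Gen
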