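import Cfsg.Agent.H56.Inv.GenBase

/-!
Reduction of an involution of `U` to a product over orthogonal roots, driven by a certificate.

A node of the certificate is a list `A` of pivots with the closed list `O` of the roots still to be
treated.  For every root `k` of `O`, as lowest root of an involution, it gives either a
conjugation producing a lower lowest root, or the steps which confine the rest to the `O` of the
node with pivots `k :: A`.
-/
set_option autoImplicit false
set_option maxRecDepth 100000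

namespace Cfsg.Agent.H56.Inv.Gen

open Cfsg.Lie Cfsg.Agent.H37 Cfsg.Agent.H37.RootSys Cfsg.Agent.H56.Inv

/-- Removal of the coordinate at one root, by conjugation or by the involution condition. -/
inductive Step where
  | clear (j g i l : ℕ)
  | kill (j m i l : ℕ) (I V : List ℕ)

/-- The treatment of a lowest root. -/
inductive Op where
  | jump (g k' i l : ℕ)
  | piv (next : ℕ) (steps : List Step)

/-- A node of the certificate. -/
structure Node where
  piv : List ℕ
  sup : List ℕ
  ops : List (ℕ × Op)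

variable {D : ChevalleyDatum}

/-- The roots of a list above `k`. -/
def above (O : List ℕ) (k : ℕ) : List ℕ := O.filter fun r => decide (k < r)

/-- The check of the steps. -/
def stepsB (D : ChevalleyDatum) (cmb : List (List (List ℕ))) (k : ℕ) (A O' : List ℕ) :
    List Step → List ℕ → Bool
  | [], S => S.all fun r => O'.contains r
  | .clear j g i l :: rest, S =>
      decide (g < D.nroots) && decide (k ≠ g) && decide (k ≠ D.neg g) && decide (j < D.nroots) &&
      closedX D cmb S && normB D j (S.filter (· != j)) (S.filter (· != j)) &&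
      normB D g (S.filter (· != j)) (S.filter (· != j)) && moveB D g j (S.filter (· != j)) &&
      commB D g A && ((oddT D g k).filter (fun c => c.1 == j) == [(j, i, l)]) &&
      ((oddT D g k).all fun c => c.1 == j || (S.filter (· != j)).contains c.1) &&
      (i == 1 || i == 2) && stepsB D cmb k A O' rest (S.filter (· != j))
  | .kill j m i l I V :: rest, S =>
      decide (j < D.nroots) && decide (j ≠ k) && decide (j ≠ D.neg k) && decide (m < D.nroots) &&
      decide (D.nroots / 2 ≤ m) &&
      closedX D cmb S && closedX D cmb V && !(V.contains m) && V.contains j &&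
      (I.all fun r => V.contains r) && (S.all fun r => V.contains r) &&
      normB D k (S.filter (· != j)) I && normB D m I I &&
      ((oddT D k j).filter (fun c => c.1 == m) == [(m, i, l)]) &&
      ((oddT D k j).all fun c => c.1 == m || I.contains c.1) &&
      decide (0 < l) && stepsB D cmb k A O' rest (S.filter (· != j))

/-- The check of one operation. -/
def opB (D : ChevalleyDatum) (cmb : List (List (List ℕ))) (nodes : List Node) (idx k : ℕ)
    (A O : List ℕ) : Op → Bool
  | .jump g k' i l =>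
      decide (g < D.nroots) && decide (k ≠ g) && decide (k ≠ D.neg g) && decide (k' < k) &&
      O.contains k' && commB D g A && normB D g (above O k) (above O k') &&
      normB D k' (above O k') (above O k') &&
      ((oddT D g k).filter (fun c => c.1 == k') == [(k', i, l)]) &&
      ((oddT D g k).all fun c => c.1 == k' || (above O k').contains c.1)
  | .piv next steps =>
      decide (idx < next) && decide (next < nodes.length) &&
      (k :: A).isPerm (nodes.getD next ⟨[], [], []⟩).piv &&
      (pb D k k == 2) && commB D k (nodes.getD next ⟨[], [], []⟩).sup &&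
      stepsB D cmb k A (nodes.getD next ⟨[], [], []⟩).sup steps (above O k)

/-- The check of one node. -/
def nodeB (D : ChevalleyDatum) (cmb : List (List (List ℕ))) (nodes : List Node) (idx : ℕ) : Bool :=
  let N := nodes.getD idx ⟨[], [], []⟩
  (N.piv.all fun a => decide (a < D.nroots)) &&
  decide (N.piv.Pairwise fun r s => pb D r s = 0 ∧ pb D s r = 0) &&
  closedX D cmb N.sup &&
  N.sup.all fun k => match N.ops.find? fun e => e.1 == k with
    | none => false
    | some e => opB D cmb nodes idx k N.piv N.sup e.2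

variable {F : Type*} [Field F] [CharP F 2] (Q : Chev.Data D F) {cmb : List (List (List ℕ))}

theorem exists_pow_eq [Finite F] {i : ℕ} (hi : i = 1 ∨ i = 2) (b : F) : ∃ s : F, s ^ i = b := by
  rcases hi with rfl | rfl
  · exact ⟨b, pow_one b⟩
  · exact exists_sqrt b

omit [CharP F 2] in
theorem split_at (hTb : Tables D Q.K.cf cmb) {S : List ℕ} (hS : closedX D cmb S = true) {j : ℕ}
    (hj : j < D.nroots) {y : ↥(D.group F)} (hy : y ∈ LS Q S) :
    ∃ a ∈ LS Q (S.filter (· != j)), ∃ b ∈ XS Q.sys.x ({j} : Set ℕ), y = a * b := by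
  refine Q.sys.toUnip.exists_split (closed_of_closedX Q hTb hS)
    (↑(S.filter (· != j)).toFinset : Set ℕ) {j} (fun r hr => ?_) hy
  rw [List.mem_toFinset] at hr
  by_cases h : r = j
  · exact Or.inr h
  · exact Or.inl (mem_coe_list.2 (List.mem_filter.2 ⟨hr, by simpa using h⟩))

/-- The steps. -/
theorem run_steps [Finite F] (hTb : Tables D Q.K.cf cmb) {k : ℕ} (hk : k < D.nroots) {t : F}
    (ht : t ≠ 0) {A : List ℕ} (hA : ∀ a ∈ A, a < D.nroots) {O' : List ℕ} :
    ∀ (steps : List Step) (S : List ℕ), stepsB D cmb k A O' steps S = true →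
      ∀ y ∈ LS Q S, Q.sys.x k t * y * (Q.sys.x k t * y) = 1 →
        ∃ v : ↥(D.group F), (∀ a ∈ A, ∀ s, Commute v (Q.sys.x a s)) ∧
          ∃ y' ∈ LS Q O', v * (Q.sys.x k t * y) * v⁻¹ = Q.sys.x k t * y' := by
  intro steps
  induction steps with
  | nil =>
    intro S h y hy _
    simp only [stepsB, List.all_eq_true, List.contains_iff_mem] at h
    exact ⟨1, fun _ _ _ => Commute.one_left _, y, LS_mono Q h hy, by group⟩
  | cons st rest ih =>
    intro S h y hy hsq
    cases st with
    | clear j g i l =>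
      simp only [stepsB, Bool.and_eq_true, decide_eq_true_eq, beq_iff_eq, List.all_eq_true,
        Bool.or_eq_true, List.contains_iff_mem] at h
      obtain ⟨⟨⟨⟨⟨⟨⟨⟨⟨⟨⟨⟨hg, hkg⟩, hkg'⟩, hj⟩, hS⟩, hjT⟩, hgT⟩, hgj⟩, hgA⟩, hone⟩, hrest⟩, hi⟩,
        hnext⟩ := h
      set T := S.filter (· != j) with hT
      obtain ⟨a, ha, b, hb, rfl⟩ := split_at Q hTb hS hj hy
      obtain ⟨c, rfl⟩ := exists_of_mem_single (Q := Q) hj hb
      obtain ⟨s, hs⟩ := exists_pow_eq hi (c / t ^ l)
      obtain ⟨q, hq, e⟩ := conj_mod Q hg hk hkg hkg' hj hjT hone hrest s t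
      have hsc : s ^ i * t ^ l = c := by rw [hs, div_mul_cancel₀ _ (pow_ne_zero _ ht)]
      rw [hsc] at e
      obtain ⟨w, hw, ew⟩ : ∃ w ∈ LS Q T,
          Q.sys.x g s * Q.sys.x j c * Q.sys.x g s = Q.sys.x j c * w := by
        by_cases hjg : j = g
        · subst hjg
          exact ⟨1, one_mem _, by rw [← Q.sys.x_add' j hj, ← Q.sys.x_add' j hj, mul_one,
            add_comm s c, add_assoc, CharTwo.add_self_eq_zero, add_zero]⟩
        · obtain ⟨h1, h2⟩ := (moveB_iff.1 hgj).resolve_left hjg
          refine ⟨_, Subgroup.list_prod_mem _ fun z hz => ?_, x_conj Q hg hj hjg h1 s c⟩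
          obtain ⟨d, hd, rfl⟩ := List.mem_map.1 hz
          exact x_mem_LS Q (h2 d hd) _
      have ha' := conj_LS Q hg hgT s ha
      have hqa := conj_LS Q hj hjT c (mul_mem hq ha')
      set y2 := Q.sys.x j c * (q * (Q.sys.x g s * a * Q.sys.x g s)) * Q.sys.x j c * w with hy2
      have key : Q.sys.x g s * (Q.sys.x k t * (a * Q.sys.x j c)) * (Q.sys.x g s)⁻¹ =
          Q.sys.x k t * y2 := by
        have hgg := x_sq Q hg s
        rw [x_inv Q hg]
        calc Q.sys.x g s * (Q.sys.x k t * (a * Q.sys.x j c)) * Q.sys.x g s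
            = Q.sys.x g s * Q.sys.x k t * 1 * a * 1 * (Q.sys.x j c * Q.sys.x g s) := by group
          _ = Q.sys.x g s * Q.sys.x k t * (Q.sys.x g s * Q.sys.x g s) * a *
                (Q.sys.x g s * Q.sys.x g s) * (Q.sys.x j c * Q.sys.x g s) := by rw [hgg]
          _ = (Q.sys.x g s * Q.sys.x k t * Q.sys.x g s) * (Q.sys.x g s * a * Q.sys.x g s) *
                (Q.sys.x g s * Q.sys.x j c * Q.sys.x g s) := by group
          _ = _ := by rw [e, ew, hy2]; group
      have hy2m : y2 ∈ LS Q T := mul_mem hqa hw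
      obtain ⟨v, hv, y', hy', e'⟩ := ih T hnext y2 hy2m (by
        rw [← key, show ∀ z X : ↥(D.group F), z * X * z⁻¹ * (z * X * z⁻¹) = z * (X * X) * z⁻¹ from
          fun z X => by group, hsq, mul_one, mul_inv_cancel])
      refine ⟨v * Q.sys.x g s, fun a' ha' u => (hv a' ha' u).mul_left
        (comm_of_commB Q hg hA hgA ha' s u), y', hy', ?_⟩
      rw [← e', ← key]
      group
    | kill j m i l I V =>
      simp only [stepsB, Bool.and_eq_true, decide_eq_true_eq, beq_iff_eq, List.all_eq_true,
        Bool.or_eq_true, List.contains_iff_mem, Bool.not_eq_true', List.contains_eq_mem,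
        decide_eq_false_iff_not] at h
      obtain ⟨⟨⟨⟨⟨⟨⟨⟨⟨⟨⟨⟨⟨⟨⟨⟨hj, hjk⟩, hjk'⟩, hm⟩, hm'⟩, hS⟩, hV⟩, hmV⟩, hjV⟩, hIV⟩, hSV⟩,
        hkI⟩, hmI⟩, hone⟩, hrest⟩, hl⟩, hnext⟩ := h
      set T := S.filter (· != j) with hT
      obtain ⟨a, ha, b, hb, rfl⟩ := split_at Q hTb hS hj hy
      obtain ⟨c, rfl⟩ := exists_of_mem_single (Q := Q) hj hb
      suffices hc : c = 0 by
        subst hc
        rw [x_zero hj, mul_one] at hsq ⊢
        exact ih T hnext a ha hsq
      obtain ⟨q, hq, e⟩ := conj_mod Q hk hj hjk hjk' hm hmI hone hrest t c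
      have ha' := conj_LS Q hk hkI t ha
      have hkk := x_sq Q hk t
      have hinv : Q.sys.x k t * (a * Q.sys.x j c) * Q.sys.x k t = (a * Q.sys.x j c)⁻¹ :=
        eq_inv_of_mul_eq_one_left (by rw [← hsq]; group)
      have e2 : Q.sys.x k t * (a * Q.sys.x j c) * Q.sys.x k t =
          (Q.sys.x k t * a * Q.sys.x k t) * (Q.sys.x k t * Q.sys.x j c * Q.sys.x k t) := by
        calc Q.sys.x k t * (a * Q.sys.x j c) * Q.sys.x k t
            = Q.sys.x k t * a * 1 * (Q.sys.x j c * Q.sys.x k t) := by group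
          _ = Q.sys.x k t * a * (Q.sys.x k t * Q.sys.x k t) * (Q.sys.x j c * Q.sys.x k t) := by
              rw [hkk]
          _ = _ := by group
      have hmem : Q.sys.x m (t ^ i * c ^ l) ∈ LS Q V := by
        have e3 : Q.sys.x m (t ^ i * c ^ l) = (Q.sys.x j c)⁻¹ *
            (Q.sys.x k t * a * Q.sys.x k t)⁻¹ * (a * Q.sys.x j c)⁻¹ * q⁻¹ := by
          rw [← hinv, e2, e]; group
        rw [e3]
        exact mul_mem (mul_mem (mul_mem (inv_mem (x_mem_LS Q hjV c))
          (inv_mem (LS_mono Q hIV ha'))) (inv_mem (LS_mono Q hSV hy)))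
          (inv_mem (LS_mono Q hIV hq))
      have h0 := H51.CW.eq_zero_of_mem Q (closed_of_closedX Q hTb hV) hm hm'
        (fun hc => hmV (List.mem_toFinset.1 hc)) hmem
      rcases mul_eq_zero.1 h0 with h0 | h0
      · exact absurd h0 (pow_ne_zero _ ht)
      · exact pow_eq_zero_iff (by omega) |>.1 h0

variable (cmb) in
/-- All nodes check. -/
def AllNodes (D : ChevalleyDatum) (nodes : List Node) : Prop :=
  ∀ idx < nodes.length, nodeB D cmb nodes idx = true

/-- The induction along the certificate. -/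
theorem exists_list_aux [Finite F] (hTb : Tables D Q.K.cf cmb) {nodes : List Node}
    (hN : AllNodes cmb D nodes) :
    ∀ n idx, idx < nodes.length → nodes.length ≤ idx + n →
      ∀ u ∈ LS Q (nodes.getD idx ⟨[], [], []⟩).sup, u * u = 1 →
        ∃ c : ↥(D.group F),
          (∀ a ∈ (nodes.getD idx ⟨[], [], []⟩).piv, ∀ t, Commute c (Q.sys.x a t)) ∧
          ∃ L : List ℕ, (∃ j < nodes.length, ((nodes.getD idx ⟨[], [], []⟩).piv ++ L).Perm
              (nodes.getD j ⟨[], [], []⟩).piv) ∧
            c * u * c⁻¹ = prodX Q L := by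
  intro n
  induction n with
  | zero => intro idx h1 h2; omega
  | succ n ih =>
    intro idx hidx hn u hu hu2
    have hnode := hN idx hidx
    simp only [nodeB, Bool.and_eq_true, decide_eq_true_eq, List.all_eq_true] at hnode
    set A := (nodes.getD idx ⟨[], [], []⟩).piv with hAdef
    set O := (nodes.getD idx ⟨[], [], []⟩).sup with hOdef
    obtain ⟨⟨⟨hA, -⟩, hO⟩, hops⟩ := hnode
    have hOc := closed_of_closedX Q hTb hO
    -- the induction on the lowest root
    suffices key : ∀ k, k ∈ O → ∀ t : F, t ≠ 0 → ∀ p ∈ LS Q (above O k),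
        Q.sys.x k t * p * (Q.sys.x k t * p) = 1 →
        ∃ c : ↥(D.group F), (∀ a ∈ A, ∀ t, Commute c (Q.sys.x a t)) ∧
          ∃ L : List ℕ, (∃ j < nodes.length, (A ++ L).Perm (nodes.getD j ⟨[], [], []⟩).piv) ∧
            c * (Q.sys.x k t * p) * c⁻¹ = prodX Q L by
      by_cases hu1 : u = 1
      · exact ⟨1, fun _ _ _ => Commute.one_left _, [], ⟨idx, hidx, by simp [hAdef]⟩,
          by simp [hu1, prodX]⟩
      obtain ⟨k, hk, t, ht, p, hp, rfl⟩ := exists_lowest hOc D.nroots 0 (by omega) u
        (XS_mono (S' := {r | r ∈ O.toFinset ∧ 0 ≤ r})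
          (fun r hr => ⟨Finset.mem_coe.1 hr, Nat.zero_le r⟩) hu) hu1
      refine key k (List.mem_toFinset.1 hk) t ht p (XS_mono ?_ hp) hu2
      intro r hr
      exact mem_coe_list.2 (List.mem_filter.2 ⟨List.mem_toFinset.1 hr.1, by simpa using hr.2⟩)
    intro k
    induction k using Nat.strong_induction_on with
    | _ k ihk =>
    intro hkO t ht p hp hsq
    have hkP := (mem_posSet.1 (Q.sys.P_eq ▸ hOc.1 (List.mem_toFinset.2 hkO)))
    have hop := hops k hkO
    cases hfind : (nodes.getD idx ⟨[], [], []⟩).ops.find? (fun e => e.1 == k) with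
    | none => rw [hfind] at hop; simp at hop
    | some e0 =>
      rw [hfind] at hop
      obtain ⟨k0, op⟩ := e0
      cases op with
      | jump g k' i l =>
        simp only [opB, Bool.and_eq_true, decide_eq_true_eq, beq_iff_eq, List.all_eq_true,
          Bool.or_eq_true, List.contains_iff_mem] at hop
        obtain ⟨⟨⟨⟨⟨⟨⟨⟨⟨hg, hkg⟩, hkg'⟩, hk'⟩, hk'O⟩, hgA⟩, hgS⟩, hk'W⟩, hone⟩, hrest⟩ := hop
        have hk'lt : k' < D.nroots := by omega
        obtain ⟨q, hq, e⟩ := conj_mod Q hg hkP.1 hkg hkg' hk'lt hk'W hone hrest 1 t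
        rw [one_pow, one_mul] at e
        have hgg := x_sq Q hg (1 : F)
        have hkW : k ∈ above O k' := List.mem_filter.2 ⟨hkO, by simpa using hk'⟩
        have hp' := conj_LS Q hg hgS 1 hp
        have hx := conj_LS Q hk'lt hk'W (t ^ l) (x_mem_LS Q hkW t)
        set z := Q.sys.x k' (t ^ l) with hz
        have hzz : z * z = 1 := by rw [hz, x_sq Q hk'lt]
        set p2 := z * Q.sys.x k t * z * (q * (Q.sys.x g 1 * p * Q.sys.x g 1)) with hp2
        have key : Q.sys.x g 1 * (Q.sys.x k t * p) * (Q.sys.x g 1)⁻¹ = z * p2 := by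
          rw [x_inv Q hg]
          calc Q.sys.x g 1 * (Q.sys.x k t * p) * Q.sys.x g 1
              = Q.sys.x g 1 * Q.sys.x k t * 1 * p * Q.sys.x g 1 := by group
            _ = Q.sys.x g 1 * Q.sys.x k t * (Q.sys.x g 1 * Q.sys.x g 1) * p * Q.sys.x g 1 := by
                rw [hgg]
            _ = (Q.sys.x g 1 * Q.sys.x k t * Q.sys.x g 1) *
                  (Q.sys.x g 1 * p * Q.sys.x g 1) := by group
            _ = 1 * (Q.sys.x k t * (z * q) * (Q.sys.x g 1 * p * Q.sys.x g 1)) := by
                rw [e, one_mul]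
            _ = z * z * (Q.sys.x k t * (z * q) * (Q.sys.x g 1 * p * Q.sys.x g 1)) := by rw [hzz]
            _ = _ := by rw [hp2]; group
        obtain ⟨c, hc, L, hL, ec⟩ := ihk k' hk' hk'O (t ^ l) (pow_ne_zero _ ht) p2
          (mul_mem hx (mul_mem hq hp')) (by
            rw [← hz, ← key, show ∀ y X : ↥(D.group F), y * X * y⁻¹ * (y * X * y⁻¹) =
              y * (X * X) * y⁻¹ from fun y X => by group, hsq, mul_one, mul_inv_cancel])
        refine ⟨c * Q.sys.x g 1, fun a ha s => (hc a ha s).mul_left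
          (comm_of_commB Q hg hA hgA ha 1 s), L, hL, ?_⟩
        rw [← ec, ← hz, ← key]
        group
      | piv next steps =>
        simp only [opB, Bool.and_eq_true, decide_eq_true_eq, beq_iff_eq] at hop
        obtain ⟨⟨⟨⟨⟨hnext, hnextlt⟩, hperm⟩, hkk⟩, hkO'⟩, hsteps⟩ := hop
        rw [List.isPerm_iff] at hperm
        obtain ⟨v, hv, y', hy', e⟩ := run_steps Q hTb hkP.1 ht hA steps _ hsteps p hp hsq
        set A' := (nodes.getD next ⟨[], [], []⟩).piv
        have hnode' := hN next hnextlt
        simp only [nodeB, Bool.and_eq_true, decide_eq_true_eq, List.all_eq_true] at hnode'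
        have hO'lt : ∀ a ∈ (nodes.getD next ⟨[], [], []⟩).sup, a < D.nroots := fun a ha =>
          (mem_posSet.1 (Q.sys.P_eq ▸ (closed_of_closedX Q hTb hnode'.1.2).1
            (List.mem_toFinset.2 ha))).1
        have hcomm : Commute (Q.sys.x k t) y' := by
          have hle : LS Q (nodes.getD next ⟨[], [], []⟩).sup ≤
              Subgroup.centralizer {Q.sys.x k t} := XS_le fun r hr u => by
            rw [Subgroup.mem_centralizer_singleton_iff]
            exact (comm_of_commB Q hkP.1 hO'lt hkO' (mem_coe_list.1 hr) t u).symm.eq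
          exact (Subgroup.mem_centralizer_singleton_iff.1 (hle hy')).symm
        have hy2 : y' * y' = 1 := by
          calc y' * y' = Q.sys.x k t * Q.sys.x k t * (y' * y') := by rw [x_sq Q hkP.1, one_mul]
            _ = Q.sys.x k t * (Q.sys.x k t * y') * y' := by group
            _ = Q.sys.x k t * (y' * Q.sys.x k t) * y' := by rw [hcomm.eq]
            _ = Q.sys.x k t * y' * (Q.sys.x k t * y') := by group
            _ = v * (Q.sys.x k t * p) * v⁻¹ * (v * (Q.sys.x k t * p) * v⁻¹) := by rw [e]
            _ = v * (Q.sys.x k t * p * (Q.sys.x k t * p)) * v⁻¹ := by group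
            _ = 1 := by rw [hsq]; group
        obtain ⟨c, hc, L, ⟨j, hj, hLj⟩, ec⟩ := ih next hnextlt (by omega) y' hy' hy2
        have hAmem : ∀ a, a ∈ k :: A → a ∈ A' := fun a ha => hperm.mem_iff.1 ha
        have hfin := hN j hj
        simp only [nodeB, Bool.and_eq_true, decide_eq_true_eq, List.all_eq_true] at hfin
        have hall : ((k :: A) ++ L).Perm (nodes.getD j ⟨[], [], []⟩).piv :=
          (hperm.append_right L).trans hLj
        have hpw := (hall.pairwise_iff (R := fun r s => pb D r s = 0 ∧ pb D s r = 0)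
          (fun h => h.symm)).2 hfin.1.1.2
        rw [List.cons_append, List.pairwise_cons] at hpw
        have hlt : ∀ r ∈ (k :: A) ++ L, r < D.nroots := fun r hr => hfin.1.1.1 r (hall.mem_iff.1 hr)
        obtain ⟨s0, hs0⟩ := exists_sqrt (F := F) t⁻¹
        have hs00 : s0 ≠ 0 := fun h0 => inv_ne_zero ht (by rw [← hs0, h0]; simp)
        set H : ↥(D.group F) :=
          ⟨Q.K.hU F k s0, Q.K.wU_mem F fun p _ => Q.K.xU_mem_group F p.1 p.2⟩
        have hHk : H * Q.sys.x k t * H⁻¹ = Q.sys.x k 1 := by
          rw [hU_x hkP.1 hkP.1 hs00, hkk, zpow_two, ← pow_two, hs0, inv_mul_cancel₀ ht]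
        have hHL : H * prodX Q L * H⁻¹ = prodX Q L := by
          rw [prodX, ← MulAut.conj_apply, map_list_prod, List.map_map]
          refine congrArg List.prod (List.map_congr_left fun r hr => ?_)
          show H * Q.sys.x r 1 * H⁻¹ = _
          rw [hU_x hkP.1 (hlt r (List.mem_append_right _ hr)) hs00,
            (hpw.1 r (List.mem_append_right _ hr)).1, zpow_zero, one_mul]
        refine ⟨H * c * v, fun a ha s => ?_, k :: L, ⟨j, hj,
          (List.perm_middle.trans (List.Perm.refl _)).trans hall⟩, ?_⟩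
        · refine ((?_ : Commute H _).mul_left (hc a (hAmem a (List.mem_cons_of_mem _ ha)) s)).mul_left
            (hv a ha s)
          rw [Commute, SemiconjBy, ← mul_inv_eq_iff_eq_mul, hU_x hkP.1 (hA a ha) hs00,
            (hpw.1 a (List.mem_append_left _ ha)).1, zpow_zero, one_mul]
        · rw [show H * c * v * (Q.sys.x k t * p) * (H * c * v)⁻¹ =
            H * (c * (v * (Q.sys.x k t * p) * v⁻¹) * c⁻¹) * H⁻¹ by group, e,
            show c * (Q.sys.x k t * y') * c⁻¹ = (c * Q.sys.x k t) * (y' * c⁻¹) by group,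
            (hc k (hAmem k List.mem_cons_self) t).eq,
            show Q.sys.x k t * c * (y' * c⁻¹) = Q.sys.x k t * (c * y' * c⁻¹) by group, ec,
            show H * (Q.sys.x k t * prodX Q L) * H⁻¹ =
              (H * Q.sys.x k t * H⁻¹) * (H * prodX Q L * H⁻¹) by group, hHk, hHL, prodX_cons]

/-- Every involution is conjugate to the product over the pivots of some node. -/
theorem exists_node [Finite F] (hTb : Tables D Q.K.cf cmb) {nodes : List Node}
    (hN : AllNodes cmb D nodes) (h0 : (nodes.getD 0 ⟨[], [], []⟩).piv = [])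
    (hpos : ∀ r < D.nroots, D.nroots / 2 ≤ r → r ∈ (nodes.getD 0 ⟨[], [], []⟩).sup)
    (hlen : 0 < nodes.length) {g : ↥(D.group F)} (hg : g * g = 1) :
    ∃ c : ↥(D.group F), ∃ L : List ℕ, (∃ j < nodes.length,
      L.Perm (nodes.getD j ⟨[], [], []⟩).piv) ∧ c * g * c⁻¹ = prodX Q L := by
  haveI : Fact (Nat.Prime 2) := ⟨Nat.prime_two⟩
  obtain ⟨c, hc⟩ := H51.exists_conj_mem_U (p := 2) Q (g := g) (k := 1)
    (by rw [pow_one, pow_two, hg])
  obtain ⟨d, -, L, ⟨j, hj, hL⟩, e⟩ := exists_list_aux Q hTb hN nodes.length 0 hlen (by omega)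
    (c * g * c⁻¹) (XS_mono (fun r hr => mem_coe_list.2 (hpos r
      (mem_posSet.1 (Finset.mem_coe.1 hr)).1 (mem_posSet.1 (Finset.mem_coe.1 hr)).2)) hc)
    (by rw [show c * g * c⁻¹ * (c * g * c⁻¹) = c * (g * g) * c⁻¹ by group, hg, mul_one,
      mul_inv_cancel])
  rw [h0, List.nil_append] at hL
  exact ⟨d * c, L, ⟨j, hj, hL⟩, by rw [← e]; group⟩

end Cfsg.Agent.H56.Inv.Gen
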