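import Cfsg.Agent.H56.Inv.Pivot
import Cfsg.Agent.H51.SylowU

/-!
Every involution of a simply laced Chevalley group of characteristic two is conjugate to a product
of root elements with parameter one at pairwise orthogonal roots.
-/
set_option autoImplicit false
set_option maxRecDepth 100000

namespace Cfsg.Agent.H56.Inv

open Cfsg.Lie Cfsg.Agent.H37 Cfsg.Agent.H37.RootSys

variable {D : ChevalleyDatum} {F : Type*} [Field F] {Q : Chev.Data D F}

variable (Q) in
/-- The product of the root elements with parameter one. -/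
def prodX (L : List ℕ) : ↥(D.group F) := (L.map fun r => Q.sys.x r (1 : F)).prod

theorem prodX_cons (a : ℕ) (L : List ℕ) : prodX Q (a :: L) = Q.sys.x a 1 * prodX Q L := by
  simp [prodX]

/-- Positive roots, pairwise orthogonal in both orders. -/
def POrth (D : ChevalleyDatum) (L : List ℕ) : Prop :=
  L.Pairwise (fun r s => pb D r s = 0 ∧ pb D s r = 0) ∧ ∀ r ∈ L, IsPos D r

theorem exists_lowest {S : Finset ℕ} (hS : Q.sys.toUnip.Closed S) :
    ∀ n j, D.nroots ≤ j + n → ∀ g ∈ XS Q.sys.x {r | r ∈ S ∧ j ≤ r}, g ≠ 1 →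
      ∃ k ∈ S, ∃ t : F, t ≠ 0 ∧ ∃ p ∈ XS Q.sys.x {r | r ∈ S ∧ k < r}, g = Q.sys.x k t * p := by
  intro n
  induction n with
  | zero =>
      intro j hj g hg hne
      refine absurd ?_ hne
      have : {r | r ∈ S ∧ j ≤ r} = ∅ := Set.eq_empty_iff_forall_notMem.2 fun r hr => by
        have h1 : r ∈ posSet D := Q.sys.P_eq ▸ hS.1 hr.1
        have := (mem_posSet.1 h1).1
        have := hr.2
        omega
      rwa [this, XS_empty, Subgroup.mem_bot] at hg
  | succ n ih =>
      intro j hj g hg hne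
      by_cases hjS : j ∈ S
      · obtain ⟨t, p, hp, rfl⟩ := Q.sys.toUnip.exists_head hS hjS hg
        by_cases ht : t = 0
        · subst ht
          have e := Q.sys.toUnip.x_zero (hS.1 hjS)
          change Q.sys.x j 0 = 1 at e
          refine ih (j + 1) (by omega) _ ?_ hne
          change Q.sys.x j 0 * p ∈ _
          rw [e, one_mul]
          exact hp
        · exact ⟨j, hjS, t, ht, p, hp, rfl⟩
      · rw [Unip.tail_of_not_mem hjS] at hg
        exact ih (j + 1) (by omega) g hg hne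

variable [CharP F 2] [Finite F]

theorem exists_sqrt (a : F) : ∃ s : F, s ^ 2 = a := by
  haveI := Fintype.ofFinite F
  obtain ⟨s, hs⟩ := Cfsg.Agent.Orthogonal.isSquare_of_two_eq_zero (CharTwo.two_eq_zero (R := F)) a
  exact ⟨s, by rw [hs, pow_two]⟩

omit [Finite F] in
theorem hU_x {r s : ℕ} (hr : r < D.nroots) (hs : s < D.nroots) {c : F} (hc : c ≠ 0) (t : F) :
    (⟨Q.K.hU F r c, Q.K.wU_mem F fun p _ => Q.K.xU_mem_group F p.1 p.2⟩ : ↥(D.group F)) *
        Q.sys.x s t *
        (⟨Q.K.hU F r c, Q.K.wU_mem F fun p _ => Q.K.xU_mem_group F p.1 p.2⟩ : ↥(D.group F))⁻¹ =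
      Q.sys.x s (c ^ pb D r s * t) := by
  refine Subtype.ext ?_
  have := Q.K.hU_conj_xU F hr hs (Units.mk0 c hc) t
  rw [pb_eq, Units.val_zpow_eq_zpow_val, Units.val_mk0] at this
  exact this

variable (h : SL Q)
include h

/-- The induction on the pivots. -/
theorem exists_orth_aux : ∀ n (A : List ℕ), (∀ a ∈ A, IsPos D a) →
    (Q.sys.P.filter (Orth D A)).card ≤ n →
    ∀ u ∈ XS Q.sys.x (↑(Q.sys.P.filter (Orth D A)) : Set ℕ), u * u = 1 →
      ∃ c : ↥(D.group F), (∀ a ∈ A, ∀ t, Commute c (Q.sys.x a t)) ∧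
        ∃ L, POrth D L ∧ (∀ r ∈ L, Orth D A r) ∧ c * u * c⁻¹ = prodX Q L := by
  intro n
  induction n with
  | zero =>
      intro A hA hn u hu _
      rw [Nat.le_zero, Finset.card_eq_zero] at hn
      rw [hn, Finset.coe_empty, XS_empty, Subgroup.mem_bot] at hu
      exact ⟨1, fun a _ t => Commute.one_left _, [],
        ⟨List.Pairwise.nil, by simp⟩, by simp, by simp [hu, prodX]⟩
  | succ n ih =>
      intro A hA hn u hu hu2
      by_cases hu1 : u = 1
      · exact ⟨1, fun a _ t => Commute.one_left _, [],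
          ⟨List.Pairwise.nil, by simp⟩, by simp, by simp [hu1, prodX]⟩
      obtain ⟨k, hkS, t, ht, p, hp, rfl⟩ := exists_lowest (orth_closed A) D.nroots 0 (by omega) u
        (XS_mono (S' := {r | r ∈ Q.sys.P.filter (Orth D A) ∧ 0 ≤ r})
          (fun r hr => ⟨Finset.mem_coe.1 hr, Nat.zero_le r⟩) hu) hu1
      obtain ⟨hk, hkA⟩ := mem_P.1 hkS
      obtain ⟨v, hv, p', hp', e⟩ := clear_one h A hA hk hkA ht D.nroots 0 (by omega) p (by
        refine XS_mono ?_ hp
        intro r hr
        obtain ⟨h1, h2⟩ := mem_P.1 hr.1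
        exact Finset.mem_coe.2 (mem_P.2 ⟨h1, h2, hr.2, Or.inr (Nat.zero_le r)⟩))
      have hsq : Q.sys.x k t * p' * (Q.sys.x k t * p') = 1 := by
        rw [← e, show v * (Q.sys.x k t * p) * v⁻¹ * (v * (Q.sys.x k t * p) * v⁻¹) =
          v * (Q.sys.x k t * p * (Q.sys.x k t * p)) * v⁻¹ by group, hu2, mul_one, mul_inv_cancel]
      have hp0 := clear_neg h A hA hk hkA ht hp' hsq
      have hcomm : Commute (Q.sys.x k t) p' := commute_XS h hk (fun r hr => by
        obtain ⟨h1, h2⟩ := mem_P.1 (Finset.mem_coe.1 hr)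
        exact ⟨h1, (h2 k List.mem_cons_self).ge⟩) hp0 t
      have hxx : Q.sys.x k t * Q.sys.x k t = 1 := by
        rw [← Q.sys.x_add' k hk.1, CharTwo.add_self_eq_zero, x_zero hk.1]
      have hp2 : p' * p' = 1 := by
        calc p' * p' = Q.sys.x k t * Q.sys.x k t * (p' * p') := by rw [hxx, one_mul]
          _ = Q.sys.x k t * (Q.sys.x k t * p') * p' := by group
          _ = Q.sys.x k t * (p' * Q.sys.x k t) * p' := by rw [hcomm.eq]
          _ = Q.sys.x k t * p' * (Q.sys.x k t * p') := by group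
          _ = 1 := hsq
      have hA' : ∀ a ∈ k :: A, IsPos D a := List.forall_mem_cons.2 ⟨hk, hA⟩
      have hcard : (Q.sys.P.filter (Orth D (k :: A))).card ≤ n := by
        have hlt : (Q.sys.P.filter (Orth D (k :: A))).card < (Q.sys.P.filter (Orth D A)).card := by
          refine Finset.card_lt_card ⟨fun r hr => ?_, fun hsub => ?_⟩
          · obtain ⟨h1, h2⟩ := mem_P.1 hr
            exact mem_P.2 ⟨h1, fun a ha => h2 a (List.mem_cons_of_mem _ ha)⟩
          · have := (mem_P.1 (hsub hkS)).2 k List.mem_cons_self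
            rw [h.self hk] at this
            exact absurd this (by norm_num)
        omega
      obtain ⟨c, hc, L, hL, hLA, ec⟩ := ih (k :: A) hA' hcard p' hp0 hp2
      obtain ⟨l, hl⟩ := exists_sqrt (F := F) t⁻¹
      have hl0 : l ≠ 0 := fun e => inv_ne_zero ht (by rw [← hl, e]; simp)
      set H : ↥(D.group F) := ⟨Q.K.hU F k l, Q.K.wU_mem F fun p _ => Q.K.xU_mem_group F p.1 p.2⟩
      have hHk : H * Q.sys.x k t * H⁻¹ = Q.sys.x k 1 := by
        rw [hU_x hk.1 hk.1 hl0, h.self hk, zpow_two, ← pow_two, hl, inv_mul_cancel₀ ht]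
      have hHL : H * prodX Q L * H⁻¹ = prodX Q L := by
        rw [prodX, ← MulAut.conj_apply, map_list_prod, List.map_map]
        refine congrArg List.prod (List.map_congr_left fun r hr => ?_)
        show H * Q.sys.x r 1 * H⁻¹ = _
        rw [hU_x hk.1 (hL.2 r hr).1 hl0, hLA r hr k List.mem_cons_self, zpow_zero, one_mul]
      refine ⟨H * c * v, fun a ha s => ?_, k :: L,
        ⟨List.pairwise_cons.2 ⟨fun r hr => ⟨hLA r hr k List.mem_cons_self, by
            rw [h.symm hk (hL.2 r hr)]; exact hLA r hr k List.mem_cons_self⟩, hL.1⟩,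
          List.forall_mem_cons.2 ⟨hk, hL.2⟩⟩,
        List.forall_mem_cons.2 ⟨hkA, fun r hr a ha => hLA r hr a (List.mem_cons_of_mem _ ha)⟩, ?_⟩
      · refine ((?_ : Commute H _).mul_left (hc a (List.mem_cons_of_mem _ ha) s)).mul_left ?_
        · rw [Commute, SemiconjBy, ← mul_inv_eq_iff_eq_mul, hU_x hk.1 (hA a ha).1 hl0,
            show pb D k a = 0 by rw [h.symm (hA a ha) hk]; exact hkA a ha, zpow_zero, one_mul]
        · exact (commute_XS h (hA a ha) (fun r hr => by
            obtain ⟨h1, h2⟩ := mem_P.1 (Finset.mem_coe.1 hr)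
            exact ⟨h1, (h2 a ha).ge⟩) hv s).symm
      · rw [show H * c * v * (Q.sys.x k t * p) * (H * c * v)⁻¹ =
          H * (c * (v * (Q.sys.x k t * p) * v⁻¹) * c⁻¹) * H⁻¹ by group, e,
          show c * (Q.sys.x k t * p') * c⁻¹ = (c * Q.sys.x k t) * (p' * c⁻¹) by group,
          (hc k List.mem_cons_self t).eq,
          show Q.sys.x k t * c * (p' * c⁻¹) = Q.sys.x k t * (c * p' * c⁻¹) by group, ec,
          show H * (Q.sys.x k t * prodX Q L) * H⁻¹ =
            (H * Q.sys.x k t * H⁻¹) * (H * prodX Q L * H⁻¹) by group, hHk, hHL, prodX_cons]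

/-- An involution is conjugate to a product over pairwise orthogonal positive roots. -/
theorem exists_orth {g : ↥(D.group F)} (hg : g * g = 1) :
    ∃ c : ↥(D.group F), ∃ L, POrth D L ∧ c * g * c⁻¹ = prodX Q L := by
  haveI : Fact (Nat.Prime 2) := ⟨Nat.prime_two⟩
  obtain ⟨c, hc⟩ := H51.exists_conj_mem_U (p := 2) Q (g := g) (k := 1)
    (by rw [pow_one, pow_two, hg])
  obtain ⟨d, -, L, hL, -, e⟩ := exists_orth_aux h (Q.sys.P.filter (Orth D [])).card [] (by simp)
    le_rfl (c * g * c⁻¹) (XS_mono (fun r hr => Finset.mem_coe.2 (mem_P.2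
      ⟨mem_posSet.1 (Finset.mem_coe.1 hr), fun a ha => absurd ha List.not_mem_nil⟩)) hc)
    (by rw [show c * g * c⁻¹ * (c * g * c⁻¹) = c * (g * g) * c⁻¹ by group, hg, mul_one,
      mul_inv_cancel])
  exact ⟨d * c, L, hL, by rw [← e]; group⟩

end Cfsg.Agent.H56.Inv
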