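import Cfsg.Agent.H51.CentWord
import Cfsg.Agent.Orthogonal.Frame
import Cfsg.Agent.Chevalley.Torus

/-!
In a simply laced Chevalley group of characteristic two every involution of `U` is conjugate to a
product of root elements of pairwise orthogonal roots.
-/
set_option autoImplicit false
set_option maxRecDepth 100000

namespace Cfsg.Agent.H56.Inv

open Cfsg.Lie Cfsg.Agent.H37 Cfsg.Agent.H37.RootSys

variable {D : ChevalleyDatum}

/-- The pairing `⟨s, r^∨⟩`. -/
def pb (D : ChevalleyDatum) (r s : ℕ) : ℤ :=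
  ((List.range D.rank).map fun m => Chevalley.cor D r m * D.cartan m s).sum

theorem pb_eq (r s : ℕ) : Chevalley.pairingSum D r s = pb D r s := rfl

/-- A single commutator term with an odd coefficient. -/
def oneTerm (L : List (ℕ × ℤ × ℕ × ℕ)) (k : ℕ) : Bool :=
  (L == [(k, 1, 1, 1)]) || (L == [(k, -1, 1, 1)])

variable {F : Type*} [Field F]

/-- The facts about a pair of roots that are neither equal nor opposite. -/
def PairFact (Q : Chev.Data D F) (r s : ℕ) : Prop :=
  pb D s r = pb D r s ∧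
    ((pb D r s = 0 ∧ D.commTerms r s = []) ∨
      (pb D r s = 1 ∧ D.commTerms r s = [] ∧
        ∃ γ < D.nroots, ∀ i < D.rank, Q.K.cf s i = Q.K.cf r i + Q.K.cf γ i) ∨
      (pb D r s = -1 ∧ ∃ k < D.nroots, oneTerm (D.commTerms r s) k = true ∧
        ∀ i < D.rank, Q.K.cf k i = Q.K.cf r i + Q.K.cf s i))

/-- The facts of a simply laced root system. -/
structure SL (Q : Chev.Data D F) : Prop where
  self_eq : ∀ r < D.nroots, pb D r r = 2
  fact : ∀ r < D.nroots, ∀ s < D.nroots, s ≠ r → s ≠ D.neg r → PairFact Q r s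

/-- Positive root. -/
abbrev IsPos (D : ChevalleyDatum) (r : ℕ) : Prop := r < D.nroots ∧ D.nroots / 2 ≤ r

theorem pos_ne_neg (Q : Chev.Data D F) {r s : ℕ} (hr : IsPos D r) (hs : IsPos D s) :
    s ≠ D.neg r := by
  rw [Q.K.neg_eq r hr.1]
  have := Q.K.two_half
  have := hr.2
  have := hs.2
  omega

namespace SL

variable {Q : Chev.Data D F} (h : SL Q)
include h

theorem self {r : ℕ} (hr : IsPos D r) : pb D r r = 2 := h.self_eq r hr.1

theorem pair {r s : ℕ} (hr : IsPos D r) (hs : IsPos D s) (hne : s ≠ r) : PairFact Q r s :=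
  h.fact r hr.1 s hs.1 hne (pos_ne_neg Q hr hs)

theorem symm {r s : ℕ} (hr : IsPos D r) (hs : IsPos D s) : pb D s r = pb D r s := by
  by_cases hne : s = r
  · rw [hne]
  · exact (h.pair hr hs hne).1

theorem le_two {r s : ℕ} (hr : IsPos D r) (hs : IsPos D s) (hne : s ≠ r) :
    pb D r s = 0 ∨ pb D r s = 1 ∨ pb D r s = -1 := by
  rcases (h.pair hr hs hne).2 with ⟨e, -⟩ | ⟨e, -⟩ | ⟨e, -⟩
  · exact Or.inl e
  · exact Or.inr (Or.inl e)
  · exact Or.inr (Or.inr e)

end SL

variable [CharP F 2] {Q : Chev.Data D F}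

theorem oneTerm_rule {r s k : ℕ} (hr : r < D.nroots) (hs : s < D.nroots) (h1 : s ≠ r)
    (h2 : s ≠ D.neg r) (h : oneTerm (D.commTerms r s) k = true) (t u : F) :
    Q.sys.x s u * Q.sys.x r t = Q.sys.x r t * Q.sys.x s u * Q.sys.x k (t * u) := by
  simp only [oneTerm, Bool.or_eq_true, beq_iff_eq] at h
  rw [H51.CW.comm_list Q hr hs h1 h2]
  rcases h with e | e <;> rw [e] <;> simp [CharTwo.neg_eq]

omit [CharP F 2] in
theorem x_zero {r : ℕ} (hr : r < D.nroots) : Q.sys.x r (0 : F) = 1 := Q.sys.x_zero' hr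

/-- Elements of a single root subgroup. -/
theorem exists_of_mem_single {j : ℕ} (hj : j < D.nroots) {b : ↥(D.group F)}
    (hb : b ∈ XS Q.sys.x ({j} : Set ℕ)) : ∃ c, b = Q.sys.x j c := by
  induction hb using Subgroup.closure_induction with
  | mem g hg => obtain ⟨r, rfl, u, rfl⟩ := hg; exact ⟨u, rfl⟩
  | one => exact ⟨0, (x_zero hj).symm⟩
  | mul g g' _ _ ihg ihg' =>
      obtain ⟨u, rfl⟩ := ihg
      obtain ⟨u', rfl⟩ := ihg'
      exact ⟨u + u', (Q.sys.x_add' j hj u u').symm⟩
  | inv g _ ihg =>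
      obtain ⟨u, rfl⟩ := ihg
      exact ⟨u, inv_eq_of_mul_eq_one_right (by
        rw [← Q.sys.x_add' j hj, CharTwo.add_self_eq_zero, x_zero hj])⟩

omit [CharP F 2] in
theorem T_lin {r s k : ℕ} (hr : IsPos D r) (hs : IsPos D s) (hk : Q.sys.T r s k) :
    IsPos D k ∧ r < k ∧ s < k ∧ ∃ a b : ℕ, 0 < a ∧ 0 < b ∧
      (∀ z, pb D z k = a * pb D z r + b * pb D z s) ∧
      Q.K.code k = a * Q.K.code r + b * Q.K.code s := by
  obtain ⟨hkP, hrk, hsk⟩ := Q.sys.T_pos (Q.sys.P_eq ▸ mem_posSet.2 hr)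
    (Q.sys.P_eq ▸ mem_posSet.2 hs) hk
  rw [Q.sys.P_eq, mem_posSet] at hkP
  obtain ⟨hk1, a, b, ha, hb, e⟩ := (hk : Combo Q.K r s k)
  refine ⟨hkP, hrk, hsk, a, b, ha, hb, fun z => ?_, ?_⟩
  · simp only [pb, ← List.sum_map_mul_left, ← List.sum_map_add]
    refine congrArg List.sum (List.map_congr_left fun m hm => ?_)
    have hm' := List.mem_range.1 hm
    rw [Q.K.cartan_lin m hm' k hk1, Q.K.cartan_lin m hm' r hr.1, Q.K.cartan_lin m hm' s hs.1,
      ← List.sum_map_mul_left, ← List.sum_map_mul_left, ← List.sum_map_mul_left,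
      ← List.sum_map_mul_left, ← List.sum_map_mul_left, ← List.sum_map_add]
    refine congrArg List.sum (List.map_congr_left fun j hj => ?_)
    rw [e j (List.mem_range.1 hj)]
    ring
  · exact Q.K.code_lin hk1 hr.1 hs.1 (a := (a : ℤ)) (b := (b : ℤ)) e

omit [CharP F 2] in
theorem code_pos {r : ℕ} (hr : IsPos D r) : 0 < Q.K.code r := (Q.K.code_pos r hr.1).1.2 hr.2

omit [CharP F 2] in
theorem lt_of_code {r s : ℕ} (hr : r < D.nroots) (h : Q.K.code r < Q.K.code s) : r < s := by
  by_contra hc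
  rcases Nat.eq_or_lt_of_le (Nat.le_of_not_lt hc) with h' | h'
  · rw [h'] at h; exact lt_irrefl _ h
  · have := Q.K.code_mono h' hr; omega

omit [CharP F 2] in
theorem code_lt_of_lt {r s : ℕ} (h : r < s) (hs : s < D.nroots) : Q.K.code r < Q.K.code s :=
  Q.K.code_mono h hs

omit [CharP F 2] in
/-- Closed subsets cut out of `P`. -/
theorem closed_filter (p : ℕ → Prop) [DecidablePred p]
    (hp : ∀ r s k, IsPos D r → IsPos D s → p r → p s → Q.sys.T r s k → p k) :
    Q.sys.toUnip.Closed (Q.sys.P.filter p) := by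
  refine ⟨Finset.filter_subset _ _, fun r hr s hs _ k hk => ?_⟩
  obtain ⟨hr1, hr2⟩ := Finset.mem_filter.1 hr
  obtain ⟨hs1, hs2⟩ := Finset.mem_filter.1 hs
  refine Finset.mem_filter.2 ⟨(Q.sys.T_pos hr1 hs1 hk).1, ?_⟩
  rw [Q.sys.P_eq, mem_posSet] at hr1 hs1
  exact hp r s k hr1 hs1 hr2 hs2 hk

omit [CharP F 2] in
theorem mem_P {p : ℕ → Prop} [DecidablePred p] {r : ℕ} :
    r ∈ Q.sys.P.filter p ↔ IsPos D r ∧ p r := by
  rw [Finset.mem_filter, Q.sys.P_eq, mem_posSet]

/-- The roots orthogonal to the given ones. -/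
abbrev Orth (D : ChevalleyDatum) (A : List ℕ) (r : ℕ) : Prop := ∀ a ∈ A, pb D a r = 0

omit [CharP F 2] in
theorem orth_closed (A : List ℕ) : Q.sys.toUnip.Closed (Q.sys.P.filter (Orth D A)) :=
  closed_filter _ fun r s k hr hs h1 h2 hk a ha => by
    obtain ⟨-, -, -, m, n, -, -, e, -⟩ := T_lin hr hs hk
    rw [e a, h1 a ha, h2 a ha]; ring

variable (h : SL Q)
include h

omit [CharP F 2] in
theorem commute_of_nonneg {r s : ℕ} (hr : IsPos D r) (hs : IsPos D s) (hp : 0 ≤ pb D r s)
    (t u : F) : Commute (Q.sys.x r t) (Q.sys.x s u) := by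
  by_cases hne : s = r
  · subst hne
    rw [Commute, SemiconjBy, ← Q.sys.x_add' _ hs.1, ← Q.sys.x_add' _ hs.1, add_comm]
  · have key : D.commTerms r s = [] := by
      rcases (h.pair hr hs hne).2 with ⟨-, e⟩ | ⟨-, e, -⟩ | ⟨h1, -⟩
      · exact e
      · exact e
      · omega
    refine (show Commute (Q.sys.x s u) (Q.sys.x r t) from ?_).symm
    rw [Commute, SemiconjBy, H51.CW.comm_list Q hr.1 hs.1 hne (pos_ne_neg Q hr hs), key,
      List.map_nil, List.prod_nil, mul_one]

omit [CharP F 2] in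
theorem commute_XS {k : ℕ} (hk : IsPos D k) {S : Set ℕ}
    (hS : ∀ r ∈ S, IsPos D r ∧ 0 ≤ pb D k r) {g : ↥(D.group F)} (hg : g ∈ XS Q.sys.x S) (t : F) :
    Commute (Q.sys.x k t) g := by
  have hle : XS Q.sys.x S ≤ Subgroup.centralizer {Q.sys.x k t} := XS_le fun r hr u => by
    rw [Subgroup.mem_centralizer_singleton_iff]
    exact (commute_of_nonneg h hk (hS r hr).1 (hS r hr).2 t u).symm.eq
  exact (Subgroup.mem_centralizer_singleton_iff.1 (hle hg)).symm

/-- Removing the coordinates at the roots of pairing one with the lowest root. -/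
theorem clear_one (A : List ℕ) (hA : ∀ a ∈ A, IsPos D a) {k : ℕ} (hk : IsPos D k)
    (hkA : Orth D A k) {t : F} (ht : t ≠ 0) :
    ∀ n j, D.nroots ≤ j + n → ∀ p ∈ XS Q.sys.x (↑(Q.sys.P.filter fun r =>
      Orth D A r ∧ k < r ∧ (pb D k r ≤ 0 ∨ j ≤ r)) : Set ℕ),
      ∃ v ∈ XS Q.sys.x (↑(Q.sys.P.filter (Orth D A)) : Set ℕ),
        ∃ p' ∈ XS Q.sys.x (↑(Q.sys.P.filter fun r =>
          Orth D A r ∧ k < r ∧ pb D k r ≤ 0) : Set ℕ),
          v * (Q.sys.x k t * p) * v⁻¹ = Q.sys.x k t * p' := by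
  intro n
  induction n with
  | zero =>
      intro j hj p hp
      refine ⟨1, one_mem _, p, XS_mono ?_ hp, by group⟩
      intro r hr
      obtain ⟨h1, h2, h3, h4⟩ := mem_P.1 (Finset.mem_coe.1 hr)
      exact Finset.mem_coe.2 (mem_P.2 ⟨h1, h2, h3, h4.resolve_right (by have := h1.1; omega)⟩)
  | succ n ih =>
      intro j hj p hp
      by_cases hc : IsPos D j ∧ Orth D A j ∧ k < j ∧ pb D k j = 1
      swap
      · refine ih (j + 1) (by omega) p (XS_mono ?_ hp)
        intro r hr
        obtain ⟨h1, h2, h3, h4⟩ := mem_P.1 (Finset.mem_coe.1 hr)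
        refine Finset.mem_coe.2 (mem_P.2 ⟨h1, h2, h3, ?_⟩)
        rcases h4 with h4 | h4
        · exact Or.inl h4
        rcases Nat.eq_or_lt_of_le h4 with h5 | h5
        · subst h5
          rcases h.le_two hk h1 (by omega) with e | e | e
          · exact Or.inl (by omega)
          · exact absurd ⟨h1, h2, h3, e⟩ hc
          · exact Or.inl (by omega)
        · exact Or.inr h5
      obtain ⟨hj1, hj2, hj3, hj4⟩ := hc
      have hclosed : ∀ i, Q.sys.toUnip.Closed (Q.sys.P.filter fun r =>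
          Orth D A r ∧ k < r ∧ (pb D k r ≤ 0 ∨ i ≤ r)) := fun i =>
        closed_filter _ fun r s m hr hs ⟨o1, l1, p1⟩ ⟨o2, l2, p2⟩ hm => by
          obtain ⟨-, hrm, hsm, a, b, ha, hb, e, -⟩ := T_lin hr hs hm
          refine ⟨fun z hz => by rw [e z, o1 z hz, o2 z hz]; ring, by omega, ?_⟩
          rcases p1 with p1 | p1
          · rcases p2 with p2 | p2
            · refine Or.inl ?_
              rw [e k]
              have := mul_nonpos_of_nonneg_of_nonpos (Int.natCast_nonneg a) p1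
              have := mul_nonpos_of_nonneg_of_nonpos (Int.natCast_nonneg b) p2
              omega
            · exact Or.inr (by omega)
          · exact Or.inr (by omega)
      obtain ⟨a, ha, b, hb, rfl⟩ := Q.sys.toUnip.exists_split (hclosed j)
        (↑(Q.sys.P.filter fun r => Orth D A r ∧ k < r ∧ (pb D k r ≤ 0 ∨ j + 1 ≤ r)) : Set ℕ) {j}
        (fun r hr => by
          obtain ⟨h1, h2, h3, h4⟩ := mem_P.1 hr
          by_cases hrj : r = j
          · exact Or.inr hrj
          · exact Or.inl (Finset.mem_coe.2 (mem_P.2 ⟨h1, h2, h3, h4.imp id fun _ => by omega⟩)))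
        hp
      obtain ⟨c, rfl⟩ := exists_of_mem_single (Q := Q) hj1.1 hb
      -- the root to use
      obtain ⟨γ, he1, hcf⟩ : ∃ γ, γ < D.nroots ∧
          ∀ i < D.rank, Q.K.cf j i = Q.K.cf k i + Q.K.cf γ i := by
        rcases (h.pair hk hj1 (by omega)).2 with ⟨e, -⟩ | ⟨-, -, γ, h1, h2⟩ | ⟨e, -⟩
        · omega
        · exact ⟨γ, h1, h2⟩
        · omega
      have hcode : Q.K.code j = Q.K.code k + Q.K.code γ := by
        have := Q.K.code_lin hj1.1 hk.1 he1 (a := 1) (b := 1)
          (fun i hi => by rw [hcf i hi]; ring)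
        rw [this]; ring
      have hlin : ∀ z, pb D z j = pb D z k + pb D z γ := by
        intro z
        simp only [pb, ← List.sum_map_add]
        refine congrArg List.sum (List.map_congr_left fun m hm => ?_)
        have hm' := List.mem_range.1 hm
        rw [Q.K.cartan_lin m hm' j hj1.1, Q.K.cartan_lin m hm' k hk.1,
          Q.K.cartan_lin m hm' γ he1, ← List.sum_map_mul_left, ← List.sum_map_mul_left,
          ← List.sum_map_mul_left, ← List.sum_map_add]
        refine congrArg List.sum (List.map_congr_left fun i hi => ?_)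
        rw [hcf i (List.mem_range.1 hi)]; ring
      have he2 : D.nroots / 2 ≤ γ := by
        refine (Q.K.code_pos γ he1).1.1 ?_
        have := code_lt_of_lt (Q := Q) hj3 hj1.1
        omega
      have hγ : IsPos D γ := ⟨he1, he2⟩
      have he3 : γ ≠ k := fun e => by
        have := hlin k
        rw [e, hj4, h.self hk] at this
        omega
      have he4 : γ ≠ D.neg k := pos_ne_neg Q hk hγ
      have he5 : oneTerm (D.commTerms k γ) j = true := by
        have e0 := hlin k
        rw [hj4, h.self hk] at e0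
        rcases (h.pair hk hγ he3).2 with ⟨e, -⟩ | ⟨e, -⟩ | ⟨-, m, hm1, hm2, hm3⟩
        · omega
        · omega
        · rwa [← Q.K.eq_of_cf hm1 hj1.1 fun i hi => by rw [hm3 i hi, hcf i hi]]
      have hγA : Orth D A γ := fun z hz => by
        have := hlin z
        rw [hkA z hz, hj2 z hz] at this
        omega
      have hγj' : 0 ≤ pb D γ j := by
        rw [hlin γ, h.self hγ, h.symm hk hγ]
        have := hlin k
        rw [hj4, h.self hk] at this
        omega
      -- conjugation preserves the tail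
      set T' : Set ℕ := ↑(Q.sys.P.filter fun r =>
        Orth D A r ∧ k < r ∧ (pb D k r ≤ 0 ∨ j + 1 ≤ r)) with hT'
      have hconj : ∀ i : ℕ, IsPos D i → Orth D A i →
          (∀ r, r ∈ T' → ∀ m, Q.sys.T i r m → j + 1 ≤ m) → ∀ (s : F), ∀ g ∈ XS Q.sys.x T',
          Q.sys.x i s * g * (Q.sys.x i s)⁻¹ ∈ XS Q.sys.x T' := by
        intro i hi hiA hsum s g hg
        refine conj_mem_XS (fun r hr u => ?_) hg
        obtain ⟨h1, h2, h3, h4⟩ := mem_P.1 (Finset.mem_coe.1 hr)
        by_cases hri : i = r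
        · subst hri
          rw [show Q.sys.x i s * Q.sys.x i u * (Q.sys.x i s)⁻¹ = Q.sys.x i u by
            rw [← Q.sys.x_add' i hi.1, add_comm, Q.sys.x_add' i hi.1, mul_inv_cancel_right]]
          exact x_mem_XS hr u
        · rw [show Q.sys.x i s * Q.sys.x r u * (Q.sys.x i s)⁻¹ = Q.sys.x i s * Q.sys.x r u *
            (Q.sys.x i s)⁻¹ * (Q.sys.x r u)⁻¹ * Q.sys.x r u by group]
          refine mul_mem (XS_mono ?_ (Q.sys.comm (Q.sys.P_eq ▸ mem_posSet.2 hi)
            (Q.sys.P_eq ▸ mem_posSet.2 h1) hri s u)) (x_mem_XS hr u)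
          intro m hm
          obtain ⟨hm1, -, hrm, a, b, -, -, el, -⟩ := T_lin hi h1 hm
          exact Finset.mem_coe.2 (mem_P.2 ⟨hm1, fun z hz => by rw [el z, hiA z hz, h2 z hz]; ring,
            by omega, Or.inr (hsum r hr m hm)⟩)
      have hconjγ := hconj γ hγ hγA fun r hr m hm => by
        obtain ⟨h1, -, h3, -⟩ := mem_P.1 (Finset.mem_coe.1 hr)
        obtain ⟨hm1, -, -, a, b, ha, hb, -, ec⟩ := T_lin hγ h1 hm
        have h5 := code_pos (Q := Q) hγ
        have h6 := code_pos (Q := Q) h1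
        have h7 := code_lt_of_lt (Q := Q) h3 h1.1
        have : Q.K.code j < Q.K.code m := by
          rw [ec, hcode]
          have := le_mul_of_one_le_left h5.le (show (1 : ℤ) ≤ a by omega)
          have := le_mul_of_one_le_left h6.le (show (1 : ℤ) ≤ b by omega)
          omega
        have := lt_of_code hj1.1 this
        omega
      have hconjj := hconj j hj1 hj2 fun r hr m hm => by
        have := (T_lin hj1 (mem_P.1 (Finset.mem_coe.1 hr)).1 hm).2.1
        omega
      set s := c / t with hs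
      have hts : t * s = c := by rw [hs, mul_div_cancel₀ _ ht]
      have hga := hconjγ s a ha
      set a1 := Q.sys.x γ s * a * (Q.sys.x γ s)⁻¹ with ha1
      have ha2 := hconjj c a1 hga
      set a2 := Q.sys.x j c * a1 * (Q.sys.x j c)⁻¹ with ha2'
      obtain ⟨v, hv, p', hp', e'⟩ := ih (j + 1) (by omega) a2 ha2
      refine ⟨v * Q.sys.x γ s, mul_mem hv (x_mem_XS (Finset.mem_coe.2 (mem_P.2 ⟨hγ, hγA⟩)) s),
        p', hp', ?_⟩
      rw [← e']
      have hrule : Q.sys.x γ s * Q.sys.x k t = Q.sys.x k t * Q.sys.x γ s * Q.sys.x j c := by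
        rw [oneTerm_rule (Q := Q) hk.1 he1 he3 he4 he5, hts]
      have hcomm := commute_of_nonneg h hγ hj1 hγj' s c
      have key : Q.sys.x γ s * (Q.sys.x k t * (a * Q.sys.x j c)) * (Q.sys.x γ s)⁻¹ =
          Q.sys.x k t * a2 := by
        calc Q.sys.x γ s * (Q.sys.x k t * (a * Q.sys.x j c)) * (Q.sys.x γ s)⁻¹
            = (Q.sys.x γ s * Q.sys.x k t) * a * (Q.sys.x j c * (Q.sys.x γ s)⁻¹) := by group
          _ = Q.sys.x k t * (Q.sys.x γ s * Q.sys.x j c) * a *
                ((Q.sys.x γ s)⁻¹ * Q.sys.x j c) := by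
              rw [hrule, hcomm.inv_left.eq]; group
          _ = Q.sys.x k t * (Q.sys.x j c * a1) * Q.sys.x j c := by
              rw [hcomm.eq, ha1]; group
          _ = Q.sys.x k t * a2 * (Q.sys.x j c * Q.sys.x j c) := by rw [ha2']; group
          _ = _ := by
              rw [← Q.sys.x_add' j hj1.1, CharTwo.add_self_eq_zero, x_zero hj1.1, mul_one]
      rw [← key]
      group

/-- The involution condition removes the coordinates at the roots of negative pairing. -/
theorem clear_neg (A : List ℕ) (hA : ∀ a ∈ A, IsPos D a) {k : ℕ} (hk : IsPos D k)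
    (hkA : Orth D A k) {t : F} (ht : t ≠ 0) {p : ↥(D.group F)}
    (hp : p ∈ XS Q.sys.x (↑(Q.sys.P.filter fun r =>
      Orth D A r ∧ k < r ∧ pb D k r ≤ 0) : Set ℕ))
    (hsq : Q.sys.x k t * p * (Q.sys.x k t * p) = 1) :
    p ∈ XS Q.sys.x (↑(Q.sys.P.filter fun r => Orth D (k :: A) r) : Set ℕ) := by
  suffices ∀ n j, D.nroots ≤ j + n → p ∈ XS Q.sys.x (↑(Q.sys.P.filter fun r =>
      Orth D A r ∧ k < r ∧ (pb D k r = 0 ∨ (pb D k r < 0 ∧ j ≤ r))) : Set ℕ) →
      p ∈ XS Q.sys.x (↑(Q.sys.P.filter fun r =>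
        Orth D A r ∧ k < r ∧ pb D k r = 0) : Set ℕ) by
    refine XS_mono ?_ (this D.nroots 0 (by omega) (XS_mono ?_ hp))
    · intro r hr
      obtain ⟨h1, h2, -, h4⟩ := mem_P.1 (Finset.mem_coe.1 hr)
      exact Finset.mem_coe.2 (mem_P.2 ⟨h1, fun z hz => (List.mem_cons.1 hz).elim
        (fun e => e ▸ h4) (h2 z)⟩)
    · intro r hr
      obtain ⟨h1, h2, h3, h4⟩ := mem_P.1 (Finset.mem_coe.1 hr)
      exact Finset.mem_coe.2 (mem_P.2 ⟨h1, h2, h3,
        (lt_or_eq_of_le h4).symm.imp id fun e => ⟨e, Nat.zero_le r⟩⟩)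
  intro n
  induction n with
  | zero =>
      intro j hj hp
      refine XS_mono ?_ hp
      intro r hr
      obtain ⟨h1, h2, h3, h4⟩ := mem_P.1 (Finset.mem_coe.1 hr)
      exact Finset.mem_coe.2 (mem_P.2 ⟨h1, h2, h3,
        h4.resolve_right fun ⟨_, h5⟩ => by have := h1.1; omega⟩)
  | succ n ih =>
      intro j hj hp
      refine ih (j + 1) (by omega) ?_
      by_cases hc : IsPos D j ∧ Orth D A j ∧ k < j ∧ pb D k j < 0
      swap
      · refine XS_mono ?_ hp
        intro r hr
        obtain ⟨h1, h2, h3, h4⟩ := mem_P.1 (Finset.mem_coe.1 hr)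
        refine Finset.mem_coe.2 (mem_P.2 ⟨h1, h2, h3, h4.imp id fun ⟨h5, h6⟩ => ⟨h5, ?_⟩⟩)
        rcases Nat.eq_or_lt_of_le h6 with h7 | h7
        · subst h7; exact absurd ⟨h1, h2, h3, h5⟩ hc
        · exact h7
      obtain ⟨hj1, hj2, hj3, hj4⟩ := hc
      have hclosed : Q.sys.toUnip.Closed (Q.sys.P.filter fun r =>
          Orth D A r ∧ k < r ∧ (pb D k r = 0 ∨ (pb D k r < 0 ∧ j ≤ r))) :=
        closed_filter _ fun r s m hr hs ⟨o1, l1, p1⟩ ⟨o2, l2, p2⟩ hm => by
          obtain ⟨-, hrm, hsm, a, b, ha, hb, e, -⟩ := T_lin hr hs hm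
          refine ⟨fun z hz => by rw [e z, o1 z hz, o2 z hz]; ring, by omega, ?_⟩
          have ha' : (0 : ℤ) < a := by omega
          have hb' : (0 : ℤ) < b := by omega
          rw [e k]
          rcases p1 with p1 | ⟨p1, p1'⟩ <;> rcases p2 with p2 | ⟨p2, p2'⟩
          · rw [p1, p2]; exact Or.inl (by ring)
          · rw [p1]; exact Or.inr ⟨by nlinarith, by omega⟩
          · rw [p2]; exact Or.inr ⟨by nlinarith, by omega⟩
          · exact Or.inr ⟨by nlinarith, by omega⟩
      obtain ⟨a, ha, b, hb, rfl⟩ := Q.sys.toUnip.exists_split hclosed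
        (↑(Q.sys.P.filter fun r =>
          Orth D A r ∧ k < r ∧ (pb D k r = 0 ∨ (pb D k r < 0 ∧ j + 1 ≤ r))) : Set ℕ) {j}
        (fun r hr => by
          obtain ⟨h1, h2, h3, h4⟩ := mem_P.1 hr
          by_cases hrj : r = j
          · exact Or.inr hrj
          · exact Or.inl (Finset.mem_coe.2 (mem_P.2
              ⟨h1, h2, h3, h4.imp id fun ⟨h5, _⟩ => ⟨h5, by omega⟩⟩)))
        hp
      obtain ⟨c, rfl⟩ := exists_of_mem_single (Q := Q) hj1.1 hb
      suffices c = 0 by
        rw [this, x_zero hj1.1, mul_one]; exact ha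
      obtain ⟨m, hm0, hm2, hcf⟩ : ∃ m, m < D.nroots ∧ oneTerm (D.commTerms k j) m = true ∧
          ∀ i < D.rank, Q.K.cf m i = Q.K.cf k i + Q.K.cf j i := by
        rcases (h.pair hk hj1 (by omega)).2 with ⟨e, -⟩ | ⟨e, -⟩ | ⟨-, m, h1, h2, h3⟩
        · omega
        · omega
        · exact ⟨m, h1, h2, h3⟩
      have hcode : Q.K.code m = Q.K.code k + Q.K.code j := by
        have := Q.K.code_lin hm0 hk.1 hj1.1 (a := 1) (b := 1)
          (fun i hi => by rw [hcf i hi]; ring)
        rw [this]; ring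
      have hm1 : D.nroots / 2 ≤ m := by
        refine (Q.K.code_pos m hm0).1.1 ?_
        have := code_pos (Q := Q) hk
        have := code_pos (Q := Q) hj1
        omega
      have hm : IsPos D m := ⟨hm0, hm1⟩
      have hjm : j < m := lt_of_code (Q := Q) hj1.1 (by
        have := code_pos (Q := Q) hk
        omega)
      have hm3 : pb D k m = 1 := by
        have e1 : pb D k m = pb D k k + pb D k j := by
          simp only [pb, ← List.sum_map_add]
          refine congrArg List.sum (List.map_congr_left fun z hz => ?_)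
          have hz' := List.mem_range.1 hz
          rw [Q.K.cartan_lin z hz' m hm0, Q.K.cartan_lin z hz' k hk.1, Q.K.cartan_lin z hz' j hj1.1,
            ← List.sum_map_mul_left, ← List.sum_map_mul_left,
            ← List.sum_map_mul_left, ← List.sum_map_add]
          refine congrArg List.sum (List.map_congr_left fun i hi => ?_)
          rw [hcf i (List.mem_range.1 hi)]; ring
        rcases h.le_two hk hj1 (by omega) with e | e | e <;>
          rw [e1, h.self hk, e] <;> omega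
      -- a closed set avoiding `m`
      set V := Q.sys.P.filter fun r =>
        (k < r ∧ (pb D k r = 0 ∨ (pb D k r < 0 ∧ j ≤ r))) ∨ m < r with hVdef
      have hV : Q.sys.toUnip.Closed V :=
        closed_filter _ fun r s i hr hs p1 p2 hi => by
          obtain ⟨-, hri, hsi, a, b, ha, hb, e, -⟩ := T_lin hr hs hi
          rcases p1 with ⟨l1, p1⟩ | p1
          swap
          · exact Or.inr (by omega)
          rcases p2 with ⟨l2, p2⟩ | p2
          swap
          · exact Or.inr (by omega)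
          refine Or.inl ⟨by omega, ?_⟩
          have ha' : (0 : ℤ) < a := by omega
          have hb' : (0 : ℤ) < b := by omega
          rw [e k]
          rcases p1 with p1 | ⟨p1, p1'⟩ <;> rcases p2 with p2 | ⟨p2, p2'⟩
          · rw [p1, p2]; exact Or.inl (by ring)
          · rw [p1]; exact Or.inr ⟨by nlinarith, by omega⟩
          · rw [p2]; exact Or.inr ⟨by nlinarith, by omega⟩
          · exact Or.inr ⟨by nlinarith, by omega⟩
      have hmV : m ∉ V := fun hm' => by
        obtain ⟨-, h5 | h5⟩ := mem_P.1 hm'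
        · omega
        · omega
      have hpV : a * Q.sys.x j c ∈ XS Q.sys.x (↑V : Set ℕ) := by
        refine XS_mono ?_ hp
        intro r hr
        obtain ⟨h1, -, h3, h4⟩ := mem_P.1 (Finset.mem_coe.1 hr)
        exact Finset.mem_coe.2 (mem_P.2 ⟨h1, Or.inl ⟨h3, h4⟩⟩)
      have hconja : Q.sys.x k t * a * (Q.sys.x k t)⁻¹ ∈ XS Q.sys.x (↑V : Set ℕ) := by
        refine conj_mem_XS (fun r hr u => ?_) ha
        obtain ⟨h1, -, h3, h4⟩ := mem_P.1 (Finset.mem_coe.1 hr)
        rcases h4 with h4 | ⟨h4, h5⟩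
        · rw [(commute_of_nonneg h hk h1 (by omega) t u).eq, mul_inv_cancel_right]
          exact x_mem_XS (Finset.mem_coe.2 (mem_P.2 ⟨h1, Or.inl ⟨h3, Or.inl h4⟩⟩)) u
        · rw [show Q.sys.x k t * Q.sys.x r u * (Q.sys.x k t)⁻¹ = Q.sys.x k t * Q.sys.x r u *
            (Q.sys.x k t)⁻¹ * (Q.sys.x r u)⁻¹ * Q.sys.x r u by group]
          refine mul_mem (XS_mono ?_ (Q.sys.comm (Q.sys.P_eq ▸ mem_posSet.2 hk)
            (Q.sys.P_eq ▸ mem_posSet.2 h1) (by omega) t u))
            (x_mem_XS (Finset.mem_coe.2 (mem_P.2 ⟨h1, Or.inl ⟨h3, Or.inr ⟨h4, by omega⟩⟩⟩)) u)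
          intro i hi
          obtain ⟨hi1, -, -, a', b', ha', hb', -, ec⟩ := T_lin hk h1 hi
          refine Finset.mem_coe.2 (mem_P.2 ⟨hi1, Or.inr (lt_of_code (Q := Q) hm.1 ?_)⟩)
          have h7 := code_lt_of_lt (Q := Q) (show j < r by omega) h1.1
          have := le_mul_of_one_le_left (code_pos (Q := Q) hk).le (show (1 : ℤ) ≤ a' by omega)
          have := le_mul_of_one_le_left (code_pos (Q := Q) h1).le (show (1 : ℤ) ≤ b' by omega)
          omega
      have hxx : Q.sys.x k t * Q.sys.x k t = 1 := by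
        rw [← Q.sys.x_add' k hk.1, CharTwo.add_self_eq_zero, x_zero hk.1]
      have hinv : (Q.sys.x k t)⁻¹ = Q.sys.x k t := inv_eq_of_mul_eq_one_right hxx
      have hconj : Q.sys.x k t * (a * Q.sys.x j c) * (Q.sys.x k t)⁻¹ = (a * Q.sys.x j c)⁻¹ := by
        rw [eq_inv_iff_mul_eq_one, hinv, mul_assoc _ (Q.sys.x k t) (a * Q.sys.x j c)]
        exact hsq
      have hrule : Q.sys.x k t * Q.sys.x j c * (Q.sys.x k t)⁻¹ =
          Q.sys.x j c * Q.sys.x m (t * c) := by
        have := oneTerm_rule (Q := Q) hk.1 hj1.1 (by omega) (pos_ne_neg Q hk hj1) hm2 t c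
        rw [hinv]
        calc Q.sys.x k t * Q.sys.x j c * Q.sys.x k t
            = Q.sys.x k t * (Q.sys.x j c * Q.sys.x k t) := by group
          _ = Q.sys.x k t * Q.sys.x k t * (Q.sys.x j c * Q.sys.x m (t * c)) := by
              rw [this]; group
          _ = _ := by rw [hxx, one_mul]
      have hmem : Q.sys.x m (t * c) ∈ XS Q.sys.x (↑V : Set ℕ) := by
        have e : Q.sys.x m (t * c) = (Q.sys.x j c)⁻¹ *
            (Q.sys.x k t * a * (Q.sys.x k t)⁻¹)⁻¹ * (a * Q.sys.x j c)⁻¹ := by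
          rw [← hconj]
          rw [show Q.sys.x k t * (a * Q.sys.x j c) * (Q.sys.x k t)⁻¹ =
            (Q.sys.x k t * a * (Q.sys.x k t)⁻¹) *
              (Q.sys.x k t * Q.sys.x j c * (Q.sys.x k t)⁻¹) by group, hrule]
          group
        rw [e]
        refine mul_mem (mul_mem (inv_mem (x_mem_XS (Finset.mem_coe.2 (mem_P.2
          ⟨hj1, Or.inl ⟨hj3, Or.inr ⟨hj4, le_rfl⟩⟩⟩)) c)) (inv_mem hconja)) (inv_mem hpV)
      exact (mul_eq_zero.1 (H51.CW.eq_zero_of_mem Q hV hm.1 hm.2 hmV hmem)).resolve_left ht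

end Cfsg.Agent.H56.Inv
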