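import Cfsg.Agent.H56.Inv.GenBase

/-!
Fixed elements of a graph times field endomorphism of order two, in characteristic two: orbit
elements, symbolic conjugation, and splitting along an orbit.
-/
set_option autoImplicit false
set_option maxRecDepth 100000

namespace Cfsg.Agent.H56.Inv.Tw

open Cfsg.Lie Cfsg.Agent.H37 Cfsg.Agent.H37.RootSys Cfsg.Agent.H56.Inv Cfsg.Agent.H56.Inv.Gen

/-- An orbit, by its two roots, equal for a fixed root. -/
abbrev Orb := ℕ × ℕ

/-- The roots of an orbit. -/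
def rts (o : Orb) : List ℕ := if o.1 = o.2 then [o.1] else [o.1, o.2]

/-- A root with a monomial in the variables. -/
abbrev Trm := ℕ × List ℕ

variable {D : ChevalleyDatum}

/-- The check of an orbit. -/
def orbB (D : ChevalleyDatum) (ρ : ℕ → ℕ) (o : Orb) : Bool :=
  decide (o.1 < D.nroots) && decide (o.2 < D.nroots) && (ρ o.1 == o.2) && (ρ o.2 == o.1) &&
    ((o.1 == o.2) || commB D o.1 [o.2])

/-- Symbolic conjugation by one root element with variable `v`. -/
def expand (D : ChevalleyDatum) (g v : ℕ) (L : List Trm) : List Trm :=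
  L.flatMap fun p => p :: (oddT D g p.1).map fun c => (c.1, v :: p.2)

/-- The side conditions of `expand`. -/
def expOk (D : ChevalleyDatum) (g : ℕ) (L : List Trm) : Bool :=
  L.all fun p => decide (p.1 < D.nroots) &&
    ((p.1 == g && (oddT D g g).isEmpty) ||
      (decide (p.1 ≠ D.neg g) && decide (p.1 ≠ g) &&
        (oddT D g p.1).all fun c => c.2.1 == 1 && c.2.2 == 1))

/-- Successive symbolic conjugation. -/
def expG (D : ChevalleyDatum) : List (ℕ × ℕ) → List Trm → List Trm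
  | [], L => L
  | (g, v) :: G, L => expG D G (expand D g v L)

/-- The side conditions of `expG`. -/
def expGOk (D : ChevalleyDatum) : List (ℕ × ℕ) → List Trm → Bool
  | [], _ => true
  | (g, v) :: G, L => expOk D g L && expGOk D G (expand D g v L)

/-- The roots of an orbit with their variables. -/
def gvars (o : Orb) (v : ℕ) : List (ℕ × ℕ) :=
  if o.1 = o.2 then [(o.1, v)] else [(o.1, v), (o.2, v + 1)]

/-- The rest after conjugating an orbit element `K` by one of `G`. -/
def pull (D : ChevalleyDatum) (G K : Orb) : List Trm :=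
  if K.1 = K.2 then (expG D (gvars G 0) [(K.1, [2])]).tail
  else expand D K.2 3 (expG D (gvars G 0) [(K.1, [2])]).tail ++
    (expG D (gvars G 0) [(K.2, [3])]).tail

/-- The side conditions of `pull`. -/
def pullOk (D : ChevalleyDatum) (G K : Orb) : Bool :=
  expGOk D (gvars G 0) [(K.1, [2])] && decide (K.2 < D.nroots) &&
    ((K.1 == K.2) || (expGOk D (gvars G 0) [(K.2, [3])] &&
      expOk D K.2 (expG D (gvars G 0) [(K.1, [2])]).tail))

/-- A list carried successively by the roots of `G` into `W`. -/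
def seqB (D : ChevalleyDatum) : List ℕ → List ℕ → List ℕ → Bool
  | [], S, W => S.all fun r => W.contains r
  | g :: G, S, W => normB D g S (S ++ S.flatMap fun s => (oddT D g s).map (·.1)) &&
      seqB D G (S ++ S.flatMap fun s => (oddT D g s).map (·.1)) W

/-- The check that `S` splits along the orbit `o`. -/
def splitB (D : ChevalleyDatum) (ρ : ℕ → ℕ) (cmb : List (List (List ℕ))) (S : List ℕ) (o : Orb) :
    Bool :=
  orbB D ρ o && S.contains o.1 && S.contains o.2 && closedX D cmb S &&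
  closedX D cmb (S.filter (· != o.1)) && closedX D cmb (S.filter (· != o.2)) &&
  normB D o.1 (S.filter (· != o.1)) (S.filter (· != o.1)) &&
  normB D o.1 ((S.filter (· != o.1)).filter (· != o.2)) ((S.filter (· != o.1)).filter (· != o.2)) &&
  normB D o.2 ((S.filter (· != o.1)).filter (· != o.2)) ((S.filter (· != o.1)).filter (· != o.2)) &&
  ((S.filter (· != o.1)).all fun r => (S.filter (· != o.2)).contains (ρ r))

variable {F : Type*} [Field F]

/-- The endomorphism. -/
structure TwData (Q : Chev.Data D F) where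
  ρ : ℕ → ℕ
  φ : F →+* F
  σ : ↥(D.group F) →* ↥(D.group F)
  σ_x : ∀ r, r < D.nroots → ∀ t, σ (Q.sys.x r t) = Q.sys.x (ρ r) (φ t)
  φ_inv : ∀ t, φ (φ t) = t
  μ : F
  μ_spec : μ + φ μ = 1

variable {Q : Chev.Data D F} (E : TwData Q)

namespace TwData

/-- A parameter allowed at an orbit. -/
def PFix (o : Orb) (t : F) : Prop := o.1 = o.2 → E.φ t = t

/-- The orbit element. -/
def el (o : Orb) (t : F) : ↥(D.group F) :=
  if o.1 = o.2 then Q.sys.x o.1 t else Q.sys.x o.1 t * Q.sys.x o.2 (E.φ t)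

/-- The value of a monomial. -/
def mval (v : ℕ → F) (m : List ℕ) : F := (m.map v).prod

variable (Q) in
/-- The value of a symbolic list. -/
def eval (v : ℕ → F) (L : List Trm) : ↥(D.group F) :=
  (L.map fun p => Q.sys.x p.1 ((p.2.map v).prod)).prod

/-- The four variables. -/
def vals (s t : F) : ℕ → F
  | 0 => s
  | 1 => E.φ s
  | 2 => t
  | _ => E.φ t

theorem σ_LS {S S' : List ℕ} (hS : ∀ r ∈ S, r < D.nroots ∧ E.ρ r ∈ S') {g : ↥(D.group F)}
    (hg : g ∈ LS Q S) : E.σ g ∈ LS Q S' := by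
  have : LS Q S ≤ (LS Q S').comap E.σ := XS_le fun r hr t => by
    obtain ⟨h1, h2⟩ := hS r (mem_coe_list.1 hr)
    show E.σ (Q.sys.x r t) ∈ LS Q S'
    rw [E.σ_x r h1]
    exact x_mem_LS Q h2 _
  exact this hg

theorem eval_mem (v : ℕ → F) {L : List Trm} {W : List ℕ} (h : ∀ p ∈ L, p.1 ∈ W) :
    eval Q v L ∈ LS Q W := by
  refine Subgroup.list_prod_mem _ fun y hy => ?_
  obtain ⟨p, hp, rfl⟩ := List.mem_map.1 hy
  exact x_mem_LS Q (h p hp) _

theorem eval_append (v : ℕ → F) (L L' : List Trm) :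
    eval Q v (L ++ L') = eval Q v L * eval Q v L' := by simp [eval]

theorem eval_cons (v : ℕ → F) (p : Trm) (L : List Trm) :
    eval Q v (p :: L) = Q.sys.x p.1 ((p.2.map v).prod) * eval Q v L := by simp [eval]

theorem eval_nil (v : ℕ → F) : eval Q v ([] : List Trm) = 1 := by simp [eval]

end TwData

variable {ρ : ℕ → ℕ} [CharP F 2]

open TwData

theorem orbB_spec {o : Orb} (h : orbB D E.ρ o = true) :
    o.1 < D.nroots ∧ o.2 < D.nroots ∧ E.ρ o.1 = o.2 ∧ E.ρ o.2 = o.1 ∧
      ∀ t u : F, Commute (Q.sys.x o.1 t) (Q.sys.x o.2 u) := by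
  simp only [orbB, Bool.and_eq_true, decide_eq_true_eq, Bool.or_eq_true, beq_iff_eq] at h
  obtain ⟨⟨⟨⟨h1, h2⟩, h3⟩, h4⟩, h5⟩ := h
  refine ⟨h1, h2, h3, h4, fun t u => ?_⟩
  rcases h5 with h5 | h5
  · rw [← h5, Commute, SemiconjBy, ← Q.sys.x_add' _ h1, ← Q.sys.x_add' _ h1, add_comm]
  · exact comm_of_commB Q h1 (by simpa using h2) h5 List.mem_cons_self t u

theorem mem_rts {o : Orb} {r : ℕ} : r ∈ rts o ↔ r = o.1 ∨ r = o.2 := by
  unfold rts; split <;> simp_all

theorem rts_lt {o : Orb} (h : orbB D E.ρ o = true) : ∀ r ∈ rts o, r < D.nroots := by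
  obtain ⟨h1, h2, -⟩ := orbB_spec E h
  intro r hr
  rcases mem_rts.1 hr with e | e <;> rw [e] <;> assumption

theorem el_mem {o : Orb} {S : List ℕ} (hS : ∀ r ∈ rts o, r ∈ S) (t : F) : E.el o t ∈ LS Q S := by
  unfold TwData.el
  split
  · exact x_mem_LS Q (hS _ (mem_rts.2 (Or.inl rfl))) _
  · exact mul_mem (x_mem_LS Q (hS _ (mem_rts.2 (Or.inl rfl))) _)
      (x_mem_LS Q (hS _ (mem_rts.2 (Or.inr rfl))) _)

theorem el_zero {o : Orb} (h : orbB D E.ρ o = true) : E.el o 0 = 1 := by
  obtain ⟨h1, h2, -⟩ := orbB_spec E h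
  unfold TwData.el
  split <;> simp [x_zero h1, x_zero h2]

theorem el_fixed {o : Orb} (h : orbB D E.ρ o = true) {t : F} (ht : E.PFix o t) :
    E.σ (E.el o t) = E.el o t := by
  obtain ⟨h1, h2, h3, h4, hc⟩ := orbB_spec E h
  unfold TwData.el
  split
  · next he => rw [E.σ_x _ h1, h3, ← he, ht he]
  · rw [map_mul, E.σ_x _ h1, E.σ_x _ h2, h3, h4, E.φ_inv, (hc t (E.φ t)).eq]

theorem el_sq {o : Orb} (h : orbB D E.ρ o = true) (t : F) : E.el o t * E.el o t = 1 := by
  obtain ⟨h1, h2, -, -, hc⟩ := orbB_spec E h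
  unfold TwData.el
  split
  · exact x_sq Q h1 t
  · calc Q.sys.x o.1 t * Q.sys.x o.2 (E.φ t) * (Q.sys.x o.1 t * Q.sys.x o.2 (E.φ t))
        = Q.sys.x o.1 t * (Q.sys.x o.2 (E.φ t) * Q.sys.x o.1 t) * Q.sys.x o.2 (E.φ t) := by group
      _ = Q.sys.x o.1 t * Q.sys.x o.1 t * (Q.sys.x o.2 (E.φ t) * Q.sys.x o.2 (E.φ t)) := by
          rw [← (hc t (E.φ t)).eq]; group
      _ = 1 := by rw [x_sq Q h1, x_sq Q h2, one_mul]

theorem el_inv {o : Orb} (h : orbB D E.ρ o = true) (t : F) : (E.el o t)⁻¹ = E.el o t :=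
  inv_eq_of_mul_eq_one_right (el_sq E h t)

theorem el_comm {o : Orb} (h : orbB D E.ρ o = true) {A : List ℕ} (hA : ∀ a ∈ A, a < D.nroots)
    (hc : ((rts o).all fun g => commB D g A) = true) (t : F) {a : ℕ} (ha : a ∈ A) (u : F) :
    Commute (E.el o t) (Q.sys.x a u) := by
  simp only [List.all_eq_true] at hc
  obtain ⟨h1, h2, -⟩ := orbB_spec E h
  have k1 := fun v => comm_of_commB Q h1 hA (hc _ (mem_rts.2 (Or.inl rfl))) ha v u
  have k2 := fun v => comm_of_commB Q h2 hA (hc _ (mem_rts.2 (Or.inr rfl))) ha v u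
  unfold TwData.el
  split
  · exact k1 t
  · exact (k1 t).mul_left (k2 _)

omit E in
variable (Q) in
theorem eval_expand (v : ℕ → F) {g : ℕ} (hg : g < D.nroots) (i : ℕ) :
    ∀ L : List Trm, expOk D g L = true →
      Q.sys.x g (v i) * eval Q v L * Q.sys.x g (v i) = eval Q v (expand D g i L) := by
  intro L
  induction L with
  | nil => intro _; simp [expand, eval_nil, x_sq Q hg]
  | cons p L ih =>
    intro h
    simp only [expOk, List.all_cons, Bool.and_eq_true, Bool.or_eq_true, decide_eq_true_eq,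
      beq_iff_eq] at h
    obtain ⟨⟨hp, hcase⟩, hrest⟩ := h
    have e : Q.sys.x g (v i) * Q.sys.x p.1 ((p.2.map v).prod) * Q.sys.x g (v i) =
        eval Q v (p :: (oddT D g p.1).map fun c => (c.1, i :: p.2)) := by
      rw [eval_cons]
      rcases hcase with ⟨hpg, hnil⟩ | ⟨⟨hneg, hne⟩, hexp⟩
      · rw [List.isEmpty_iff] at hnil
        rw [hpg, hnil, List.map_nil, eval_nil, mul_one, ← Q.sys.x_add' g hg, ← Q.sys.x_add' g hg,
          add_comm (v i) _, add_assoc, CharTwo.add_self_eq_zero, add_zero]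
      · rw [x_conj Q hg hp hne hneg]
        congr 1
        rw [TwData.eval, List.map_map]
        refine congrArg List.prod (List.map_congr_left fun c hc => ?_)
        simp only [List.all_eq_true, Bool.and_eq_true, beq_iff_eq] at hexp
        obtain ⟨e1, e2⟩ := hexp c hc
        rw [e1, e2, pow_one, pow_one, Function.comp_apply, List.map_cons, List.prod_cons]
    have hr : expand D g i (p :: L) =
        (p :: (oddT D g p.1).map fun c => (c.1, i :: p.2)) ++ expand D g i L := by simp [expand]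
    rw [hr, eval_append, ← e, ← ih (by simpa [expOk] using hrest), eval_cons]
    calc Q.sys.x g (v i) * (Q.sys.x p.1 ((p.2.map v).prod) * eval Q v L) * Q.sys.x g (v i)
        = Q.sys.x g (v i) * Q.sys.x p.1 ((p.2.map v).prod) * 1 * eval Q v L *
            Q.sys.x g (v i) := by group
      _ = Q.sys.x g (v i) * Q.sys.x p.1 ((p.2.map v).prod) *
            (Q.sys.x g (v i) * Q.sys.x g (v i)) * eval Q v L * Q.sys.x g (v i) := by rw [x_sq Q hg]
      _ = _ := by group

omit [CharP F 2] in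
theorem expG_head : ∀ (G : List (ℕ × ℕ)) (p : Trm) (L : List Trm),
    ∃ L', expG D G (p :: L) = p :: L' := by
  intro G
  induction G with
  | nil => exact fun p L => ⟨L, rfl⟩
  | cons gv G ih =>
    intro p L
    obtain ⟨g, v⟩ := gv
    have e : expand D g v (p :: L) =
        p :: ((oddT D g p.1).map (fun c => (c.1, v :: p.2)) ++ expand D g v L) := by simp [expand]
    rw [expG, e]
    exact ih p _

/-- The symbolic list is the conjugate. -/
theorem eval_expG {G : Orb} (hG : orbB D E.ρ G = true) (s : F) (v : ℕ → F) (hv0 : v 0 = s)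
    (hv1 : v 1 = E.φ s) (L : List Trm) (hok : expGOk D (gvars G 0) L = true) :
    E.el G s * eval Q v L * E.el G s = eval Q v (expG D (gvars G 0) L) := by
  obtain ⟨h1, h2, -, -, hc⟩ := orbB_spec E hG
  unfold TwData.el
  by_cases he : G.1 = G.2
  · simp only [gvars, if_pos he, expGOk, Bool.and_true] at hok
    simp only [gvars, if_pos he, expG]
    rw [← eval_expand Q v h1 0 L hok, hv0]
  · simp only [gvars, if_neg he, expGOk, Bool.and_eq_true] at hok
    simp only [gvars, if_neg he, expG]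
    rw [← eval_expand Q v h2 1 _ hok.2.1, ← eval_expand Q v h1 0 L hok.1, hv0, hv1]
    conv_lhs => enter [1, 1]; rw [(hc s (E.φ s)).eq]
    group

/-- Conjugation of an orbit element by another one. -/
theorem eval_pull {G K : Orb} (hG : orbB D E.ρ G = true) (hK : orbB D E.ρ K = true)
    (h : pullOk D G K = true) (s t : F) :
    E.el G s * E.el K t * E.el G s = E.el K t * eval Q (E.vals s t) (pull D G K) := by
  obtain ⟨hk1, hk2, -, -, hc⟩ := orbB_spec E hK
  set v := E.vals s t with hv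
  simp only [pullOk, Bool.and_eq_true, decide_eq_true_eq, Bool.or_eq_true, beq_iff_eq] at h
  obtain ⟨⟨ok1, -⟩, hpair⟩ := h
  obtain ⟨L1, e1⟩ := expG_head (D := D) (gvars G 0) (K.1, [2]) []
  have h1 : E.el G s * Q.sys.x K.1 t * E.el G s = Q.sys.x K.1 t * eval Q v L1 := by
    have := eval_expG E hG s v rfl rfl [(K.1, [2])] ok1
    rw [e1, eval_cons, eval_cons, eval_nil, mul_one] at this
    simpa [hv, TwData.vals] using this
  by_cases he : K.1 = K.2
  · rw [TwData.el, TwData.el, if_pos he]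
    rw [show E.el G s = _ from rfl] at h1
    simp only [pull, if_pos he, e1, List.tail_cons]
    exact h1
  obtain ⟨ok2, ok3⟩ := hpair.resolve_left he
  obtain ⟨L2, e2⟩ := expG_head (D := D) (gvars G 0) (K.2, [3]) []
  have h2 : E.el G s * Q.sys.x K.2 (E.φ t) * E.el G s = Q.sys.x K.2 (E.φ t) * eval Q v L2 := by
    have := eval_expG E hG s v rfl rfl [(K.2, [3])] ok2
    rw [e2, eval_cons, eval_cons, eval_nil, mul_one] at this
    simpa [hv, TwData.vals] using this
  rw [e1, List.tail_cons] at ok3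
  have h3 : Q.sys.x K.2 (E.φ t) * eval Q v L1 * Q.sys.x K.2 (E.φ t) =
      eval Q v (expand D K.2 3 L1) := by
    rw [← eval_expand Q v hk2 3 L1 ok3]
    rfl
  rw [show E.el K t = Q.sys.x K.1 t * Q.sys.x K.2 (E.φ t) by rw [TwData.el, if_neg he]]
  simp only [pull, if_neg he, e1, e2, List.tail_cons, eval_append]
  rw [← h3]
  have hgg := el_sq E hG s
  have hkk := x_sq Q hk2 (E.φ t)
  calc E.el G s * (Q.sys.x K.1 t * Q.sys.x K.2 (E.φ t)) * E.el G s
      = E.el G s * Q.sys.x K.1 t * 1 * Q.sys.x K.2 (E.φ t) * E.el G s := by group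
    _ = E.el G s * Q.sys.x K.1 t * (E.el G s * E.el G s) * Q.sys.x K.2 (E.φ t) * E.el G s := by
        rw [hgg]
    _ = (E.el G s * Q.sys.x K.1 t * E.el G s) * (E.el G s * Q.sys.x K.2 (E.φ t) * E.el G s) := by
        group
    _ = Q.sys.x K.1 t * 1 * eval Q v L1 * (Q.sys.x K.2 (E.φ t) * eval Q v L2) := by
        rw [h1, h2, mul_one]
    _ = Q.sys.x K.1 t * (Q.sys.x K.2 (E.φ t) * Q.sys.x K.2 (E.φ t)) * eval Q v L1 *
          (Q.sys.x K.2 (E.φ t) * eval Q v L2) := by rw [hkk]
    _ = _ := by group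

/-- A symbolic list modulo `T`: the coefficient at `j`. -/
theorem eval_mod {j : ℕ} (hj : j < D.nroots) {T : List ℕ} (hjT : normB D j T T = true)
    (v : ℕ → F) (L : List Trm) (hL : ∀ p ∈ L, p.1 = j ∨ p.1 ∈ T) :
    ∃ q ∈ LS Q T, eval Q v L = Q.sys.x j
      (((L.filter fun p => p.1 == j).map fun p => (p.2.map v).prod).sum) * q := by
  obtain ⟨q, hq, e⟩ := prod_mod Q hj hjT (L.map fun p => (p.1, (p.2.map v).prod)) (by
    intro p hp
    obtain ⟨c, hc, rfl⟩ := List.mem_map.1 hp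
    exact hL c hc)
  refine ⟨q, hq, ?_⟩
  rw [List.map_map, List.filter_map, List.map_map] at e
  exact e

omit [CharP F 2] in
theorem mem_filter_ne {S : List ℕ} {a r : ℕ} : r ∈ S.filter (· != a) ↔ r ∈ S ∧ r ≠ a := by
  simp

theorem seq_conj : ∀ {G : List ℕ} {S W : List ℕ}, seqB D G S W = true →
    (∀ g ∈ G, g < D.nroots) → ∀ {y : ↥(D.group F)}, y ∈ LS Q S → ∀ u : List F,
      u.length = G.length →
      (((G.zip u).map fun p => Q.sys.x p.1 p.2).prod)⁻¹ * y *
        ((G.zip u).map fun p => Q.sys.x p.1 p.2).prod ∈ LS Q W := by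
  intro G
  induction G with
  | nil =>
    intro S W h _ y hy u _
    simp only [seqB, List.all_eq_true, List.contains_iff_mem] at h
    simpa using LS_mono Q h hy
  | cons g G ih =>
    intro S W h hlt y hy u hu
    simp only [seqB, Bool.and_eq_true] at h
    obtain ⟨s, u, rfl⟩ := List.exists_cons_of_length_eq_add_one (l := u) (n := G.length) (by simpa using hu)
    have hg := hlt g List.mem_cons_self
    have := ih h.2 (fun a ha => hlt a (List.mem_cons_of_mem _ ha)) (conj_LS Q hg h.1 s hy) u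
      (by simpa using hu)
    rw [List.zip_cons_cons, List.map_cons, List.prod_cons, mul_inv_rev, x_inv Q hg]
    convert this using 1
    group

/-- Conjugation of a subgroup by an orbit element. -/
theorem el_conj_LS {G : Orb} (hG : orbB D E.ρ G = true) {S W : List ℕ}
    (h : seqB D (rts G) S W = true) (s : F) {y : ↥(D.group F)} (hy : y ∈ LS Q S) :
    E.el G s * y * E.el G s ∈ LS Q W := by
  have hlt := rts_lt E hG
  have key : ∀ u : List F, u.length = (rts G).length →
      E.el G s = ((((rts G).zip u).map fun p => Q.sys.x p.1 p.2).prod) →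
      E.el G s * y * E.el G s ∈ LS Q W := by
    intro u hu e
    have := seq_conj (Q := Q) h hlt hy u hu
    rw [← e, el_inv E hG] at this
    exact this
  unfold TwData.el rts at *
  by_cases he : G.1 = G.2
  · exact key [s] (by simp [he]) (by simp [he])
  · exact key [s, E.φ s] (by simp [he]) (by simp [he])

variable {cmb : List (List (List ℕ))}

/-- Splitting of a fixed element along an orbit. -/
theorem fixed_split (hTb : Tables D Q.K.cf cmb) {S : List ℕ} {o : Orb}
    (h : splitB D E.ρ cmb S o = true) {y : ↥(D.group F)} (hy : y ∈ LS Q S) (hfix : E.σ y = y) :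
    ∃ c, E.PFix o c ∧ ∃ q ∈ LS Q ((S.filter (· != o.1)).filter (· != o.2)),
      E.σ q = q ∧ y = q * E.el o c ∧
      ∃ a ∈ LS Q (S.filter (· != o.1)), y = a * Q.sys.x o.1 c := by
  simp only [splitB, Bool.and_eq_true, List.contains_iff_mem, List.all_eq_true] at h
  obtain ⟨⟨⟨⟨⟨⟨⟨⟨⟨horb, ha⟩, hb⟩, hS⟩, hSa⟩, hSb⟩, -⟩, -⟩, -⟩, hρ⟩ := h
  obtain ⟨h1, h2, h3, h4, hc⟩ := orbB_spec E horb
  have hca := closed_of_closedX Q hTb hSa
  have hcb := closed_of_closedX Q hTb hSb
  have hlt : ∀ r ∈ S.filter (· != o.1), r < D.nroots := fun r hr =>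
    (mem_posSet.1 (Q.sys.P_eq ▸ hca.1 (List.mem_toFinset.2 hr))).1
  have hσ : ∀ {g}, g ∈ LS Q (S.filter (· != o.1)) → E.σ g ∈ LS Q (S.filter (· != o.2)) :=
    fun hg => E.σ_LS (fun r hr => ⟨hlt r hr, hρ r hr⟩) hg
  have hinter : ∀ {g}, g ∈ LS Q (S.filter (· != o.1)) → g ∈ LS Q (S.filter (· != o.2)) →
      g ∈ LS Q ((S.filter (· != o.1)).filter (· != o.2)) := by
    intro g hg hg'
    refine XS_mono ?_ (H51.XS_inter Q.sys.toUnip hca hcb hg hg')
    intro r hr
    obtain ⟨r1, r2⟩ := Finset.mem_inter.1 (Finset.mem_coe.1 hr)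
    rw [List.mem_toFinset] at r1 r2
    exact mem_coe_list.2 (mem_filter_ne.2 ⟨r1, (mem_filter_ne.1 r2).2⟩)
  obtain ⟨a, haS, b, hb', e⟩ := Q.sys.toUnip.exists_split (closed_of_closedX Q hTb hS)
    (↑(S.filter (· != o.1)).toFinset : Set ℕ) {o.1} (fun r hr => by
      rw [List.mem_toFinset] at hr
      by_cases he : r = o.1
      · exact Or.inr he
      · exact Or.inl (mem_coe_list.2 (mem_filter_ne.2 ⟨hr, he⟩))) hy
  obtain ⟨c, rfl⟩ := exists_of_mem_single (Q := Q) h1 hb'
  by_cases he : o.1 = o.2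
  · have hTT : ∀ {g}, g ∈ LS Q (S.filter (· != o.1)) →
        g ∈ LS Q ((S.filter (· != o.1)).filter (· != o.2)) := fun hg =>
      LS_mono Q (fun r hr => mem_filter_ne.2 ⟨hr, he ▸ (mem_filter_ne.1 hr).2⟩) hg
    have hσa : E.σ a ∈ LS Q (S.filter (· != o.1)) :=
      LS_mono Q (fun r hr => by rwa [he]) (hσ haS)
    have hpos : D.nroots / 2 ≤ o.1 := (mem_posSet.1 (Q.sys.P_eq ▸
      (closed_of_closedX Q hTb hS).1 (List.mem_toFinset.2 ha))).2
    have heq : E.φ c = c := by
      have e' := hfix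
      rw [e, map_mul, E.σ_x _ h1, h3, ← he] at e'
      have hm : Q.sys.x o.1 (E.φ c + c) ∈ LS Q (S.filter (· != o.1)) := by
        rw [Q.sys.x_add' _ h1,
          show Q.sys.x o.1 (E.φ c) * Q.sys.x o.1 c =
            (E.σ a)⁻¹ * (E.σ a * Q.sys.x o.1 (E.φ c)) * Q.sys.x o.1 c by group, e']
        rw [show (E.σ a)⁻¹ * (a * Q.sys.x o.1 c) * Q.sys.x o.1 c =
          (E.σ a)⁻¹ * a * (Q.sys.x o.1 c * Q.sys.x o.1 c) by group, x_sq Q h1, mul_one]
        exact mul_mem (inv_mem hσa) haS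
      exact CharTwo.add_eq_zero.1 (H51.CW.eq_zero_of_mem Q hca h1 hpos
        (fun hm' => (mem_filter_ne.1 (List.mem_toFinset.1 hm')).2 rfl) hm)
    have hel : E.el o c = Q.sys.x o.1 c := if_pos he
    refine ⟨c, fun _ => heq, a, hTT haS, ?_, by rw [e, hel], a, haS, e⟩
    have e' := hfix
    rw [e, map_mul, E.σ_x _ h1, h3, ← he, heq] at e'
    exact mul_right_cancel e'
  · set q := y * E.el o c with hq
    have hel : E.el o c = Q.sys.x o.1 c * Q.sys.x o.2 (E.φ c) := if_neg he
    have hqa : q ∈ LS Q (S.filter (· != o.1)) := by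
      rw [hq, e, hel, mul_assoc, ← mul_assoc (Q.sys.x o.1 c), x_sq Q h1, one_mul]
      exact mul_mem haS (x_mem_LS Q (mem_filter_ne.2 ⟨hb, Ne.symm he⟩) _)
    have hqf : E.σ q = q := by rw [hq, map_mul, hfix, el_fixed E horb fun h => absurd h he]
    exact ⟨c, fun h => absurd h he, q, hinter hqa (hqf ▸ hσ hqa), hqf,
      by rw [hq, mul_assoc, el_sq E horb, mul_one], a, haS, e⟩

/-- The coordinate at the first root of an orbit is unique. -/
theorem coord_unique (hTb : Tables D Q.K.cf cmb) {S : List ℕ} {o : Orb}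
    (h : splitB D E.ρ cmb S o = true) {a a' : ↥(D.group F)}
    (ha : a ∈ LS Q (S.filter (· != o.1))) (ha' : a' ∈ LS Q (S.filter (· != o.1))) {c c' : F}
    (e : a * Q.sys.x o.1 c = a' * Q.sys.x o.1 c') : c = c' := by
  simp only [splitB, Bool.and_eq_true, List.contains_iff_mem] at h
  obtain ⟨⟨⟨⟨⟨⟨⟨⟨⟨horb, hmem⟩, -⟩, hS⟩, hSa⟩, -⟩, -⟩, -⟩, -⟩, -⟩ := h
  obtain ⟨h1, -⟩ := orbB_spec E horb
  have hm : Q.sys.x o.1 (c + c') ∈ LS Q (S.filter (· != o.1)) := by
    rw [Q.sys.x_add' _ h1, show Q.sys.x o.1 c * Q.sys.x o.1 c' =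
      a⁻¹ * (a * Q.sys.x o.1 c) * Q.sys.x o.1 c' by group, e,
      show a⁻¹ * (a' * Q.sys.x o.1 c') * Q.sys.x o.1 c' =
        a⁻¹ * a' * (Q.sys.x o.1 c' * Q.sys.x o.1 c') by group, x_sq Q h1, mul_one]
    exact mul_mem (inv_mem ha) ha'
  exact CharTwo.add_eq_zero.1 (H51.CW.eq_zero_of_mem Q (closed_of_closedX Q hTb hSa) h1
    (mem_posSet.1 (Q.sys.P_eq ▸ (closed_of_closedX Q hTb hS).1 (List.mem_toFinset.2 hmem))).2
    (fun hm' => (mem_filter_ne.1 (List.mem_toFinset.1 hm')).2 rfl) hm)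

end Cfsg.Agent.H56.Inv.Tw
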