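import Cfsg.Agent.H56.Inv.TwBase

/-!
The checks of a certificate for the fixed involutions, and the lemmas behind a single step.
-/
set_option autoImplicit false
set_option maxRecDepth 100000

namespace Cfsg.Agent.H56.Inv.Tw

open Cfsg.Lie Cfsg.Agent.H37 Cfsg.Agent.H37.RootSys Cfsg.Agent.H56.Inv Cfsg.Agent.H56.Inv.Gen

variable {D : ChevalleyDatum}

/-- The monomials at a root. -/
def monsAt (L : List Trm) (j : ℕ) : List (List ℕ) := (L.filter fun p => p.1 == j).map Prod.snd

/-- The roots off an orbit. -/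
def offOrb (S : List ℕ) (o : Orb) : List ℕ := (S.filter (· != o.1)).filter (· != o.2)

/-- The involution condition at `m`, modulo `I`. -/
def killB (D : ChevalleyDatum) (cmb : List (List (List ℕ))) (S : List ℕ) (K J : Orb) (m : ℕ)
    (I : List ℕ) : Bool :=
  closedX D cmb I && decide (m < D.nroots) && decide (D.nroots / 2 ≤ m) && !(I.contains m) &&
  (S.all fun s => decide (s < D.nroots) && normB D s I I && S.all fun r => moveB D s r I) &&
  ((rts J).all fun r => S.contains r) &&
  ((rts K).all fun k => normB D k I I && (offOrb S J).all fun r => moveB D k r I) &&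
  pullOk D K J && ((pull D K J).all fun p => p.1 == m || I.contains p.1) && normB D m I I

/-- The two shapes of a trace. -/
def traceA : List (List (List ℕ)) := [[[0, 3], [1, 2]], [[1, 2], [0, 3]]]

/-- The other shape of a trace. -/
def traceB : List (List (List ℕ)) := [[[0, 2], [1, 3]], [[1, 3], [0, 2]]]

/-- The extra condition licensing a fixed parameter. -/
def preB (D : ChevalleyDatum) (cmb : List (List (List ℕ))) (S : List ℕ) (K J : Orb) (b : ℕ) :
    Option (ℕ × List ℕ) → Bool
  | none => (K.1 == K.2) && (J.1 == J.2)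
  | some (m, I) => killB D cmb S K J m I &&
      ((b == 2 && traceA.contains (monsAt (pull D K J) m)) ||
        (b == 3 && traceB.contains (monsAt (pull D K J) m)))

/-- The equation for the parameter of the conjugator is solvable. -/
def solB (D : ChevalleyDatum) (cmb : List (List (List ℕ))) (S : List ℕ) (K J G : Orb)
    (M : List (List ℕ)) (pre : Option (ℕ × List ℕ)) : Bool :=
  match M with
  | [[a, b]] => ((a == 0) || (a == 1)) && ((b == 2) || (b == 3)) &&
      (!(G.1 == G.2) || ((a == 0) && preB D cmb S K J b pre))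
  | _ => !(G.1 == G.2) && (J.1 == J.2) && (traceA.contains M || traceB.contains M)

/-- A step. -/
inductive Step where
  | clear (J G : Orb) (pre : Option (ℕ × List ℕ))
  | kill (J : Orb) (m : ℕ) (I : List ℕ)

/-- The treatment of a lowest orbit. -/
inductive Op where
  | jump (G : Orb) (mi : ℕ)
  | piv (next : ℕ) (steps : List Step)

/-- A node. -/
structure Node where
  piv : List Orb
  sup : List Orb
  ops : List Op

/-- The roots of the orbits from the `i`-th one on. -/
def suf (sup : List Orb) (i : ℕ) : List ℕ := (sup.drop i).flatMap rts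

/-- A single kill is forcing. -/
def oneB (M : List (List ℕ)) : Bool :=
  match M with
  | [[a, b]] => ((a == 0) || (a == 1)) && ((b == 2) || (b == 3))
  | _ => false

/-- The check of the steps. -/
def stepsB (D : ChevalleyDatum) (ρ : ℕ → ℕ) (cmb : List (List (List ℕ))) (K : Orb) (A O' : List ℕ) :
    List Step → List ℕ → Bool
  | [], S => S.all fun r => O'.contains r
  | .clear J G pre :: rest, S =>
      splitB D ρ cmb S J && orbB D ρ G && pullOk D G K &&
      seqB D (rts G) (S.filter (· != J.1)) (S.filter (· != J.1)) &&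
      expGOk D (gvars G 0) [(J.1, [2])] &&
      ((expG D (gvars G 0) [(J.1, [2])]).tail.all fun p => (S.filter (· != J.1)).contains p.1) &&
      ((rts G).all fun g => commB D g A) &&
      ((pull D G K).all fun p => p.1 == J.1 || (S.filter (· != J.1)).contains p.1) &&
      solB D cmb S K J G (monsAt (pull D G K) J.1) pre &&
      stepsB D ρ cmb K A O' rest (offOrb S J)
  | .kill J m I :: rest, S =>
      splitB D ρ cmb S J && killB D cmb S K J m I && oneB (monsAt (pull D K J) m) &&
      stepsB D ρ cmb K A O' rest (offOrb S J)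

/-- The check of one operation. -/
def opB (D : ChevalleyDatum) (ρ : ℕ → ℕ) (cmb : List (List (List ℕ))) (nodes : List Node)
    (idx i : ℕ) (A : List Orb) (sup : List Orb) : Op → Bool
  | .jump G mi =>
      let K := sup.getD i (0, 0)
      let m := sup.getD mi (0, 0)
      let Wa := (suf sup mi).filter (· != m.1)
      decide (mi < i) && orbB D ρ G && pullOk D G K && ((rts G).all fun g => commB D g (A.flatMap rts)) &&
      ((rts K).all fun r => Wa.contains r) && seqB D (rts G) (suf sup (i + 1)) Wa &&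
      ((pull D G K).all fun p => p.1 == m.1 || Wa.contains p.1) &&
      decide ((monsAt (pull D G K) m.1).length = 1) &&
      ((monsAt (pull D G K) m.1).all fun M => M.all fun v => decide (v < 4))
  | .piv next steps =>
      let K := sup.getD i (0, 0)
      let O' := suf (nodes.getD next ⟨[], [], []⟩).sup 0
      decide (idx < next) && decide (next < nodes.length) &&
      (K :: A).isPerm (nodes.getD next ⟨[], [], []⟩).piv &&
      ((rts K).all fun k => pb D k k == 2) && ((rts K).all fun k => commB D k O') &&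
      ((K.1 == K.2) || (commB D K.1 [K.2, D.neg K.2] && commB D (D.neg K.1) [K.2, D.neg K.2])) &&
      stepsB D ρ cmb K (A.flatMap rts) O' steps (suf sup (i + 1))

/-- The check of one node. -/
def nodeB (D : ChevalleyDatum) (ρ : ℕ → ℕ) (cmb : List (List (List ℕ))) (nodes : List Node)
    (idx : ℕ) : Bool :=
  let N := nodes.getD idx ⟨[], [], []⟩
  (N.piv.all fun o => orbB D ρ o) &&
  decide ((N.piv.flatMap rts).Pairwise fun r s => pb D r s = 0 ∧ pb D s r = 0) &&
  decide (N.ops.length = N.sup.length) &&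
  (suf N.sup 0).all (fun r => decide (r < D.nroots)) &&
  (List.range N.sup.length).all fun i =>
    splitB D ρ cmb (suf N.sup i) (N.sup.getD i (0, 0)) &&
    (offOrb (suf N.sup i) (N.sup.getD i (0, 0))).all (fun r => (suf N.sup (i + 1)).contains r) &&
    seqB D (rts (N.sup.getD i (0, 0))) (offOrb (suf N.sup i) (N.sup.getD i (0, 0)))
      (suf N.sup (i + 1)) &&
    opB D ρ cmb nodes idx i N.piv N.sup (N.ops.getD i (.jump (0, 0) 0))

variable {F : Type*} [Field F] [CharP F 2] {Q : Chev.Data D F} (E : TwData Q)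
  {cmb : List (List (List ℕ))}

open TwData

omit E in
variable (Q) in
theorem norm_LS {S I : List ℕ} (h : ∀ s ∈ S, s < D.nroots ∧ normB D s I I = true)
    {y : ↥(D.group F)} (hy : y ∈ LS Q S) :
    ∀ i ∈ LS Q I, y * i * y⁻¹ ∈ LS Q I ∧ y⁻¹ * i * y ∈ LS Q I := by
  induction hy using Subgroup.closure_induction with
  | mem g hg =>
    obtain ⟨r, hr, t, rfl⟩ := hg
    obtain ⟨h1, h2⟩ := h r (mem_coe_list.1 hr)
    intro i hi
    rw [x_inv Q h1]
    exact ⟨conj_LS Q h1 h2 t hi, conj_LS Q h1 h2 t hi⟩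
  | one => exact fun i hi => by simpa using hi
  | mul a b _ _ iha ihb =>
    intro i hi
    refine ⟨?_, ?_⟩
    · rw [show a * b * i * (a * b)⁻¹ = a * (b * i * b⁻¹) * a⁻¹ by group]
      exact (iha _ (ihb i hi).1).1
    · rw [show (a * b)⁻¹ * i * (a * b) = b⁻¹ * (a⁻¹ * i * a) * b by group]
      exact (ihb _ (iha i hi).2).2
  | inv a _ iha =>
    intro i hi
    rw [inv_inv]
    exact ⟨(iha i hi).2, (iha i hi).1⟩

omit E in
variable (Q) in
theorem mod_conj {S I : List ℕ} (hn : ∀ s ∈ S, s < D.nroots ∧ normB D s I I = true) {g : ℕ}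
    (hg : g < D.nroots) {T : List ℕ} (hTS : ∀ r ∈ T, r ∈ S) (hT : ∀ r ∈ T, moveB D g r I = true)
    (a : F) {y : ↥(D.group F)} (hy : y ∈ LS Q T) :
    y⁻¹ * (Q.sys.x g a * y * Q.sys.x g a) ∈ LS Q I := by
  induction hy using Subgroup.closure_induction with
  | mem z hz =>
    obtain ⟨r, hr, u, rfl⟩ := hz
    have hr' := (hn r (hTS r (mem_coe_list.1 hr))).1
    by_cases hrg : r = g
    · subst hrg
      rw [← Q.sys.x_add' _ hg, ← Q.sys.x_add' _ hg, add_comm a u, add_assoc,
        CharTwo.add_self_eq_zero, add_zero, inv_mul_cancel]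
      exact one_mem _
    · obtain ⟨h1, h2⟩ := (moveB_iff.1 (hT r (mem_coe_list.1 hr))).resolve_left hrg
      rw [x_conj Q hg hr' hrg h1, inv_mul_cancel_left]
      refine Subgroup.list_prod_mem _ fun w hw => ?_
      obtain ⟨c, hc, rfl⟩ := List.mem_map.1 hw
      exact x_mem_LS Q (h2 c hc) _
  | one => rw [inv_one, one_mul, mul_one, x_sq Q hg]; exact one_mem _
  | mul y z _ hz iy iz =>
    have hgg := x_sq Q hg a
    rw [show (y * z)⁻¹ * (Q.sys.x g a * (y * z) * Q.sys.x g a) =
      z⁻¹ * y⁻¹ * (Q.sys.x g a * y * 1 * z * Q.sys.x g a) by group, ← hgg,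
      show z⁻¹ * y⁻¹ * (Q.sys.x g a * y * (Q.sys.x g a * Q.sys.x g a) * z * Q.sys.x g a) =
        z⁻¹ * (y⁻¹ * (Q.sys.x g a * y * Q.sys.x g a)) * z *
          (z⁻¹ * (Q.sys.x g a * z * Q.sys.x g a)) by group]
    exact mul_mem ((norm_LS Q hn (LS_mono Q hTS hz) _ iy).2) iz
  | inv y hy iy =>
    rw [inv_inv, show y * (Q.sys.x g a * y⁻¹ * Q.sys.x g a) =
      y * ((Q.sys.x g a)⁻¹ * y⁻¹ * (Q.sys.x g a)⁻¹) by rw [x_inv Q hg],
      show y * ((Q.sys.x g a)⁻¹ * y⁻¹ * (Q.sys.x g a)⁻¹) =
        y * (y⁻¹ * (Q.sys.x g a * y * Q.sys.x g a))⁻¹ * y⁻¹ by group]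
    exact (norm_LS Q hn (LS_mono Q hTS hy) _ (inv_mem iy)).1

omit E in
variable (Q) in
theorem sq_mem {S I : List ℕ} (hn : ∀ s ∈ S, s < D.nroots ∧ normB D s I I = true)
    (hc : ∀ s ∈ S, ∀ r ∈ S, moveB D s r I = true) {y : ↥(D.group F)} (hy : y ∈ LS Q S) :
    y * y ∈ LS Q I := by
  have hcomm : ∀ {y}, y ∈ LS Q S → ∀ z ∈ LS Q S, z⁻¹ * y * z * y⁻¹ ∈ LS Q I := by
    intro y hy
    induction hy using Subgroup.closure_induction with
    | mem g hg =>
      obtain ⟨r, hr, t, rfl⟩ := hg
      have hr' := mem_coe_list.1 hr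
      intro z hz
      rw [x_inv Q (hn r hr').1, mul_assoc z⁻¹ (Q.sys.x r t) z, mul_assoc z⁻¹]
      exact mod_conj Q hn (hn r hr').1 (fun _ h => h) (hc r hr') t hz
    | one => intro z _; simp
    | mul a b ha _ iha ihb =>
      intro z hz
      rw [show z⁻¹ * (a * b) * z * (a * b)⁻¹ =
        (z⁻¹ * a * z * a⁻¹) * (a * (z⁻¹ * b * z * b⁻¹) * a⁻¹) by group]
      exact mul_mem (iha z hz) (norm_LS Q hn ha _ (ihb z hz)).1
    | inv a ha iha =>
      intro z hz
      rw [show z⁻¹ * a⁻¹ * z * a⁻¹⁻¹ = a⁻¹ * (z⁻¹ * a * z * a⁻¹)⁻¹ * a by group]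
      exact (norm_LS Q hn ha _ (inv_mem (iha z hz))).2
  induction hy using Subgroup.closure_induction with
  | mem g hg =>
    obtain ⟨r, hr, t, rfl⟩ := hg
    rw [x_sq Q (hn r (mem_coe_list.1 hr)).1]
    exact one_mem _
  | one => simp
  | mul a b ha hb iha ihb =>
    rw [show a * b * (a * b) = a * a * (a⁻¹ * b * a * b⁻¹) * (b * b) by group]
    exact mul_mem (mul_mem iha (hcomm hb a ha)) ihb
  | inv a _ iha =>
    rw [show a⁻¹ * a⁻¹ = (a * a)⁻¹ by group]
    exact inv_mem iha

/-- The involution condition gives a vanishing coefficient. -/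
theorem kill_eq (hTb : Tables D Q.K.cf cmb) {S : List ℕ} {K J : Orb}
    (hK : orbB D E.ρ K = true) (hJ : orbB D E.ρ J = true) {m : ℕ} {I : List ℕ}
    (h : killB D cmb S K J m I = true) {t c : F} {q y : ↥(D.group F)}
    (hq : q ∈ LS Q (offOrb S J)) (hy : y ∈ LS Q S) (e : y = q * E.el J c)
    (hsq : E.el K t * y * (E.el K t * y) = 1) :
    ((monsAt (pull D K J) m).map fun M => (M.map (E.vals t c)).prod).sum = 0 := by
  simp only [killB, Bool.and_eq_true, decide_eq_true_eq, List.all_eq_true, Bool.or_eq_true,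
    List.contains_iff_mem, Bool.not_eq_true', List.contains_eq_mem, decide_eq_false_iff_not,
    beq_iff_eq] at h
  obtain ⟨⟨⟨⟨⟨⟨⟨⟨⟨hI, hm⟩, hm'⟩, hmI⟩, hS⟩, hJS⟩, hKI⟩, hok⟩, hroots⟩, hmn⟩ := h
  have hn : ∀ s ∈ S, s < D.nroots ∧ normB D s I I = true := fun s hs =>
    ⟨(hS s hs).1.1, (hS s hs).1.2⟩
  have hyy := sq_mem Q hn (fun s hs r hr => (hS s hs).2 r hr) hy
  have hTS : ∀ r ∈ offOrb S J, r ∈ S := fun r hr =>
    (List.mem_filter.1 (List.mem_filter.1 hr).1).1
  have hqI : q⁻¹ * (E.el K t * q * E.el K t) ∈ LS Q I := by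
    obtain ⟨h1, h2, -, -, hc⟩ := orbB_spec E hK
    have k1 := hKI K.1 (mem_rts.2 (Or.inl rfl))
    unfold TwData.el
    split
    · exact mod_conj Q hn h1 hTS k1.2 t hq
    · have k2 := hKI K.2 (mem_rts.2 (Or.inr rfl))
      have j1 := mod_conj Q hn h1 hTS k1.2 t hq
      have j2 := mod_conj Q hn h2 hTS k2.2 (E.φ t) hq
      have j3 := conj_LS Q h2 k2.1 (E.φ t) j1
      rw [show q⁻¹ * (Q.sys.x K.1 t * Q.sys.x K.2 (E.φ t) * q *
          (Q.sys.x K.1 t * Q.sys.x K.2 (E.φ t))) =
        q⁻¹ * ((Q.sys.x K.2 (E.φ t) * Q.sys.x K.1 t) * q *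
          (Q.sys.x K.1 t * Q.sys.x K.2 (E.φ t))) by rw [(hc t (E.φ t)).eq]]
      have hkk := x_sq Q h2 (E.φ t)
      convert mul_mem j2 j3 using 1
      calc q⁻¹ * (Q.sys.x K.2 (E.φ t) * Q.sys.x K.1 t * q *
            (Q.sys.x K.1 t * Q.sys.x K.2 (E.φ t)))
          = q⁻¹ * Q.sys.x K.2 (E.φ t) * q * 1 * q⁻¹ * (Q.sys.x K.1 t * q * Q.sys.x K.1 t) *
              Q.sys.x K.2 (E.φ t) := by group
        _ = q⁻¹ * Q.sys.x K.2 (E.φ t) * q * (Q.sys.x K.2 (E.φ t) * Q.sys.x K.2 (E.φ t)) * q⁻¹ *
              (Q.sys.x K.1 t * q * Q.sys.x K.1 t) * Q.sys.x K.2 (E.φ t) := by rw [hkk]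
        _ = _ := by group
  obtain ⟨q', hq', ew⟩ := eval_mod (Q := Q) hm hmn (E.vals t c) (pull D K J) fun p hp => hroots p hp
  have epull := eval_pull E hK hJ hok t c
  have hKK := el_sq E hK t
  have hinv : E.el K t * y * E.el K t = y⁻¹ :=
    eq_inv_of_mul_eq_one_left (by rw [← hsq]; group)
  have hW : eval Q (E.vals t c) (pull D K J) ∈ LS Q I := by
    have key : eval Q (E.vals t c) (pull D K J) =
        (E.el J c)⁻¹ * (q⁻¹ * (E.el K t * q * E.el K t))⁻¹ * E.el J c * (y * y)⁻¹ := by
      have e2 : E.el K t * y * E.el K t =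
          E.el K t * q * E.el K t * (E.el J c * eval Q (E.vals t c) (pull D K J)) := by
        rw [← epull, e]
        calc E.el K t * (q * E.el J c) * E.el K t
            = E.el K t * q * 1 * E.el J c * E.el K t := by group
          _ = E.el K t * q * (E.el K t * E.el K t) * E.el J c * E.el K t := by rw [hKK]
          _ = _ := by group
      calc eval Q (E.vals t c) (pull D K J)
          = (E.el J c)⁻¹ * (E.el K t * q * E.el K t)⁻¹ *
              (E.el K t * q * E.el K t * (E.el J c * eval Q (E.vals t c) (pull D K J))) := by group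
        _ = (E.el J c)⁻¹ * (E.el K t * q * E.el K t)⁻¹ * y⁻¹ := by rw [← e2, hinv]
        _ = (E.el J c)⁻¹ * (E.el K t * q * E.el K t)⁻¹ * y * (y * y)⁻¹ := by group
        _ = _ := by
            conv_lhs => enter [1, 2]; rw [e]
            group
    rw [key]
    exact mul_mem (norm_LS Q hn (el_mem E hJS c) _ (inv_mem hqI)).2 (inv_mem hyy)
  rw [ew] at hW
  have h0 := H51.CW.eq_zero_of_mem Q (closed_of_closedX Q hTb hI) hm hm'
    (fun h' => hmI (List.mem_toFinset.1 h')) ((Subgroup.mul_mem_cancel_right _ hq').1 hW)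
  rw [monsAt, List.map_map]
  exact h0

omit [CharP F 2] in
theorem PFix_inv {o : Orb} {t : F} (h : E.PFix o t) : E.PFix o t⁻¹ := fun e => by
  rw [map_inv₀, h e]

theorem exists_sol {S : List ℕ} {K J G : Orb} {M : List (List ℕ)}
    {pre : Option (ℕ × List ℕ)} (h : solB D cmb S K J G M pre = true) {t c : F} (ht : t ≠ 0)
    (htK : E.PFix K t) (hcJ : E.PFix J c)
    (heq : ∀ m I, pre = some (m, I) → killB D cmb S K J m I = true →
      ((monsAt (pull D K J) m).map fun M => (M.map (E.vals t c)).prod).sum = 0) :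
    ∃ s, E.PFix G s ∧ (M.map fun m => (m.map (E.vals s t)).prod).sum = c := by
  have hft : E.φ t ≠ 0 := (map_ne_zero E.φ).2 ht
  unfold solB at h
  split at h
  · next a b =>
    simp only [Bool.and_eq_true, Bool.or_eq_true, beq_iff_eq, Bool.not_eq_true'] at h
    obtain ⟨⟨ha, hb⟩, hfix⟩ := h
    rcases hb with rfl | rfl <;> rcases ha with rfl | rfl
    all_goals rcases hfix with hg | ⟨ha', hpre⟩
    all_goals try (exact absurd ha' (by decide))
    · exact ⟨c / t, fun e => absurd e (by simpa using hg), by simp [TwData.vals, div_mul_cancel₀ _ ht]⟩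
    · refine ⟨c / t, fun _ => ?_, by simp [TwData.vals, div_mul_cancel₀ _ ht]⟩
      rw [map_div₀]
      cases pre with
      | none =>
        simp only [preB, Bool.and_eq_true, beq_iff_eq] at hpre
        rw [hcJ hpre.2, htK hpre.1]
      | some p =>
        obtain ⟨m, I⟩ := p
        simp only [preB, Bool.and_eq_true, Bool.or_eq_true, beq_iff_eq, traceA, traceB,
          List.contains_iff_mem, List.mem_cons, List.not_mem_nil, or_false] at hpre
        have := heq m I rfl hpre.1
        rw [div_eq_div_iff hft ht]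
        rcases hpre.2 with ⟨-, e | e⟩ | ⟨h32, -⟩
        · rw [e] at this
          simp [TwData.vals] at this
          exact CharTwo.add_eq_zero.1 (by linear_combination this)
        · rw [e] at this
          simp [TwData.vals] at this
          exact CharTwo.add_eq_zero.1 (by linear_combination this)
        · exact absurd h32 (by decide)
    · exact ⟨E.φ (c / t), fun e => absurd e (by simpa using hg),
        by simp [TwData.vals, E.φ_inv, div_mul_cancel₀ _ ht]⟩
    · exact ⟨c / E.φ t, fun e => absurd e (by simpa using hg),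
        by simp [TwData.vals, div_mul_cancel₀ _ hft]⟩
    · refine ⟨c / E.φ t, fun _ => ?_, by simp [TwData.vals, div_mul_cancel₀ _ hft]⟩
      rw [map_div₀, E.φ_inv]
      cases pre with
      | none =>
        simp only [preB, Bool.and_eq_true, beq_iff_eq] at hpre
        rw [hcJ hpre.2, htK hpre.1]
      | some p =>
        obtain ⟨m, I⟩ := p
        simp only [preB, Bool.and_eq_true, Bool.or_eq_true, beq_iff_eq, traceA, traceB,
          List.contains_iff_mem, List.mem_cons, List.not_mem_nil, or_false] at hpre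
        have := heq m I rfl hpre.1
        rw [div_eq_div_iff ht hft]
        rcases hpre.2 with ⟨h32, -⟩ | ⟨-, e | e⟩
        · exact absurd h32 (by decide)
        · rw [e] at this
          simp [TwData.vals] at this
          exact CharTwo.add_eq_zero.1 (by linear_combination this)
        · rw [e] at this
          simp [TwData.vals] at this
          exact CharTwo.add_eq_zero.1 (by linear_combination this)
    · exact ⟨E.φ (c / E.φ t), fun e => absurd e (by simpa using hg),
        by simp [TwData.vals, E.φ_inv, hft]⟩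
  · simp only [Bool.and_eq_true, Bool.or_eq_true, beq_iff_eq, Bool.not_eq_true', traceA, traceB,
      List.contains_iff_mem, List.mem_cons, List.not_mem_nil, or_false] at h
    obtain ⟨⟨hg, hj⟩, hM⟩ := h
    have hc : E.φ c = c := hcJ hj
    have hz : c * E.μ + E.φ (c * E.μ) = c := by rw [map_mul, hc, ← mul_add, E.μ_spec, mul_one]
    have hG : ∀ s : F, E.PFix G s := fun s e => absurd e (by simpa using hg)
    rcases hM with (e | e) | (e | e) <;> subst e
    · refine ⟨c * E.μ / E.φ t, hG _, ?_⟩
      simp only [List.map_cons, List.map_nil, List.prod_cons, List.prod_nil, List.sum_cons,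
        List.sum_nil, TwData.vals, mul_one, add_zero, map_div₀, E.φ_inv, div_mul_cancel₀ _ hft,
        div_mul_cancel₀ _ ht, hz]
    · refine ⟨c * E.μ / E.φ t, hG _, ?_⟩
      simp only [List.map_cons, List.map_nil, List.prod_cons, List.prod_nil, List.sum_cons,
        List.sum_nil, TwData.vals, mul_one, add_zero, map_div₀, E.φ_inv, div_mul_cancel₀ _ hft,
        div_mul_cancel₀ _ ht]
      rw [add_comm, hz]
    · refine ⟨c * E.μ / t, hG _, ?_⟩
      simp only [List.map_cons, List.map_nil, List.prod_cons, List.prod_nil, List.sum_cons,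
        List.sum_nil, TwData.vals, mul_one, add_zero, map_div₀, div_mul_cancel₀ _ hft,
        div_mul_cancel₀ _ ht, hz]
    · refine ⟨c * E.μ / t, hG _, ?_⟩
      simp only [List.map_cons, List.map_nil, List.prod_cons, List.prod_nil, List.sum_cons,
        List.sum_nil, TwData.vals, mul_one, add_zero, map_div₀, div_mul_cancel₀ _ hft,
        div_mul_cancel₀ _ ht]
      rw [add_comm, hz]

end Cfsg.Agent.H56.Inv.Tw
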