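import Cfsg.Agent.H56.Inv.TwCheck

/-!
Reduction of a fixed involution of `U` to a product over orthogonal orbits, driven by a
certificate.
-/
set_option autoImplicit false
set_option maxRecDepth 100000

namespace Cfsg.Agent.H56.Inv.Tw

open Cfsg.Lie Cfsg.Agent.H37 Cfsg.Agent.H37.RootSys Cfsg.Agent.H56.Inv Cfsg.Agent.H56.Inv.Gen

variable {D : ChevalleyDatum} {F : Type*} [Field F] [CharP F 2] {Q : Chev.Data D F}
  (E : TwData Q) {cmb : List (List (List ℕ))}

open TwData

/-- The steps. -/
theorem run_steps (hTb : Tables D Q.K.cf cmb) {K : Orb} (hK : orbB D E.ρ K = true) {t : F}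
    (ht : t ≠ 0) (htK : E.PFix K t) {A : List ℕ} (hA : ∀ a ∈ A, a < D.nroots) {O' : List ℕ} :
    ∀ (steps : List Step) (S : List ℕ), stepsB D E.ρ cmb K A O' steps S = true →
      ∀ y ∈ LS Q S, E.σ y = y → E.el K t * y * (E.el K t * y) = 1 →
        ∃ v : ↥(D.group F), E.σ v = v ∧ (∀ a ∈ A, ∀ s, Commute v (Q.sys.x a s)) ∧
          ∃ y' ∈ LS Q O', E.σ y' = y' ∧ v * (E.el K t * y) * v⁻¹ = E.el K t * y' := by
  intro steps
  induction steps with
  | nil =>
    intro S h y hy hfix _
    simp only [stepsB, List.all_eq_true, List.contains_iff_mem] at h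
    exact ⟨1, map_one _, fun _ _ _ => Commute.one_left _, y, LS_mono Q h hy, hfix, by group⟩
  | cons st rest ih =>
    intro S h y hy hfix hsq
    cases st with
    | kill J m I =>
      simp only [stepsB, Bool.and_eq_true] at h
      obtain ⟨⟨⟨hsplit, hkill⟩, hone⟩, hnext⟩ := h
      have horb : orbB D E.ρ J = true := by
        have h' := hsplit
        simp only [splitB, Bool.and_eq_true] at h'
        exact h'.1.1.1.1.1.1.1.1.1
      obtain ⟨c, hc, q, hq, hqf, e, -⟩ := fixed_split E hTb hsplit hy hfix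
      have h0 := kill_eq E hTb hK horb hkill hq hy e hsq
      have hc0 : c = 0 := by
        have hft : E.φ t ≠ 0 := (map_ne_zero E.φ).2 ht
        unfold oneB at hone
        split at hone
        · next a b hM =>
          rw [hM] at h0
          simp only [Bool.and_eq_true, Bool.or_eq_true, beq_iff_eq] at hone
          obtain ⟨rfl | rfl, rfl | rfl⟩ := hone <;>
            simpa [TwData.vals, ht, hft, map_eq_zero E.φ] using h0
        · exact absurd hone Bool.false_ne_true
      rw [hc0, el_zero E horb, mul_one] at e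
      subst e
      exact ih _ hnext y hq hqf hsq
    | clear J G pre =>
      simp only [stepsB, Bool.and_eq_true, List.all_eq_true, Bool.or_eq_true, beq_iff_eq,
        List.contains_iff_mem] at h
      obtain ⟨⟨⟨⟨⟨⟨⟨⟨⟨hsplit, hG⟩, hok⟩, hseq⟩, hokJ⟩, hJroots⟩, hGA⟩, hroots⟩, hsol⟩, hnext⟩ := h
      have h' := hsplit
      simp only [splitB, Bool.and_eq_true, List.all_eq_true, List.contains_iff_mem] at h'
      obtain ⟨⟨⟨⟨⟨⟨⟨⟨⟨horb, hmem⟩, -⟩, -⟩, -⟩, -⟩, hnormJ⟩, -⟩, -⟩, -⟩ := h'
      obtain ⟨hj1, -⟩ := orbB_spec E horb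
      obtain ⟨c, hc, q, hq, hqf, e, a, ha, ea⟩ := fixed_split E hTb hsplit hy hfix
      obtain ⟨s, hsG, hsum⟩ := exists_sol E hsol ht htK hc fun m I _ hk =>
        kill_eq E hTb hK horb hk hq hy e hsq
      set Ta := S.filter (· != J.1) with hTa
      set v := E.el G s with hv
      have hvv : v * v = 1 := el_sq E hG s
      have hvi : v⁻¹ = v := el_inv E hG s
      obtain ⟨i, hi, ew⟩ := eval_mod (Q := Q) hj1 hnormJ (E.vals s t) (pull D G K) fun p hp =>
        hroots p hp
      have hsum' : (((pull D G K).filter fun p => p.1 == J.1).map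
          fun p => (p.2.map (E.vals s t)).prod).sum = c := by
        rw [← hsum, monsAt, List.map_map]; rfl
      rw [hsum'] at ew
      have ha' := el_conj_LS E hG hseq s ha
      obtain ⟨L2, eL2⟩ := expG_head (D := D) (gvars G 0) (J.1, [2]) []
      have hw2 : ∃ w ∈ LS Q Ta, v * Q.sys.x J.1 c * v = Q.sys.x J.1 c * w := by
        have := eval_expG E hG s (E.vals s c) rfl rfl [(J.1, [2])] hokJ
        rw [eL2, eval_cons, eval_cons, eval_nil, mul_one] at this
        refine ⟨eval Q (E.vals s c) L2, eval_mem _ fun p hp => ?_, by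
          simpa [TwData.vals] using this⟩
        rw [eL2, List.tail_cons] at hJroots
        exact hJroots p hp
      obtain ⟨w, hw, ew2⟩ := hw2
      set y2 := Q.sys.x J.1 c * (i * (v * a * v)) * Q.sys.x J.1 c * w with hy2
      have key : v * (E.el K t * y) * v⁻¹ = E.el K t * y2 := by
        rw [hvi, ea]
        calc v * (E.el K t * (a * Q.sys.x J.1 c)) * v
            = v * E.el K t * 1 * a * 1 * (Q.sys.x J.1 c * v) := by group
          _ = v * E.el K t * (v * v) * a * (v * v) * (Q.sys.x J.1 c * v) := by rw [hvv]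
          _ = (v * E.el K t * v) * (v * a * v) * (v * Q.sys.x J.1 c * v) := by group
          _ = _ := by rw [hv, eval_pull E hG hK hok s t, ← hv, ew2, ew, hy2]; group
      have hy2a : y2 ∈ LS Q Ta := mul_mem (conj_LS Q hj1 hnormJ c (mul_mem hi ha')) hw
      have hvf : E.σ v = v := el_fixed E hG hsG
      have hy2f : E.σ y2 = y2 := by
        have : E.σ (E.el K t * y2) = E.el K t * y2 := by
          rw [← key]; simp [map_mul, hvf, hfix, el_fixed E hK htK]
        rw [map_mul, el_fixed E hK htK] at this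
        exact mul_left_cancel this
      have hy2T : y2 ∈ LS Q (offOrb S J) := by
        obtain ⟨c', -, q', hq', -, e', a', ha'', ea'⟩ := fixed_split E hTb hsplit
          (LS_mono Q (fun r hr => (mem_filter_ne.1 hr).1) hy2a) hy2f
        have : c' = 0 := coord_unique E hTb hsplit ha'' hy2a
          (by rw [← ea', x_zero hj1, mul_one])
        rw [this, el_zero E horb, mul_one] at e'
        rw [e']
        exact hq'
      obtain ⟨u, huf, huc, y', hy', hy'f, e''⟩ := ih _ hnext y2 hy2T hy2f (by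
        rw [← key, show ∀ z X : ↥(D.group F), z * X * z⁻¹ * (z * X * z⁻¹) = z * (X * X) * z⁻¹ from
          fun z X => by group, hsq, mul_one, mul_inv_cancel])
      refine ⟨u * v, by rw [map_mul, huf, hvf], fun a' ha' r => (huc a' ha' r).mul_left
        (el_comm E hG hA (List.all_eq_true.2 hGA) s ha' r), y', hy', hy'f, ?_⟩
      rw [← e'', ← key]
      group

/-- The product of orbit elements with parameter one. -/
theorem prodX_flat (L : List Orb) :
    prodX Q (L.flatMap rts) = (L.map fun o => E.el o 1).prod := by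
  induction L with
  | nil => simp [prodX]
  | cons o L ih =>
    rw [List.flatMap_cons, List.map_cons, List.prod_cons, ← ih, TwData.el]
    unfold rts
    split <;> simp [prodX, mul_assoc]

omit [CharP F 2] E in
theorem getD_suf (sup : List Orb) {i : ℕ} (hi : i < sup.length) :
    suf sup i = rts (sup.getD i (0, 0)) ++ suf sup (i + 1) := by
  rw [suf, List.drop_eq_getElem_cons hi, List.flatMap_cons, List.getD_eq_getElem _ _ hi]
  rfl

omit [CharP F 2] E in
theorem suf_nil (sup : List Orb) {i : ℕ} (hi : sup.length ≤ i) : suf sup i = [] := by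
  rw [suf, List.drop_eq_nil_of_le hi]; rfl

theorem σ_hU {r : ℕ} (hr : r < D.nroots) (hneg : E.ρ (D.neg r) = D.neg (E.ρ r)) {l : F}
    (g g' : ↥(D.group F)) (hg : (g : GL D.Idx F) = Q.K.hU F r l)
    (hg' : (g' : GL D.Idx F) = Q.K.hU F (E.ρ r) (E.φ l)) : E.σ g = g' := by
  have hnr := Q.K.neg_lt hr
  have e : g = Q.sys.x r l * Q.sys.x (D.neg r) (-l⁻¹) * Q.sys.x r l *
      (Q.sys.x r (-1) * Q.sys.x (D.neg r) (-(-1 : F)⁻¹) * Q.sys.x r (-1)) := by
    refine Subtype.ext ?_
    rw [hg, Q.K.hU_eq, Q.K.nU_eq, Q.K.nU_eq]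
    rfl
  have e' : g' = Q.sys.x (E.ρ r) (E.φ l) * Q.sys.x (D.neg (E.ρ r)) (-(E.φ l)⁻¹) *
      Q.sys.x (E.ρ r) (E.φ l) *
      (Q.sys.x (E.ρ r) (-1) * Q.sys.x (D.neg (E.ρ r)) (-(-1 : F)⁻¹) * Q.sys.x (E.ρ r) (-1)) := by
    refine Subtype.ext ?_
    rw [hg', Q.K.hU_eq, Q.K.nU_eq, Q.K.nU_eq]
    rfl
  rw [e, e']
  simp only [map_mul, E.σ_x _ hr, E.σ_x _ hnr, hneg, map_neg, map_inv₀, map_one]

variable (cmb) in
/-- All nodes check, and the symmetry respects negation. -/
def AllNodes (D : ChevalleyDatum) (ρ : ℕ → ℕ) (nodes : List Node) : Prop :=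
  (∀ idx < nodes.length, nodeB D ρ cmb nodes idx = true) ∧
    (List.range D.nroots).all (fun r => decide (ρ (D.neg r) = D.neg (ρ r))) = true

/-- The torus element making the parameter one. -/
theorem exists_torus [Finite F] {K : Orb} (hK : orbB D E.ρ K = true)
    (hneg : ∀ r < D.nroots, E.ρ (D.neg r) = D.neg (E.ρ r))
    (hkk : ∀ k ∈ rts K, pb D k k = 2)
    (horth : K.1 ≠ K.2 → pb D K.1 K.2 = 0 ∧ pb D K.2 K.1 = 0)
    (hcm : K.1 = K.2 ∨ (commB D K.1 [K.2, D.neg K.2] = true ∧
      commB D (D.neg K.1) [K.2, D.neg K.2] = true))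
    {t : F} (ht : t ≠ 0) (htK : E.PFix K t) :
    ∃ H : ↥(D.group F), E.σ H = H ∧ H * E.el K t * H⁻¹ = E.el K 1 ∧
      ∀ r < D.nroots, (∀ k ∈ rts K, pb D k r = 0) → ∀ u, Commute H (Q.sys.x r u) := by
  obtain ⟨h1, h2, h3, h4, hc⟩ := orbB_spec E hK
  obtain ⟨l, hl⟩ := exists_sqrt (F := F) t⁻¹
  have hl0 : l ≠ 0 := fun e => inv_ne_zero ht (by rw [← hl, e]; simp)
  set Ha : ↥(D.group F) :=
    ⟨Q.K.hU F K.1 l, Q.K.wU_mem F fun p _ => Q.K.xU_mem_group F p.1 p.2⟩
  have hfl0 : E.φ l ≠ 0 := (map_ne_zero E.φ).2 hl0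
  have hcomm : ∀ (k : ℕ) (g : ↥(D.group F)) (m : F) (hm : m ≠ 0), k < D.nroots →
      g = ⟨Q.K.hU F k m, Q.K.wU_mem F fun p _ => Q.K.xU_mem_group F p.1 p.2⟩ →
      ∀ r < D.nroots, pb D k r = 0 → ∀ u, Commute g (Q.sys.x r u) := by
    intro k g m hm hk eg r hr hp u
    rw [eg, Commute, SemiconjBy, ← mul_inv_eq_iff_eq_mul, hU_x hk hr hm, hp, zpow_zero, one_mul]
  by_cases he : K.1 = K.2
  · have hfl : E.φ l = l := by
      have h2' : E.φ l ^ 2 = l ^ 2 := by rw [← map_pow, hl, map_inv₀, htK he]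
      have h0 : (E.φ l + l) * (E.φ l + l) = 0 := by
        linear_combination h2' + (l ^ 2 + E.φ l * l) * CharTwo.two_eq_zero (R := F)
      exact CharTwo.add_eq_zero.1 (mul_self_eq_zero.1 h0)
    refine ⟨Ha, σ_hU E h1 (hneg _ h1) Ha Ha rfl (by rw [h3, ← he, hfl]), ?_, fun r hr hp u =>
      hcomm K.1 Ha l hl0 h1 rfl r hr (hp _ (mem_rts.2 (Or.inl rfl))) u⟩
    rw [TwData.el, TwData.el, if_pos he, if_pos he, hU_x h1 h1 hl0,
      hkk _ (mem_rts.2 (Or.inl rfl)), zpow_two, ← pow_two, hl, inv_mul_cancel₀ ht]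
  · set Hb : ↥(D.group F) :=
      ⟨Q.K.hU F K.2 (E.φ l), Q.K.wU_mem F fun p _ => Q.K.xU_mem_group F p.1 p.2⟩
    obtain ⟨o1, o2⟩ := horth he
    obtain ⟨c1, c2⟩ := hcm.resolve_left he
    have hlt : ∀ a ∈ [K.2, D.neg K.2], a < D.nroots := by
      simp [h2, Q.K.neg_lt h2]
    have hab : Commute Ha Hb := by
      have gen : ∀ (k : ℕ), k = K.2 ∨ k = D.neg K.2 → ∀ u, Commute Ha (Q.sys.x k u) := by
        intro k hk u
        have hkm : k ∈ [K.2, D.neg K.2] := by simp [hk]
        have p1 := fun w => comm_of_commB Q h1 hlt c1 hkm w u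
        have p2 := fun w => comm_of_commB Q (Q.K.neg_lt h1) hlt c2 hkm w u
        have e : Ha = Q.sys.x K.1 l * Q.sys.x (D.neg K.1) (-l⁻¹) * Q.sys.x K.1 l *
            (Q.sys.x K.1 (-1) * Q.sys.x (D.neg K.1) (-(-1 : F)⁻¹) * Q.sys.x K.1 (-1)) := by
          refine Subtype.ext ?_
          show Q.K.hU F K.1 l = _
          rw [Q.K.hU_eq, Q.K.nU_eq, Q.K.nU_eq]
          rfl
        rw [e]
        exact (((p1 _).mul_left (p2 _)).mul_left (p1 _)).mul_left
          (((p1 _).mul_left (p2 _)).mul_left (p1 _))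
      have e : Hb = Q.sys.x K.2 (E.φ l) * Q.sys.x (D.neg K.2) (-(E.φ l)⁻¹) * Q.sys.x K.2 (E.φ l) *
          (Q.sys.x K.2 (-1) * Q.sys.x (D.neg K.2) (-(-1 : F)⁻¹) * Q.sys.x K.2 (-1)) := by
        refine Subtype.ext ?_
        show Q.K.hU F K.2 (E.φ l) = _
        rw [Q.K.hU_eq, Q.K.nU_eq, Q.K.nU_eq]
        rfl
      rw [e]
      have g1 := gen K.2 (Or.inl rfl)
      have g2 := gen (D.neg K.2) (Or.inr rfl)
      exact (((g1 _).mul_right (g2 _)).mul_right (g1 _)).mul_right
        (((g1 _).mul_right (g2 _)).mul_right (g1 _))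
    refine ⟨Ha * Hb, ?_, ?_, fun r hr hp u =>
      (hcomm K.1 Ha l hl0 h1 rfl r hr (hp _ (mem_rts.2 (Or.inl rfl))) u).mul_left
        (hcomm K.2 Hb _ hfl0 h2 rfl r hr (hp _ (mem_rts.2 (Or.inr rfl))) u)⟩
    · rw [map_mul, σ_hU E h1 (hneg _ h1) Ha Hb rfl (by rw [h3]),
        σ_hU E h2 (hneg _ h2) Hb Ha rfl (by rw [h4, E.φ_inv]), hab.eq]
    · rw [TwData.el, TwData.el, if_neg he, if_neg he,
        show Ha * Hb * (Q.sys.x K.1 t * Q.sys.x K.2 (E.φ t)) * (Ha * Hb)⁻¹ =
          Ha * (Hb * Q.sys.x K.1 t * Hb⁻¹) * Ha⁻¹ *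
            (Ha * (Hb * Q.sys.x K.2 (E.φ t) * Hb⁻¹) * Ha⁻¹) by group,
        hU_x h2 h1 hfl0, o2, zpow_zero, one_mul, hU_x h1 h1 hl0,
        hkk _ (mem_rts.2 (Or.inl rfl)), hU_x h2 h2 hfl0, hkk _ (mem_rts.2 (Or.inr rfl)),
        hU_x h1 h2 hl0, o1, zpow_zero, one_mul, zpow_two, ← pow_two, hl, inv_mul_cancel₀ ht,
        zpow_two, ← map_mul, ← map_mul, ← pow_two, hl, inv_mul_cancel₀ ht]

/-- The induction along the certificate. -/
theorem exists_list_aux [Finite F] (hTb : Tables D Q.K.cf cmb) {nodes : List Node}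
    (hN : AllNodes cmb D E.ρ nodes) :
    ∀ n idx, idx < nodes.length → nodes.length ≤ idx + n →
      ∀ u ∈ LS Q (suf (nodes.getD idx ⟨[], [], []⟩).sup 0), E.σ u = u → u * u = 1 →
        ∃ c : ↥(D.group F), E.σ c = c ∧
          (∀ a ∈ (nodes.getD idx ⟨[], [], []⟩).piv.flatMap rts, ∀ t, Commute c (Q.sys.x a t)) ∧
          ∃ L : List Orb, (∃ j < nodes.length, ((nodes.getD idx ⟨[], [], []⟩).piv ++ L).Perm
              (nodes.getD j ⟨[], [], []⟩).piv) ∧
            c * u * c⁻¹ = prodX Q (L.flatMap rts) := by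
  have hnegs : ∀ r < D.nroots, E.ρ (D.neg r) = D.neg (E.ρ r) := by
    simpa using hN.2
  intro n
  induction n with
  | zero => intro idx h1 h2; omega
  | succ n ih =>
    intro idx hidx hn
    have hnode := hN.1 idx hidx
    simp only [nodeB, Bool.and_eq_true, decide_eq_true_eq, List.all_eq_true, List.mem_range] at hnode
    set N := nodes.getD idx ⟨[], [], []⟩ with hNdef
    obtain ⟨⟨⟨⟨hpiv, -⟩, -⟩, -⟩, hall⟩ := hnode
    have hA : ∀ a ∈ N.piv.flatMap rts, a < D.nroots := fun a ha => by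
      obtain ⟨o, ho, hao⟩ := List.mem_flatMap.1 ha
      exact rts_lt E (hpiv o ho) a hao
    suffices key : ∀ i, i < N.sup.length → ∀ t : F, t ≠ 0 → E.PFix (N.sup.getD i (0, 0)) t →
        ∀ p ∈ LS Q (suf N.sup (i + 1)), E.σ p = p →
        E.el (N.sup.getD i (0, 0)) t * p * (E.el (N.sup.getD i (0, 0)) t * p) = 1 →
        ∃ c : ↥(D.group F), E.σ c = c ∧
          (∀ a ∈ N.piv.flatMap rts, ∀ t, Commute c (Q.sys.x a t)) ∧
          ∃ L : List Orb, (∃ j < nodes.length,
              (N.piv ++ L).Perm (nodes.getD j ⟨[], [], []⟩).piv) ∧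
            c * (E.el (N.sup.getD i (0, 0)) t * p) * c⁻¹ = prodX Q (L.flatMap rts) by
      suffices scan : ∀ m i, N.sup.length ≤ i + m → ∀ u ∈ LS Q (suf N.sup i), E.σ u = u →
          u * u = 1 →
          ∃ c : ↥(D.group F), E.σ c = c ∧
            (∀ a ∈ N.piv.flatMap rts, ∀ t, Commute c (Q.sys.x a t)) ∧
            ∃ L : List Orb, (∃ j < nodes.length,
                (N.piv ++ L).Perm (nodes.getD j ⟨[], [], []⟩).piv) ∧
              c * u * c⁻¹ = prodX Q (L.flatMap rts) from
        fun u hu => scan N.sup.length 0 (by omega) u hu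
      intro m
      induction m with
      | zero =>
        intro i hi u hu hfu _
        rw [suf_nil _ (by omega), LS_nil, Subgroup.mem_bot] at hu
        exact ⟨1, map_one _, fun _ _ _ => Commute.one_left _, [], ⟨idx, hidx, by simp [N]⟩,
          by simp [hu, prodX]⟩
      | succ m ihm =>
        intro i hi u hu hfu hu2
        by_cases hil : i < N.sup.length
        swap
        · exact ihm i (by omega) u hu hfu hu2
        obtain ⟨⟨⟨hsplit, hsub⟩, hseq⟩, -⟩ := hall i hil
        set o := N.sup.getD i (0, 0)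
        have horb : orbB D E.ρ o = true := by
          have h' := hsplit
          simp only [splitB, Bool.and_eq_true] at h'
          exact h'.1.1.1.1.1.1.1.1.1
        obtain ⟨c, hc, q, hq, hqf, e, -⟩ := fixed_split E hTb hsplit hu hfu
        by_cases hc0 : c = 0
        · rw [hc0, el_zero E horb, mul_one] at e
          subst e
          exact ihm (i + 1) (by omega) u
            (LS_mono Q (fun r hr => by simpa using hsub r hr) hq) hfu hu2
        · have hoo := el_sq E horb c
          have e2 : u = E.el o c * (E.el o c * q * E.el o c) := by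
            rw [e, ← mul_assoc (E.el o c), ← mul_assoc (E.el o c), hoo, one_mul]
          rw [e2] at hu2 hfu ⊢
          refine key i hil c hc0 hc _ (el_conj_LS E horb hseq c hq) ?_ hu2
          rw [map_mul, map_mul, el_fixed E horb hc, hqf]
    intro i
    induction i using Nat.strong_induction_on with
    | _ i ihi =>
    intro hi t ht htK p hp hpf hsq
    obtain ⟨⟨⟨hsplit, -⟩, -⟩, hop⟩ := hall i hi
    set K := N.sup.getD i (0, 0) with hKdef
    have hK : orbB D E.ρ K = true := by
      have h' := hsplit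
      simp only [splitB, Bool.and_eq_true] at h'
      exact h'.1.1.1.1.1.1.1.1.1
    generalize hopdef : N.ops.getD i (.jump (0, 0) 0) = op at hop
    cases op with
    | jump G mi =>
      simp only [opB, Bool.and_eq_true, decide_eq_true_eq, List.all_eq_true, Bool.or_eq_true,
        beq_iff_eq, List.contains_iff_mem] at hop
      obtain ⟨⟨⟨⟨⟨⟨⟨⟨hmi, hG⟩, hok⟩, hGA⟩, hKW⟩, hseq⟩, hroots⟩, hlen⟩, hv4⟩ := hop
      obtain ⟨⟨⟨hsplitm, -⟩, hseqm⟩, -⟩ := hall mi (by omega)
      set m := N.sup.getD mi (0, 0) with hmdef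
      set Wa := (suf N.sup mi).filter (· != m.1)
      have h' := hsplitm
      simp only [splitB, Bool.and_eq_true] at h'
      obtain ⟨⟨⟨⟨⟨⟨⟨⟨⟨hmorb, hmem⟩, -⟩, -⟩, -⟩, -⟩, hnormm⟩, -⟩, -⟩, -⟩ := h'
      obtain ⟨hm1, -⟩ := orbB_spec E hmorb
      obtain ⟨M, hM⟩ := List.length_eq_one_iff.1 hlen
      obtain ⟨i', hi', ew⟩ := eval_mod (Q := Q) hm1 hnormm (E.vals 1 t) (pull D G K) fun p hp =>
        hroots p hp
      set σv := (((pull D G K).filter fun p => p.1 == m.1).map
        fun p => (p.2.map (E.vals 1 t)).prod).sum with hσv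
      have hσ0 : σv ≠ 0 := by
        have e : σv = (M.map (E.vals 1 t)).prod := by
          rw [hσv, show (fun p : Trm => (p.2.map (E.vals 1 t)).prod) =
            (fun M => (M.map (E.vals 1 t)).prod) ∘ Prod.snd from rfl, ← List.map_map,
            show ((pull D G K).filter fun p => p.1 == m.1).map Prod.snd = [M] from hM]
          simp
        rw [e]
        refine List.prod_ne_zero fun hz => ?_
        obtain ⟨v, hv, e0⟩ := List.mem_map.1 hz
        have hv' := hv4 M (by rw [hM]; simp) v hv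
        interval_cases v <;> simp_all [TwData.vals]
      set v := E.el G 1
      have hvi : v⁻¹ = v := el_inv E hG 1
      have hvv : v * v = 1 := el_sq E hG 1
      have hp' := el_conj_LS E hG hseq 1 hp
      have hx := conj_LS Q hm1 hnormm σv
        (el_mem E (fun r hr => hKW r hr) t)
      set z := Q.sys.x m.1 σv
      have hzz : z * z = 1 := x_sq Q hm1 _
      set a' := E.el K t * (z * (i' * (v * p * v)) * z) with ha'
      have key : v * (E.el K t * p) * v⁻¹ = a' * z := by
        rw [hvi]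
        calc v * (E.el K t * p) * v = v * E.el K t * 1 * p * v := by group
          _ = v * E.el K t * (v * v) * p * v := by rw [hvv]
          _ = (v * E.el K t * v) * (v * p * v) * 1 := by group
          _ = (v * E.el K t * v) * (v * p * v) * (z * z) := by rw [hzz]
          _ = _ := by rw [eval_pull E hG hK hok 1 t, ew, ha']; group
      have ha'm : a' ∈ LS Q Wa := mul_mem (el_mem E (fun r hr => hKW r hr) t)
        (conj_LS Q hm1 hnormm σv (mul_mem hi' hp'))
      have hvf : E.σ v = v := el_fixed E hG fun _ => map_one _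
      have hu'f : E.σ (a' * z) = a' * z := by
        rw [← key]; simp [map_mul, hvf, hpf, el_fixed E hK htK]
      obtain ⟨c, hc, q, hq, hqf, e, a, ha, ea⟩ := fixed_split E hTb hsplitm
        (mul_mem (LS_mono Q (fun r hr => (mem_filter_ne.1 hr).1) ha'm)
          (x_mem_LS Q (by simpa using hmem) σv)) hu'f
      have hcσ : c = σv := coord_unique E hTb hsplitm ha ha'm ea.symm
      have hoo := el_sq E hmorb c
      have e2 : a' * z = E.el m c * (E.el m c * q * E.el m c) := by
        rw [e, ← mul_assoc (E.el m c), ← mul_assoc (E.el m c), hoo, one_mul]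
      obtain ⟨d, hdf, hd, L, hL, ed⟩ := ihi mi hmi (by omega) c (hcσ ▸ hσ0) hc _
        (el_conj_LS E hmorb hseqm c hq)
        (by rw [map_mul, map_mul, el_fixed E hmorb hc, hqf]) (by
          rw [← hmdef, ← e2, ← key, show ∀ y X : ↥(D.group F), y * X * y⁻¹ * (y * X * y⁻¹) =
            y * (X * X) * y⁻¹ from fun y X => by group, hsq, mul_one, mul_inv_cancel])
      refine ⟨d * v, by rw [map_mul, hdf, hvf], fun a ha s => (hd a ha s).mul_left
        (el_comm E hG hA (List.all_eq_true.2 hGA) 1 ha s), L, hL, ?_⟩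
      rw [← ed, ← hmdef, ← e2, ← key]
      group
    | piv next steps =>
      simp only [opB, Bool.and_eq_true, decide_eq_true_eq, List.all_eq_true, beq_iff_eq,
        Bool.or_eq_true] at hop
      obtain ⟨⟨⟨⟨⟨⟨hnext, hnextlt⟩, hperm⟩, hkk⟩, hkO'⟩, hcm⟩, hsteps⟩ := hop
      rw [List.isPerm_iff] at hperm
      obtain ⟨v, hvf, hv, y', hy', hy'f, e⟩ := run_steps E hTb hK ht htK hA steps _ hsteps p hp
        hpf hsq
      have hnode' := hN.1 next hnextlt
      simp only [nodeB, Bool.and_eq_true, decide_eq_true_eq, List.all_eq_true] at hnode'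
      have hO'lt := hnode'.1.2
      have hcomm : Commute (E.el K t) y' := by
        have hle : LS Q (suf (nodes.getD next ⟨[], [], []⟩).sup 0) ≤
            Subgroup.centralizer {E.el K t} := XS_le fun r hr u => by
          rw [Subgroup.mem_centralizer_singleton_iff]
          exact (el_comm E hK hO'lt (List.all_eq_true.2 hkO') t (mem_coe_list.1 hr) u).symm.eq
        exact (Subgroup.mem_centralizer_singleton_iff.1 (hle hy')).symm
      have hy2 : y' * y' = 1 := by
        calc y' * y' = E.el K t * E.el K t * (y' * y') := by rw [el_sq E hK, one_mul]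
          _ = E.el K t * (E.el K t * y') * y' := by group
          _ = E.el K t * (y' * E.el K t) * y' := by rw [hcomm.eq]
          _ = E.el K t * y' * (E.el K t * y') := by group
          _ = v * (E.el K t * p) * v⁻¹ * (v * (E.el K t * p) * v⁻¹) := by rw [e]
          _ = v * (E.el K t * p * (E.el K t * p)) * v⁻¹ := by group
          _ = 1 := by rw [hsq]; group
      obtain ⟨c, hcf, hc, L, ⟨j, hj, hLj⟩, ec⟩ := ih next hnextlt (by omega) y' hy' hy'f hy2
      have hmemA : ∀ a ∈ rts K ++ N.piv.flatMap rts,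
          a ∈ (nodes.getD next ⟨[], [], []⟩).piv.flatMap rts := fun a ha =>
        (hperm.flatMap_right rts).mem_iff.1 (by rwa [List.flatMap_cons])
      have hfin := hN.1 j hj
      simp only [nodeB, Bool.and_eq_true, decide_eq_true_eq, List.all_eq_true] at hfin
      have hall' : ((K :: N.piv) ++ L).Perm (nodes.getD j ⟨[], [], []⟩).piv :=
        (hperm.append_right L).trans hLj
      have hpw := ((hall'.flatMap_right rts).pairwise_iff
        (R := fun r s => pb D r s = 0 ∧ pb D s r = 0) (fun h => h.symm)).2 hfin.1.1.1.2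
      rw [List.cons_append, List.flatMap_cons, List.pairwise_append] at hpw
      have horth : K.1 ≠ K.2 → pb D K.1 K.2 = 0 ∧ pb D K.2 K.1 = 0 := fun he => by
        have h1 := hpw.1
        rw [rts, if_neg he] at h1
        simpa using h1
      obtain ⟨H, hHf, hHK, hHc⟩ := exists_torus E hK hnegs hkk horth hcm ht htK
      have hlt : ∀ r ∈ (N.piv ++ L).flatMap rts, r < D.nroots := fun r hr => by
        obtain ⟨o, ho, hro⟩ := List.mem_flatMap.1 hr
        exact rts_lt E (hfin.1.1.1.1 o (hall'.mem_iff.1 (List.mem_cons_of_mem _ ho))) r hro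
      have hHc' : ∀ r ∈ (N.piv ++ L).flatMap rts, ∀ u, Commute H (Q.sys.x r u) := fun r hr u =>
        hHc r (hlt r hr) (fun k hk => (hpw.2.2 k hk r hr).1) u
      have hHL : Commute H (prodX Q (L.flatMap rts)) := by
        refine Commute.list_prod_right _ _ fun z hz => ?_
        obtain ⟨r, hr, rfl⟩ := List.mem_map.1 hz
        exact hHc' r (by rw [List.flatMap_append]; exact List.mem_append_right _ hr) 1
      have hcK : Commute c (E.el K t) := by
        have hcr : ∀ r ∈ rts K, ∀ u, Commute c (Q.sys.x r u) := fun r hr =>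
          hc r (hmemA r (List.mem_append_left _ hr))
        unfold TwData.el
        split
        · exact hcr _ (mem_rts.2 (Or.inl rfl)) _
        · exact (hcr _ (mem_rts.2 (Or.inl rfl)) _).mul_right (hcr _ (mem_rts.2 (Or.inr rfl)) _)
      refine ⟨H * c * v, by rw [map_mul, map_mul, hHf, hcf, hvf], fun a ha s => ?_, K :: L, ⟨j, hj,
        List.perm_middle.trans hall'⟩, ?_⟩
      · exact (((hHc' a (by rw [List.flatMap_append]; exact List.mem_append_left _ ha) s)).mul_left
          (hc a (hmemA a (List.mem_append_right _ ha)) s)).mul_left (hv a ha s)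
      · rw [show H * c * v * (E.el K t * p) * (H * c * v)⁻¹ =
          H * (c * (v * (E.el K t * p) * v⁻¹) * c⁻¹) * H⁻¹ by group, e,
          show c * (E.el K t * y') * c⁻¹ = (c * E.el K t) * (y' * c⁻¹) by group, hcK.eq,
          show E.el K t * c * (y' * c⁻¹) = E.el K t * (c * y' * c⁻¹) by group, ec,
          show H * (E.el K t * prodX Q (L.flatMap rts)) * H⁻¹ =
            (H * E.el K t * H⁻¹) * (H * prodX Q (L.flatMap rts) * H⁻¹) by group, hHK, hHL.eq,
          mul_inv_cancel_right, prodX_flat E, prodX_flat E, List.map_cons, List.prod_cons]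

end Cfsg.Agent.H56.Inv.Tw
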